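import Groth.Agent.DiagSplit.Conj
import Groth.Agent.CoradFil.BaseChange
import Groth.Agent.MultTypeLib.Artin
import Groth.Agent.MultTypeLib.Build
import Mathlib.RingTheory.Bialgebra.TensorProduct
import Mathlib.RingTheory.HopfAlgebra.TensorProduct
import Mathlib.RingTheory.Norm.Defs
import Mathlib.RingTheory.Norm.Basic
import Mathlib.FieldTheory.IsAlgClosed.AlgebraicClosure

/-!
# Base change of extensions of groups of multiplicative type by unipotent groups
-/

universe u

set_option autoImplicit false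
set_option maxHeartbeats 1000000
set_option synthInstance.maxHeartbeats 100000

open TensorProduct WithConv
open Groth.Agent
open scoped Classical

noncomputable section

namespace Groth.Agent.DiagSplit

variable {k : Type u} [Field k]

theorem isMultType_of_isMultTypeConst {B : Type u} [CommRing B] [HopfAlgebra k B]
    (hB : SGA3b.IsMultTypeConst k B) : SGA3b.IsMultType k B := by
  refine ⟨{1}, Ideal.span_singleton_one, fun f hf => ?_⟩
  obtain rfl : f = 1 := hf
  obtain ⟨R', _, _, hff, hd⟩ := hB
  let L := Localization.Away (1 : k)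
  let φ : L →ₐ[k] R' := IsLocalization.liftAlgHom (M := Submonoid.powers (1 : k)) (f := Algebra.ofId k R') fun y => by
    obtain ⟨n, hn⟩ := y.2
    have : (y : k) = 1 := hn.symm.trans (one_pow n)
    rw [this, map_one]
    exact isUnit_one
  letI : Algebra L R' := φ.toRingHom.toAlgebra
  haveI : IsScalarTower k L R' := IsScalarTower.of_algebraMap_eq fun c => (φ.commutes c).symm
  let e : L ≃ₐ[k] k := (IsLocalization.atOne k L).symm
  haveI : Module.FaithfullyFlat L R' := by
    have hb : (algebraMap L R' : L →+* R') = (algebraMap k R').comp (e : L →+* k) :=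
      IsLocalization.ringHom_ext (Submonoid.powers (1 : k)) (RingHom.ext fun c => by
        show φ (algebraMap k L c) = algebraMap k R' (e (algebraMap k L c))
        rw [φ.commutes, e.commutes]
        rfl)
    have h1 : (algebraMap L R').FaithfullyFlat := by
      rw [hb]
      exact RingHom.FaithfullyFlat.stableUnderComposition _ _
        (RingHom.FaithfullyFlat.of_bijective e.bijective) (RingHom.faithfullyFlat_algebraMap_iff.2 hff)
    exact RingHom.faithfullyFlat_algebraMap_iff.1 h1
  exact ⟨R', inferInstance, inferInstance, inferInstance,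
    MultTypeLib.isDiag_congr (MultTypeLib.baseChangeTrans (R := k) L R' B) hd⟩

/-- A group of multiplicative type and of finite type is diagonalizable over an algebraically closed field. -/
theorem isDiag_algClosed {B : Type u} [CommRing B] [HopfAlgebra k B] (hft : Algebra.FiniteType k B)
    (hB : SGA3b.IsMultTypeConst k B) (K : Type u) [Field K] [Algebra k K] [IsAlgClosed K] :
    SGA3b.IsDiag K (K ⊗[k] B) := by
  obtain ⟨L, _, _, _, hd⟩ := MultTypeLib.exists_isDiag_finite k B hft (isMultType_of_isMultTypeConst hB)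
  let f : L →ₐ[k] K := IsAlgClosed.lift
  letI : Algebra L K := f.toRingHom.toAlgebra
  haveI : IsScalarTower k L K := IsScalarTower.of_algebraMap_eq fun c => (f.commutes c).symm
  exact MultTypeLib.isDiag_baseChange L K hd

variable (K : Type u) [Field K] [Algebra k K] {A B : Type u} [CommRing A] [HopfAlgebra k A] [CommRing B]
  [HopfAlgebra k B]

/-- The base change of a bialgebra map. -/
def bc (ψ : B →ₐc[k] A) : K ⊗[k] B →ₐc[K] K ⊗[k] A :=
  Bialgebra.TensorProduct.map (BialgHom.id K K) ψ

theorem bc_tmul (ψ : B →ₐc[k] A) (c : K) (b : B) : bc K ψ (c ⊗ₜ[k] b) = c ⊗ₜ[k] ψ b := rfl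

theorem bc_injective (ψ : B →ₐc[k] A) (hψ : Function.Injective ψ) : Function.Injective (bc K ψ) := by
  have h : ⇑(bc K ψ) = ⇑((ψ : B →ₗ[k] A).lTensor K) := funext fun x => by
    induction x using TensorProduct.induction_on with
    | zero => simp
    | tmul c b => rfl
    | add x y hx hy => simp only [map_add, hx, hy]
  rw [h]
  exact Module.Flat.lTensor_preserves_injective_linearMap _ hψ

/-- The augmentation ideal of the image, spread out. -/
abbrev augMap {R : Type u} [CommRing R] {A B : Type u} [CommRing A] [HopfAlgebra R A] [CommRing B]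
    [HopfAlgebra R B] (ψ : B →ₐc[R] A) : Ideal A :=
  Ideal.map (ψ : B →+* A) (RingHom.ker (Bialgebra.counitAlgHom R B))

theorem includeRight_mem_augMap (ψ : B →ₐc[k] A) {a : A} (ha : a ∈ augMap ψ) :
    (1 : K) ⊗ₜ[k] a ∈ augMap (bc K ψ) := by
  refine (Ideal.map_le_iff_le_comap.mpr (fun b hb => ?_) : augMap ψ ≤
    (augMap (bc K ψ)).comap (Algebra.TensorProduct.includeRight : A →ₐ[k] K ⊗[k] A)) ha
  rw [Ideal.mem_comap, Ideal.mem_comap]
  refine Ideal.mem_map_of_mem (bc K ψ : K ⊗[k] B →+* K ⊗[k] A) (?_ : (1 : K) ⊗ₜ[k] b ∈ _)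
  rw [RingHom.mem_ker]
  show Coalgebra.counit (R := K) ((1 : K) ⊗ₜ[k] b) = 0
  simp [show Coalgebra.counit (R := k) b = 0 from hb]

/-- The map from the kernel to the base change of the kernel. -/
def toKerBar (ψ : B →ₐc[k] A) (J : Ideal A) (hJ : J = augMap ψ) :
    A ⧸ J →ₐ[k] (K ⊗[k] A) ⧸ augMap (bc K ψ) :=
  Ideal.Quotient.liftₐ J (((Ideal.Quotient.mkₐ K (augMap (bc K ψ))).restrictScalars k).comp
    Algebra.TensorProduct.includeRight) fun a ha =>
      Ideal.Quotient.eq_zero_iff_mem.2 (includeRight_mem_augMap K ψ (hJ ▸ ha))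

theorem toKerBar_mk (ψ : B →ₐc[k] A) (J : Ideal A) (hJ : J = augMap ψ) (a : A) :
    toKerBar K ψ J hJ (Ideal.Quotient.mk J a) = Ideal.Quotient.mk _ ((1 : K) ⊗ₜ[k] a) := rfl

theorem isUnipotent_bc (ψ : B →ₐc[k] A) (J : Ideal A) [J.IsHopfIdeal k] (hJ : J = augMap ψ)
    (hU : HopfRep.IsUnipotent k (A ⧸ J)) [(augMap (bc K ψ)).IsHopfIdeal K] :
    HopfRep.IsUnipotent K ((K ⊗[k] A) ⧸ augMap (bc K ψ)) := by
  let π : K ⊗[k] A →ₐc[K] (K ⊗[k] A) ⧸ augMap (bc K ψ) := Bialgebra.Quotient.mkBialgHom _
  let F : K ⊗[k] (A ⧸ J) →ₐ[K] (K ⊗[k] A) ⧸ augMap (bc K ψ) :=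
    Algebra.TensorProduct.lift (Algebra.ofId K _) (toKerBar K ψ J hJ) fun _ _ => Commute.all _ _
  let q : K ⊗[k] A →ₐc[K] K ⊗[k] (A ⧸ J) := bc K (Bialgebra.Quotient.mkBialgHom J)
  have hq : Function.Surjective q := by
    intro x
    induction x using TensorProduct.induction_on with
    | zero => exact ⟨0, map_zero _⟩
    | tmul c t =>
      obtain ⟨a, rfl⟩ := Ideal.Quotient.mk_surjective t
      exact ⟨c ⊗ₜ[k] a, rfl⟩
    | add x y hx hy =>
      obtain ⟨a, rfl⟩ := hx
      obtain ⟨b, rfl⟩ := hy
      exact ⟨a + b, map_add _ _ _⟩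
  have hFq : ∀ z, F (q z) = π z := by
    intro z
    induction z using TensorProduct.induction_on with
    | zero => simp
    | tmul c a =>
      show F (c ⊗ₜ[k] Ideal.Quotient.mk J a) = Ideal.Quotient.mk _ (c ⊗ₜ[k] a)
      rw [show c ⊗ₜ[k] a = (c • ((1 : K) ⊗ₜ[k] a) : K ⊗[k] A) by rw [smul_tmul', smul_eq_mul, mul_one]]
      simp only [F, Algebra.TensorProduct.lift_tmul, toKerBar_mk]
      rw [Algebra.smul_def, map_mul]
      rfl
    | add x y hx hy => simp only [map_add, hx, hy]
  let F' : K ⊗[k] (A ⧸ J) →ₐc[K] (K ⊗[k] A) ⧸ augMap (bc K ψ) := BialgHom.ofAlgHom F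
    (AlgHom.ext fun x => by
      obtain ⟨z, rfl⟩ := hq x
      show Coalgebra.counit (R := K) (F (q z)) = Coalgebra.counit (R := K) (q z)
      rw [hFq, CoalgHomClass.counit_comp_apply, CoalgHomClass.counit_comp_apply])
    (AlgHom.ext fun x => by
      obtain ⟨z, rfl⟩ := hq x
      show Algebra.TensorProduct.map F F (Coalgebra.comul (R := K) (q z)) = Coalgebra.comul (R := K) (F (q z))
      rw [hFq, ← CoalgHomClass.map_comp_comul_apply q z, ← CoalgHomClass.map_comp_comul_apply π z]
      induction Coalgebra.comul (R := K) z using TensorProduct.induction_on with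
      | zero => simp
      | tmul a b => simp only [TensorProduct.map_tmul]; exact congrArg₂ (· ⊗ₜ[K] ·) (hFq a) (hFq b)
      | add a b ha hb => simp only [map_add, ha, hb])
  refine CoradFil.isUnipotent_of_exh (UniPrim.exh_of_surjective F' ?_
    (CoradFil.exh_one_baseChange K (CoradFil.exh_of_isUnipotent hU)))
  intro y
  obtain ⟨z, rfl⟩ := Ideal.Quotient.mk_surjective y
  exact ⟨q z, hFq z⟩

/-- Over an algebraically closed extension there is a retraction. -/
theorem exists_retraction_bc [IsAlgClosed K] [Algebra.FiniteType k A] [Algebra.FiniteType k B]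
    (hB : SGA3b.IsMultTypeConst k B) (ψ : B →ₐc[k] A) (hψ : Function.Injective ψ) (J : Ideal A)
    [J.IsHopfIdeal k] (hJ : J = augMap ψ) (hU : HopfRep.IsUnipotent k (A ⧸ J)) :
    ∃ R : K ⊗[k] A →ₐc[K] K ⊗[k] B, ∀ y, R (bc K ψ y) = y := by
  haveI : (augMap (bc K ψ)).IsHopfIdeal K := MultTypeLib.isHopfIdeal_map_ker (bc K ψ)
  obtain ⟨R, hR⟩ := exists_retraction (isDiag_algClosed inferInstance hB K) (bc K ψ) (bc_injective K ψ hψ)
    (augMap (bc K ψ)) rfl (isUnipotent_bc K ψ J hJ hU)
  exact ⟨R, fun y => DFunLike.congr_fun hR y⟩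

omit [Field k] in
theorem eq_one_of_idem_point {R S k' ι : Type*} [CommRing R] [CommRing S] [Algebra R S] [CommRing k'] [Nontrivial k']
    [Fintype ι] [DecidableEq ι] (b : Module.Basis ι R S) (χ : R →+* k')
    (hR : ∀ e : R, IsIdempotentElem e → e = 0 ∨ e = 1) {F : S} (hF : IsIdempotentElem F)
    (hb : ∀ i l, χ (b.repr (F * b l) i) = if i = l then 1 else 0) : F = 1 := by
  have hmat : (Algebra.leftMulMatrix b F).map χ = 1 := by
    ext i l
    rw [Matrix.map_apply, Algebra.leftMulMatrix_eq_repr_mul, hb, Matrix.one_apply]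
  have hi := hF.map (Algebra.leftMulMatrix b)
  have hN : (Algebra.leftMulMatrix b F).det = 1 := by
    refine (hR _ (hi.map Matrix.detMonoidHom)).resolve_left fun h0' => ?_
    have h0 : (Algebra.leftMulMatrix b F).det = 0 := h0'
    have h := RingHom.map_det χ (Algebra.leftMulMatrix b F)
    rw [h0, map_zero, RingHom.mapMatrix_apply, hmat, Matrix.det_one] at h
    exact zero_ne_one h
  refine Algebra.leftMulMatrix_injective b ?_
  rw [map_one]
  exact (IsIdempotentElem.iff_eq_one_of_isUnit ((Matrix.isUnit_iff_isUnit_det _).2 (hN ▸ isUnit_one))).1 hi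

/-- A connected algebra with a rational point stays connected under algebraic extensions. -/
theorem idem_eq_one {R : Type u} [CommRing R] [Algebra k R] (χ : R →ₐ[k] k)
    (hR : ∀ e : R, IsIdempotentElem e → e = 0 ∨ e = 1) [Algebra.IsAlgebraic k K] {E : K ⊗[k] R}
    (hE : IsIdempotentElem E) (h1 : Algebra.TensorProduct.map (AlgHom.id k K) χ E = 1) : E = 1 := by
  obtain ⟨S, hS⟩ := TensorProduct.exists_finset E
  let L : IntermediateField k K := IntermediateField.adjoin k ((S.image Prod.fst : Finset K) : Set K)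
  haveI : FiniteDimensional k L := IntermediateField.finiteDimensional_adjoin fun x _ =>
    (Algebra.IsAlgebraic.isAlgebraic x).isIntegral
  let ι : L →ₐ[k] K := L.val
  let ιR : R ⊗[k] L →ₐ[k] K ⊗[k] R :=
    (Algebra.TensorProduct.map ι (AlgHom.id k R)).comp (Algebra.TensorProduct.comm k R L).toAlgHom
  have hιR : Function.Injective ιR := by
    have h : ⇑(Algebra.TensorProduct.map ι (AlgHom.id k R)) = ⇑(ι.toLinearMap.rTensor R) := rfl
    show Function.Injective (⇑(Algebra.TensorProduct.map ι (AlgHom.id k R)) ∘ ⇑(Algebra.TensorProduct.comm k R L))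
    rw [h]
    exact (Module.Flat.rTensor_preserves_injective_linearMap _ Subtype.val_injective).comp
      (Algebra.TensorProduct.comm k R L).injective
  obtain ⟨F, hF⟩ : ∃ F, ιR F = E := by
    refine ⟨∑ p ∈ S.attach, p.1.2 ⊗ₜ[k] ⟨p.1.1, IntermediateField.subset_adjoin k _
      (Finset.mem_coe.2 (Finset.mem_image_of_mem _ p.2))⟩, ?_⟩
    rw [map_sum, hS, ← Finset.sum_attach S (fun p => p.1 ⊗ₜ[k] p.2)]
    rfl
  have hFi : IsIdempotentElem F := hιR (by rw [map_mul, hF]; exact hE)
  let χ' : R ⊗[k] L →ₐ[k] L := (Algebra.TensorProduct.lid k L).toAlgHom.comp (Algebra.TensorProduct.map χ (AlgHom.id k L))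
  have hF1 : χ' F = 1 := by
    apply Subtype.val_injective
    have h : ∀ z, ι (χ' z) = Algebra.TensorProduct.rid k k K (Algebra.TensorProduct.map (AlgHom.id k K) χ (ιR z)) := by
      intro z
      induction z using TensorProduct.induction_on with
      | zero => simp
      | tmul r l => simp [χ', ιR, Algebra.smul_def]
      | add x y hx hy => simp only [map_add, hx, hy]
    show ι (χ' F) = _
    rw [h, hF, h1, map_one]
    rfl
  let b := Algebra.TensorProduct.basis R (Module.finBasis k L)
  have hb : ∀ (z : R ⊗[k] L) i, χ (b.repr z i) = (Module.finBasis k L).repr (χ' z) i := by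
    intro z i
    induction z using TensorProduct.induction_on with
    | zero => simp
    | tmul r l => simp [b, χ', mul_comm]
    | add x y hx hy => simp only [map_add, Finsupp.add_apply, hx, hy]
  have hF' : F = 1 := eq_one_of_idem_point (S := R ⊗[k] L) b (χ : R →+* k) hR hFi fun i l => by
    refine (hb _ i).trans ?_
    rw [map_mul, hF1, one_mul, show χ' (b l) = Module.finBasis k L l by simp [b, χ'], Module.Basis.repr_self,
      Finsupp.single_apply]
    simp only [eq_comm]
  rw [← hF, hF']
  exact ιR.toRingHom.map_one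

end Groth.Agent.DiagSplit
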