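import Groth.Agent.DiagSplit.Conj
import Groth.Agent.LieKol.Affine
import Groth.Agent.ComodLib.Rosenlicht
import Mathlib.Topology.NoetherianSpace
import Mathlib.RingTheory.Spectrum.Prime.Noetherian

/-!
# Extensions of a smooth connected unipotent group by a diagonalizable group
-/

universe u

set_option autoImplicit false
set_option maxHeartbeats 1000000
set_option synthInstance.maxHeartbeats 100000

open TensorProduct WithConv
open Groth.Agent Groth.Agent.ComodLib
open scoped Classical

noncomputable section

namespace Groth.Agent.DiagSplit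

variable {K : Type u} [Field K]

theorem comul_eq_of_groupLike_span {T : Type u} [CommRing T] [HopfAlgebra K T]
    (h : Submodule.span K {g : T | IsGroupLikeElem K g} = ⊤) : Coalgebra.IsCocomm K T := by
  refine ⟨LinearMap.ext_on h fun g hg => ?_⟩
  simp [show Coalgebra.comul (R := K) g = g ⊗ₜ[K] g from hg.comul_eq_tmul_self]

/-- Group-likes of a unipotent Hopf algebra are trivial. -/
theorem groupLike_eq_one_of_exh {C : Type u} [CommRing C] [Bialgebra K C]
    (h : CoradFil.Exh (Submodule.span K {(1 : C)})) {g : C} (hg : IsGroupLikeElem K g) : g = 1 := by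
  obtain ⟨r, hr⟩ := h g
  have hspan : g ∈ Submodule.span K {(1 : C)} := by
    induction r with
    | zero => exact hr
    | succ r ih =>
      by_contra hne
      obtain ⟨φ, hφg, hφ1⟩ := Submodule.exists_dual_map_eq_bot_of_notMem hne inferInstance
      have hφ : ∀ s ∈ Submodule.span K {(1 : C)}, φ s = 0 := fun s hs => by
        have := Submodule.mem_map_of_mem (f := φ) hs
        rw [hφ1] at this
        exact this
      have hr' : Coalgebra.comul (R := K) g ∈
          LinearMap.range ((CoradFil.wedge (Submodule.span K {(1 : C)}) r).subtype.rTensor C) ⊔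
            LinearMap.range ((Submodule.span K {(1 : C)}).subtype.lTensor C) := hr
      obtain ⟨x, ⟨x', rfl⟩, y, ⟨y', rfl⟩, hxy⟩ := Submodule.mem_sup.1 hr'
      have h1 := congrArg (fun z => TensorProduct.rid K C (φ.lTensor C z)) hxy
      simp only [map_add, hg.comul_eq_tmul_self, LinearMap.lTensor_tmul, TensorProduct.rid_tmul] at h1
      have e2 : TensorProduct.rid K C (φ.lTensor C ((Submodule.span K {(1 : C)}).subtype.lTensor C y')) = 0 := by
        clear hxy h1
        induction y' using TensorProduct.induction_on with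
        | zero => simp
        | tmul p q => simp [hφ q q.2]
        | add p q hp hq => simp only [map_add, hp, hq, add_zero]
      have e1 : TensorProduct.rid K C (φ.lTensor C ((CoradFil.wedge (Submodule.span K {(1 : C)}) r).subtype.rTensor C x')) ∈
          CoradFil.wedge (Submodule.span K {(1 : C)}) r := by
        clear hxy h1
        induction x' using TensorProduct.induction_on with
        | zero => simp
        | tmul p q => simpa using Submodule.smul_mem _ (φ q) p.2
        | add p q hp hq => simp only [map_add]; exact add_mem hp hq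
      rw [e2, add_zero] at h1
      rw [h1] at e1
      exact hne (ih ((Submodule.smul_mem_iff _ hφg).1 e1))
  obtain ⟨c, rfl⟩ := Submodule.mem_span_singleton.1 hspan
  have := hg.counit_eq_one
  rw [map_smul, Bialgebra.counit_one, smul_eq_mul, mul_one] at this
  rw [this, one_smul]

variable {A C : Type u} [CommRing A] [HopfAlgebra K A] [Algebra.FiniteType K A]
  [CommRing C] [HopfAlgebra K C] [Algebra.FiniteType K C]

variable (ψ : C →ₐc[K] A) {T : Type u} [CommRing T] [HopfAlgebra K T] (π : A →ₐc[K] T)

/-- `π : A → T` is the restriction to the kernel of `ψ`. -/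
structure IsKer : Prop where
  surj : Function.Surjective π
  mem : ∀ x, π x = 0 ↔ x ∈ Ideal.map (ψ : C →+* A) (RingHom.ker (Bialgebra.counitAlgHom K C))

variable {ψ π}

omit [Algebra.FiniteType K A] [Algebra.FiniteType K C] in
theorem IsKer.apply (hπ : IsKer ψ π) (x : C) : π (ψ x) = algebraMap K T (Coalgebra.counit (R := K) x) := by
  rw [← (π : A →ₐ[K] T).commutes, ← sub_eq_zero]
  show π (ψ x) - π (algebraMap K A _) = 0
  rw [← map_sub, hπ.mem, ← (ψ : C →ₐ[K] A).commutes]
  show ψ x - ψ (algebraMap K C _) ∈ _
  rw [← map_sub]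
  exact Ideal.mem_map_of_mem (ψ : C →+* A) (show x - algebraMap K C (Coalgebra.counit (R := K) x) ∈ RingHom.ker _ by
    simp [RingHom.mem_ker])

omit [Algebra.FiniteType K A] [Algebra.FiniteType K C] in
theorem IsKer.exists_factor (hπ : IsKer ψ π) {S : Type u} [CommRing S] [Algebra K S] (f : A →ₐ[K] S)
    (hf : ∀ y, Coalgebra.counit (R := K) y = 0 → f (ψ y) = 0) : ∃ g : T →ₐ[K] S, ∀ x, g (π x) = f x := by
  have hle : RingHom.ker (π : A →ₐ[K] T) ≤ RingHom.ker f := fun x hx =>
    (Ideal.map_le_iff_le_comap.mpr (fun y hy => hf y hy) : _ ≤ RingHom.ker f.toRingHom) ((hπ.mem x).1 hx)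
  let e := Ideal.quotientKerAlgEquivOfSurjective (f := (π : A →ₐ[K] T)) hπ.surj
  refine ⟨(Ideal.Quotient.liftₐ _ f hle).comp e.symm.toAlgHom, fun x => ?_⟩
  have h : e (Ideal.Quotient.mk _ x) = π x := rfl
  show Ideal.Quotient.liftₐ _ f hle (e.symm (π x)) = f x
  rw [← h, e.symm_apply_apply]
  rfl

omit [Algebra.FiniteType K A] in
theorem pull_comm [Coalgebra.IsCocomm K T] {R : Type u} [CommRing R] [Algebra K R]
    (a b : WithConv (T →ₐ[K] R)) : pull π a * pull π b = pull π b * pull π a := by
  rw [← map_mul, ← map_mul, mul_comm]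

variable (π)

/-- Invariance under the kernel. -/
def resR : A →ₗ[K] A ⊗[K] T := (π : A →ₗ[K] T).lTensor A ∘ₗ Coalgebra.comul

variable {π}

theorem mem_range_of_resR (hπ : IsKer ψ π) (hψ : Function.Injective ψ) {c : A}
    (h : resR π c = c ⊗ₜ[K] (1 : T)) : c ∈ Set.range ψ := by
  refine UniPrim.mem_range_of_comul_sub_mem ψ hψ c ?_
  refine LinearMap.mem_range.2 ((lTensor_exact A
    (f := ((Ideal.map (ψ : C →+* A) (RingHom.ker (Bialgebra.counitAlgHom K C))).restrictScalars K).subtype)
    (g := (π : A →ₗ[K] T)) ?_ hπ.surj _).1 ?_)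
  · intro t
    exact ⟨fun ht => ⟨⟨t, (hπ.mem t).1 ht⟩, rfl⟩, fun ⟨t', ht'⟩ => ht' ▸ (hπ.mem _).2 t'.2⟩
  rw [map_sub, sub_eq_zero, LinearMap.lTensor_tmul]
  refine h.trans ?_
  exact congrArg (fun t => c ⊗ₜ[K] t) (map_one π).symm

omit [Algebra.FiniteType K A] [Algebra.FiniteType K C] in
theorem resR_mul (a b : A) : resR π (a * b) = resR π a * resR π b := by
  have h : ∀ z, (π : A →ₗ[K] T).lTensor A z =
      Algebra.TensorProduct.map (AlgHom.id K A) (π : A →ₐ[K] T) z := fun z => by
    induction z using TensorProduct.induction_on with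
    | zero => simp
    | tmul p q => rfl
    | add p q hp hq => simp only [map_add, hp, hq]
  simp only [resR, LinearMap.comp_apply, h, Bialgebra.comul_mul, map_mul]

/-- The kernel is central. -/
theorem resR_comm (hπ : IsKer ψ π) (hψ : Function.Injective ψ) (hC : ∀ e : C, IsIdempotentElem e → e = 0 ∨ e = 1)
    (hspan : Submodule.span K {g : T | IsGroupLikeElem K g} = ⊤) (a : A) :
    resR π a = TensorProduct.comm K T A ((π : A →ₗ[K] T).rTensor A (Coalgebra.comul (R := K) a)) := by
  haveI := comul_eq_of_groupLike_span hspan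
  let L : A →ₐ[K] A ⊗[K] T := Algebra.TensorProduct.includeLeft
  let Rp : A →ₐ[K] A ⊗[K] T := (Algebra.TensorProduct.includeRight : T →ₐ[K] A ⊗[K] T).comp (π : A →ₐ[K] T)
  let X : WithConv (A →ₐ[K] A ⊗[K] T) := toConv L
  let Y : WithConv (A →ₐ[K] A ⊗[K] T) := toConv Rp
  let Xi : WithConv (A →ₐ[K] A ⊗[K] T) := X⁻¹
  have hXXi : X * Xi = 1 := mul_inv_cancel X
  have hXiX : Xi * X = 1 := inv_mul_cancel X
  let W : WithConv (A →ₐ[K] A ⊗[K] T) := X * Y * Xi
  have hpush : ∀ {R' : Type u} [CommRing R'] [Algebra K R'] (u v : A ⊗[K] T →ₐ[K] R'),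
      LieKol.push (A := A) u X = LieKol.push (A := A) v X →
        LieKol.push (A := A) u Xi = LieKol.push (A := A) v Xi := by
    intro R' _ _ u v huv
    refine left_inv_eq_right_inv (a := LieKol.push (A := A) u X) ?_ ?_
    · rw [← map_mul, hXiX, map_one]
    · rw [huv, ← map_mul, hXXi, map_one]
  have hW23' : ∀ {R' : Type u} [CommRing R'] [Algebra K R'] (g j₂ j₃ : A ⊗[K] T →ₐ[K] R'),
      LieKol.push (A := A) j₂ X = LieKol.push (A := A) g X →
      LieKol.push (A := A) j₃ X = LieKol.push (A := A) g X →
      LieKol.push (A := A) g Y = LieKol.push (A := A) j₂ Y * LieKol.push (A := A) j₃ Y →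
      LieKol.push (A := A) g W = LieKol.push (A := A) j₂ W * LieKol.push (A := A) j₃ W := by
    intro R' _ _ g j₂ j₃ h2 h3 hY'
    have hc : ∀ z, LieKol.push (A := A) g Xi * (LieKol.push (A := A) g X * z) = z := fun z => by
      rw [← mul_assoc, ← map_mul, hXiX, map_one, one_mul]
    simp only [W, map_mul, hY', h2, h3, hpush j₂ g h2, hpush j₃ g h3, mul_assoc, hc]
  have hW1' : ∀ {R' : Type u} [CommRing R'] [Algebra K R'] (g j₁ : A ⊗[K] T →ₐ[K] R')
      (H Y' : WithConv (A →ₐ[K] R')),
      LieKol.push (A := A) g X = LieKol.push (A := A) j₁ X * H →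
      LieKol.push (A := A) g Y = Y' → LieKol.push (A := A) j₁ Y = Y' → H * Y' = Y' * H →
      LieKol.push (A := A) g W = LieKol.push (A := A) j₁ W := by
    intro R' _ _ g j₁ H Y' hX' hY₁ hY₂ hc
    have e : H * LieKol.push (A := A) g Xi = LieKol.push (A := A) j₁ Xi := by
      refine left_inv_eq_right_inv (a := LieKol.push (A := A) j₁ X) ?_ ?_ |>.symm
      · rw [← map_mul, hXiX, map_one]
      · rw [← mul_assoc, ← hX', ← map_mul, hXXi, map_one]
    simp only [W, map_mul, hX', hY₁, hY₂, mul_assoc]
    rw [← mul_assoc H, hc, mul_assoc, e]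
  have hYψ : pull ψ Y = 1 := by
    refine WithConv.ext (AlgHom.ext fun c => ?_)
    show (1 : A) ⊗ₜ[K] π (ψ c) = (1 : WithConv (C →ₐ[K] A ⊗[K] T)) c
    rw [hπ.apply, AlgHom.convOne_apply, Algebra.TensorProduct.algebraMap_apply, Algebra.algebraMap_eq_smul_one,
      Algebra.algebraMap_eq_smul_one, TensorProduct.smul_tmul]
  have hWψ : pull ψ W = 1 := by
    rw [map_mul, map_mul, hYψ, mul_one, ← map_mul, hXXi, map_one]
  obtain ⟨w, hwπ⟩ := hπ.exists_factor W.ofConv fun y hy => by
    refine (AlgHom.congr_fun (congrArg WithConv.ofConv hWψ) y).trans ?_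
    rw [show (1 : WithConv (C →ₐ[K] A ⊗[K] T)).ofConv y = _ from AlgHom.convOne_apply y, hy, map_zero]
  let b : Module.Basis {g : T // IsGroupLikeElem K g} K T :=
    Module.Basis.mk (v := fun g : {g : T // IsGroupLikeElem K g} => (g : T))
      linearIndepOn_isGroupLikeElem (by rw [Subtype.range_coe_subtype]; exact hspan.ge)
  have hw : ∀ m : {g : T // IsGroupLikeElem K g}, w (m : T) = (1 : A) ⊗ₜ[K] (m : T) := by
    intro m
    obtain ⟨a₀, ha₀⟩ := hπ.surj (m : T)
    have hWm : w (m : T) = W.ofConv a₀ := by rw [← ha₀, hwπ]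
    let Φ : A ⊗[K] T ≃ₗ[K] ({g : T // IsGroupLikeElem K g} →₀ A) :=
      (TensorProduct.congr (LinearEquiv.refl K A) b.repr).trans (TensorProduct.finsuppScalarRight K K A _)
    let cs := Φ (w (m : T))
    have hcs : w (m : T) = ∑ n ∈ cs.support, cs n ⊗ₜ[K] (n : T) := by
      apply Φ.injective
      rw [map_sum]
      conv_lhs => rw [show Φ (w (m : T)) = cs from rfl, ← Finsupp.sum_single cs, Finsupp.sum]
      refine Finset.sum_congr rfl fun n _ => Finsupp.ext fun i => ?_
      have hb : b.repr (n : T) = Finsupp.single n 1 := by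
        rw [show (n : T) = b n from (Module.Basis.mk_apply _ _ n).symm, b.repr_self]
      simp [Φ, hb, Finsupp.single_apply]
    have hδ : ∀ n n' : {g : T // IsGroupLikeElem K g}, b.coord n (n' : T) = if n' = n then 1 else 0 := fun n n' => by
      rw [show (n' : T) = b n' from (Module.Basis.mk_apply _ _ n').symm, Module.Basis.coord_apply, b.repr_self,
        Finsupp.single_apply]
    -- total
    have hone : ∑ n ∈ cs.support, cs n = 1 := by
      let f : A ⊗[K] T →ₐ[K] A :=
        (Algebra.TensorProduct.rid K K A).toAlgHom.comp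
          (Algebra.TensorProduct.map (AlgHom.id K A) (Bialgebra.counitAlgHom K T))
      have hY : LieKol.push (A := A) f Y = 1 := by
        refine WithConv.ext (AlgHom.ext fun x => ?_)
        show f ((1 : A) ⊗ₜ[K] π x) = (1 : WithConv (A →ₐ[K] A)) x
        rw [AlgHom.convOne_apply]
        simp [f, Algebra.algebraMap_eq_smul_one, CoalgHomClass.counit_comp_apply]
      have h1 : LieKol.push (A := A) f W = 1 := by
        rw [map_mul, map_mul, hY, mul_one, ← map_mul, hXXi, map_one]
      have h2 := AlgHom.congr_fun (congrArg WithConv.ofConv h1) a₀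
      rw [show (LieKol.push (A := A) f W).ofConv a₀ = f (W.ofConv a₀) from rfl, ← hWm, hcs, map_sum,
        show (1 : WithConv (A →ₐ[K] A)).ofConv a₀ = _ from AlgHom.convOne_apply a₀,
        ← CoalgHomClass.counit_comp_apply π a₀, show π a₀ = (m : T) from ha₀, m.2.counit_eq_one, map_one] at h2
      refine Eq.trans (Finset.sum_congr rfl fun n _ => ?_) h2
      simp [f, n.2.counit_eq_one]
    -- orthogonal
    have hmul : ∀ n n', cs n * cs n' = if n = n' then cs n else 0 := by
      intro n n'
      let g : A ⊗[K] T →ₐ[K] A ⊗[K] (T ⊗[K] T) := Algebra.TensorProduct.map (AlgHom.id K A) (Bialgebra.comulAlgHom K T)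
      let j₂ : A ⊗[K] T →ₐ[K] A ⊗[K] (T ⊗[K] T) :=
        Algebra.TensorProduct.map (AlgHom.id K A) Algebra.TensorProduct.includeLeft
      let j₃ : A ⊗[K] T →ₐ[K] A ⊗[K] (T ⊗[K] T) :=
        Algebra.TensorProduct.map (AlgHom.id K A) Algebra.TensorProduct.includeRight
      have hX2 : LieKol.push (A := A) j₂ X = LieKol.push (A := A) g X := by
        refine WithConv.ext (AlgHom.ext fun x => ?_)
        show x ⊗ₜ[K] ((1 : T) ⊗ₜ[K] (1 : T)) = x ⊗ₜ[K] Coalgebra.comul (R := K) (1 : T)
        rw [Bialgebra.comul_one]
        rfl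
      have hX3 : LieKol.push (A := A) j₃ X = LieKol.push (A := A) g X := by
        refine WithConv.ext (AlgHom.ext fun x => ?_)
        show x ⊗ₜ[K] ((1 : T) ⊗ₜ[K] (1 : T)) = x ⊗ₜ[K] Coalgebra.comul (R := K) (1 : T)
        rw [Bialgebra.comul_one]
        rfl
      have hY23 : LieKol.push (A := A) g Y = LieKol.push (A := A) j₂ Y * LieKol.push (A := A) j₃ Y := by
        let i : T ⊗[K] T →ₐ[K] A ⊗[K] (T ⊗[K] T) := Algebra.TensorProduct.includeRight
        have h := congrArg (LieKol.push (A := A) i) (comul_comp_bialgHom π)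
        rw [map_mul] at h
        refine Eq.trans ?_ (h.trans ?_)
        · exact WithConv.ext (AlgHom.ext fun x => rfl)
        · exact congrArg₂ (· * ·) (WithConv.ext (AlgHom.ext fun x => rfl)) (WithConv.ext (AlgHom.ext fun x => rfl))
      have hW23 := hW23' g j₂ j₃ hX2 hX3 hY23
      have h := AlgHom.congr_fun (congrArg WithConv.ofConv hW23) a₀
      rw [show (LieKol.push (A := A) g W).ofConv a₀ = g (W.ofConv a₀) from rfl, ← hWm] at h
      let F := (Algebra.TensorProduct.lift (j₂.comp w) (j₃.comp w) fun _ _ => Commute.all _ _)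
      have h' : (LieKol.push (A := A) j₂ W * LieKol.push (A := A) j₃ W).ofConv a₀ = F (Coalgebra.comul (R := K) (π a₀)) := by
        rw [← CoalgHomClass.map_comp_comul_apply π a₀, AlgHom.convMul_def]
        simp only [ofConv_toConv, AlgHom.comp_apply, Bialgebra.comulAlgHom_apply]
        induction Coalgebra.comul (R := K) a₀ using TensorProduct.induction_on with
        | zero => simp
        | tmul p q => simp [F, hwπ]; rfl
        | add p q hp hq => simp only [map_add, hp, hq]
      rw [h', show π a₀ = (m : T) from ha₀, m.2.comul_eq_tmul_self, Algebra.TensorProduct.lift_tmul, AlgHom.comp_apply,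
        AlgHom.comp_apply, hcs, map_sum, map_sum, map_sum, Finset.sum_mul_sum] at h
      let D : A ⊗[K] (T ⊗[K] T) →ₗ[K] A :=
        (TensorProduct.rid K A).toLinearMap ∘ₗ
          ((LinearMap.mul' K K) ∘ₗ TensorProduct.map (b.coord n) (b.coord n')).lTensor A
      have h2 := congrArg D h
      simp only [map_sum, g, j₂, j₃, D, Algebra.TensorProduct.map_tmul, AlgHom.id_apply,
        Algebra.TensorProduct.tmul_mul_tmul, Algebra.TensorProduct.includeLeft_apply,
        Algebra.TensorProduct.includeRight_apply, Bialgebra.comulAlgHom_apply, mul_one, one_mul,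
        LinearMap.comp_apply, LinearEquiv.coe_coe, LinearMap.lTensor_tmul, TensorProduct.map_tmul,
        LinearMap.mul'_apply, TensorProduct.rid_tmul, hδ, fun x : {g : T // IsGroupLikeElem K g} => x.2.comul_eq_tmul_self,
        ite_mul, zero_mul, one_mul, ite_smul, zero_smul, one_smul] at h2
      simp only [Finset.sum_ite_eq', Finsupp.mem_support_iff, Finset.sum_ite_irrel, Finset.sum_const_zero] at h2
      by_cases hn : cs n = 0
      · simp [hn]
      by_cases hn' : cs n' = 0
      · rw [hn', mul_zero]
        split_ifs with e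
        · exact absurd (e ▸ hn') hn
        · rfl
      simp only [hn, hn', ne_eq, not_false_eq_true, if_true] at h2
      rw [← h2]
    -- invariant coefficients
    have hinv : ∀ n, resR π (cs n) = cs n ⊗ₜ[K] (1 : T) := by
      intro n
      let D : A →ₐ[K] A ⊗[K] T :=
        (Algebra.TensorProduct.map (AlgHom.id K A) (π : A →ₐ[K] T)).comp (Bialgebra.comulAlgHom K A)
      let g : A ⊗[K] T →ₐ[K] (A ⊗[K] T) ⊗[K] T := Algebra.TensorProduct.map D (AlgHom.id K T)
      let j₁ : A ⊗[K] T →ₐ[K] (A ⊗[K] T) ⊗[K] T :=
        Algebra.TensorProduct.map Algebra.TensorProduct.includeLeft (AlgHom.id K T)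
      let t₂ : T →ₐ[K] (A ⊗[K] T) ⊗[K] T :=
        (Algebra.TensorProduct.includeLeft : A ⊗[K] T →ₐ[K] _).comp Algebra.TensorProduct.includeRight
      let t₃ : T →ₐ[K] (A ⊗[K] T) ⊗[K] T := Algebra.TensorProduct.includeRight
      let H₂ := pull π (toConv t₂)
      let Y₃ := pull π (toConv t₃)
      have hY : LieKol.push (A := A) g Y = Y₃ := by
        refine WithConv.ext (AlgHom.ext fun x => ?_)
        show D (1 : A) ⊗ₜ[K] π x = ((1 : A ⊗[K] T)) ⊗ₜ[K] π x
        rw [map_one]
      have hY' : LieKol.push (A := A) j₁ Y = Y₃ := WithConv.ext (AlgHom.ext fun x => rfl)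
      have hX : LieKol.push (A := A) g X = LieKol.push (A := A) j₁ X * H₂ := by
        refine WithConv.ext (AlgHom.ext fun x => ?_)
        rw [AlgHom.convMul_def]
        show D x ⊗ₜ[K] (1 : T) = _
        simp only [D, H₂, ofConv_toConv, AlgHom.comp_apply, Bialgebra.comulAlgHom_apply]
        induction Coalgebra.comul (R := K) x using TensorProduct.induction_on with
        | zero => simp
        | tmul p q =>
          simp only [Algebra.TensorProduct.map_tmul, Algebra.TensorProduct.lmul'_apply_tmul, AlgHom.id_apply]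
          show _ = ((p ⊗ₜ[K] (1 : T)) ⊗ₜ[K] (1 : T)) * (((1 : A) ⊗ₜ[K] π q) ⊗ₜ[K] (1 : T))
          simp [Algebra.TensorProduct.tmul_mul_tmul]
        | add p q hp hq => simp only [map_add, TensorProduct.add_tmul, hp, hq]
      have hW := hW1' g j₁ H₂ Y₃ hX hY hY' (pull_comm _ _)
      have h := AlgHom.congr_fun (congrArg WithConv.ofConv hW) a₀
      rw [show (LieKol.push (A := A) g W).ofConv a₀ = g (W.ofConv a₀) from rfl,
        show (LieKol.push (A := A) j₁ W).ofConv a₀ = j₁ (W.ofConv a₀) from rfl, ← hWm, hcs, map_sum, map_sum] at h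
      have h2 := congrArg (fun z => TensorProduct.rid K (A ⊗[K] T) ((b.coord n).lTensor (A ⊗[K] T) z)) h
      simp only [map_sum, g, j₁, Algebra.TensorProduct.map_tmul, AlgHom.id_apply, LinearMap.lTensor_tmul,
        TensorProduct.rid_tmul, hδ, ite_smul, zero_smul, one_smul, Finset.sum_ite_eq',
        Algebra.TensorProduct.includeLeft_apply] at h2
      by_cases hn : cs n = 0
      · simp [hn]
      rw [if_pos (Finsupp.mem_support_iff.2 hn), if_pos (Finsupp.mem_support_iff.2 hn)] at h2
      refine Eq.trans ?_ h2
      show resR π (cs n) = D (cs n)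
      simp only [resR, D, LinearMap.comp_apply, AlgHom.comp_apply, Bialgebra.comulAlgHom_apply]
      induction Coalgebra.comul (R := K) (cs n) using TensorProduct.induction_on with
      | zero => simp
      | tmul p q => rfl
      | add p q hp hq => simp only [map_add, hp, hq]
    -- augmentation
    have hε : ∀ n, Bialgebra.counitAlgHom K A (cs n) = if n = m then 1 else 0 := by
      let f : A ⊗[K] T →ₐ[K] T := (Algebra.TensorProduct.lid K T).toAlgHom.comp
        (Algebra.TensorProduct.map (Bialgebra.counitAlgHom K A) (AlgHom.id K T))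
      have hX : LieKol.push (A := A) f X = 1 := by
        refine WithConv.ext (AlgHom.ext fun x => ?_)
        show f (x ⊗ₜ[K] (1 : T)) = (1 : WithConv (A →ₐ[K] T)) x
        rw [AlgHom.convOne_apply]
        simp [f, Algebra.algebraMap_eq_smul_one]
      have hXi : LieKol.push (A := A) f Xi = 1 := by
        have := congrArg (LieKol.push (A := A) f) hXXi
        rwa [map_mul, map_one, hX, one_mul] at this
      have h1 : LieKol.push (A := A) f W = LieKol.push (A := A) f Y := by
        rw [map_mul, map_mul, hX, hXi, one_mul, mul_one]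
      have h2 := AlgHom.congr_fun (congrArg WithConv.ofConv h1) a₀
      rw [show (LieKol.push (A := A) f W).ofConv a₀ = f (W.ofConv a₀) from rfl, ← hWm, hcs, map_sum,
        show (LieKol.push (A := A) f Y).ofConv a₀ = f ((1 : A) ⊗ₜ[K] π a₀) from rfl, show π a₀ = (m : T) from ha₀] at h2
      intro n
      have h3 := congrArg (b.coord n) h2
      simp only [f, AlgHom.comp_apply, Algebra.TensorProduct.map_tmul, AlgHom.id_apply, map_one, map_sum] at h3
      simp only [show ∀ (c : K) (t : T), (Algebra.TensorProduct.lid K T).toAlgHom (c ⊗ₜ[K] t) = c • t from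
        fun c t => Algebra.TensorProduct.lid_tmul _ _, map_smul, hδ, smul_eq_mul, mul_ite, mul_one, mul_zero,
        Finset.sum_ite_eq', one_mul] at h3
      by_cases hn : cs n = 0
      · rw [if_neg (fun h => absurd (Finsupp.mem_support_iff.1 h) (not_not.2 hn))] at h3
        rw [hn, map_zero]
        rw [h3]
        grind
      · rw [if_pos (Finsupp.mem_support_iff.2 hn)] at h3
        rw [h3]
        grind
    have hval : ∀ n, cs n = if n = m then 1 else 0 := by
      intro n
      obtain ⟨c, hc⟩ := mem_range_of_resR hπ hψ (hinv n)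
      have hci : IsIdempotentElem c := hψ (by rw [map_mul, hc, hmul n n, if_pos rfl])
      have hcε : Coalgebra.counit (R := K) c = if n = m then 1 else 0 := by
        rw [← CoalgHomClass.counit_comp_apply ψ c, hc]
        exact hε n
      rcases hC c hci with rfl | rfl
      · rw [map_zero] at hcε
        rw [← hc, map_zero]
        split_ifs with h
        · rw [if_pos h] at hcε; exact absurd hcε zero_ne_one
        · rfl
      · rw [Bialgebra.counit_one] at hcε
        rw [← hc, map_one]
        split_ifs with h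
        · rfl
        · rw [if_neg h] at hcε; exact absurd hcε one_ne_zero
    rw [hcs, Finset.sum_eq_single m]
    · rw [hval, if_pos rfl]
    · intro n _ hn
      rw [hval, if_neg hn, TensorProduct.zero_tmul]
    · intro h
      have := hval m
      rw [Finsupp.notMem_support_iff.1 h, if_pos rfl] at this
      rw [Finsupp.notMem_support_iff.1 h, TensorProduct.zero_tmul]
  have hWY : W = Y := by
    refine WithConv.ext (AlgHom.ext fun x => ?_)
    show W.ofConv x = (1 : A) ⊗ₜ[K] π x
    rw [← hwπ]
    exact LinearMap.congr_fun (LinearMap.ext_on hspan (f := w.toLinearMap)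
      (g := (Algebra.TensorProduct.includeRight : T →ₐ[K] A ⊗[K] T).toLinearMap) fun g hg => hw ⟨g, hg⟩) (π x)
  have hXY : X * Y = Y * X := by
    calc X * Y = W * X := by simp only [W]; rw [mul_assoc, hXiX, mul_one]
      _ = Y * X := by rw [hWY]
  have h := AlgHom.congr_fun (congrArg WithConv.ofConv hXY) a
  rw [AlgHom.convMul_def, AlgHom.convMul_def] at h
  simp only [X, Y, L, Rp, ofConv_toConv, AlgHom.comp_apply, Bialgebra.comulAlgHom_apply] at h
  show (π : A →ₗ[K] T).lTensor A (Coalgebra.comul (R := K) a) = _
  refine Eq.trans ?_ (h.trans ?_) <;>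
  · induction Coalgebra.comul (R := K) a using TensorProduct.induction_on with
    | zero => simp
    | tmul p q => simp [Algebra.TensorProduct.tmul_mul_tmul]
    | add p q hp hq => simp only [map_add, hp, hq]

/-- Every character of the kernel lifts. -/
theorem exists_groupLike_lift [IsAlgClosed K] [_root_.IsReduced C] (hπ : IsKer ψ π) (hψ : Function.Injective ψ)
    (hC : ∀ e : C, IsIdempotentElem e → e = 0 ∨ e = 1) (hU : HopfRep.IsUnipotent K C)
    (hspan : Submodule.span K {g : T | IsGroupLikeElem K g} = ⊤) {m : T} (hm : IsGroupLikeElem K m) :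
    ∃ g : A, IsGroupLikeElem K g ∧ π g = m := by
  haveI := comul_eq_of_groupLike_span hspan
  haveI : IsDomain C := ComodLib.isDomain_of_connected K hC
  -- semi-invariants
  have hsemi : ∀ n : T, IsGroupLikeElem K n → ∃ b : A,
      (π : A →ₗ[K] T).rTensor A (Coalgebra.comul (R := K) b) = n ⊗ₜ[K] b ∧ Coalgebra.counit (R := K) b = 1 := by
    intro n hn
    obtain ⟨a₀, ha₀⟩ := hπ.surj n
    let b : Module.Basis {g : T // IsGroupLikeElem K g} K T :=
      Module.Basis.mk (v := fun g : {g : T // IsGroupLikeElem K g} => (g : T))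
        linearIndepOn_isGroupLikeElem (by rw [Subtype.range_coe_subtype]; exact hspan.ge)
    let δ : T →ₗ[K] K := b.coord ⟨n, hn⟩
    let P : A →ₗ[K] A := (TensorProduct.lid K A).toLinearMap ∘ₗ (δ ∘ₗ (π : A →ₗ[K] T)).rTensor A ∘ₗ Coalgebra.comul
    have hTg : ∀ t : T, δ.lTensor T (Coalgebra.comul (R := K) t) = n ⊗ₜ[K] δ t := by
      intro t
      refine LinearMap.congr_fun (LinearMap.ext_on hspan (f := δ.lTensor T ∘ₗ Coalgebra.comul)
        (g := (TensorProduct.mk K T K n).comp δ) fun g hg => ?_) t
      show δ.lTensor T (Coalgebra.comul (R := K) g) = n ⊗ₜ[K] δ g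
      have e : δ g = if (⟨g, hg⟩ : {g : T // IsGroupLikeElem K g}) = ⟨n, hn⟩ then 1 else 0 := by
        show b.coord ⟨n, hn⟩ g = _
        have e' : b ⟨g, hg⟩ = g := Module.Basis.mk_apply _ _ _
        have e'' : b.coord ⟨n, hn⟩ g = b.coord ⟨n, hn⟩ (b ⟨g, hg⟩) := congrArg _ e'.symm
        rw [e'', Module.Basis.coord_apply, b.repr_self, Finsupp.single_apply]
      rw [hg.comul_eq_tmul_self, LinearMap.lTensor_tmul, e]
      split_ifs with h
      · obtain rfl : g = n := congrArg Subtype.val h
        rfl
      · simp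
    refine ⟨P a₀, ?_, ?_⟩
    · have key : ∀ a : A, (π : A →ₗ[K] T).rTensor A (Coalgebra.comul (R := K) (P a)) = n ⊗ₜ[K] P a := by
        intro a
        have hco := Coalgebra.coassoc_apply (R := K) a
        let Ω : A ⊗[K] (A ⊗[K] A) →ₗ[K] T ⊗[K] A :=
          (π : A →ₗ[K] T).rTensor A ∘ₗ (TensorProduct.lid K (A ⊗[K] A)).toLinearMap ∘ₗ
            (δ ∘ₗ (π : A →ₗ[K] T)).rTensor (A ⊗[K] A)
        have h1 : ∀ z : A ⊗[K] A, Ω (Coalgebra.comul.lTensor A z) =
            (π : A →ₗ[K] T).rTensor A (Coalgebra.comul (R := K)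
              (TensorProduct.lid K A ((δ ∘ₗ (π : A →ₗ[K] T)).rTensor A z))) := by
          intro z
          induction z using TensorProduct.induction_on with
          | zero => simp
          | tmul p q => simp [Ω]
          | add p q hp hq => simp only [map_add, hp, hq]
        have h2 : ∀ z : A ⊗[K] A, Ω (TensorProduct.assoc K A A A (Coalgebra.comul.rTensor A z)) =
            n ⊗ₜ[K] (TensorProduct.lid K A ((δ ∘ₗ (π : A →ₗ[K] T)).rTensor A z)) := by
          intro z
          induction z using TensorProduct.induction_on with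
          | zero => simp
          | add p q hp hq => simp only [map_add, hp, hq, TensorProduct.tmul_add]
          | tmul p q =>
            have h3 : ∀ y : A ⊗[K] A, Ω (TensorProduct.assoc K A A A (y ⊗ₜ[K] q)) =
                (TensorProduct.lid K T ((δ.rTensor T) (TensorProduct.map (π : A →ₗ[K] T) (π : A →ₗ[K] T) y))) ⊗ₜ[K] q := by
              intro y
              induction y using TensorProduct.induction_on with
              | zero => simp
              | tmul r s => simp [Ω, TensorProduct.smul_tmul']
              | add r s hr hs => simp only [map_add, TensorProduct.add_tmul, hr, hs]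
            rw [LinearMap.rTensor_tmul, h3, CoalgHomClass.map_comp_comul_apply π]
            have h4 : TensorProduct.lid K T (δ.rTensor T (Coalgebra.comul (R := K) (π p))) = δ (π p) • n := by
              rw [← Coalgebra.IsCocomm.comm_comp_comul (R := K) (A := T)]
              have : ∀ y : T ⊗[K] T, TensorProduct.lid K T (δ.rTensor T (TensorProduct.comm K T T y)) =
                  TensorProduct.rid K T (δ.lTensor T y) := fun y => by
                induction y using TensorProduct.induction_on with
                | zero => simp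
                | tmul r s => simp
                | add r s hr hs => simp only [map_add, hr, hs]
              rw [LinearMap.comp_apply, LinearEquiv.coe_coe, this, hTg, TensorProduct.rid_tmul]
            rw [h4]
            simp [TensorProduct.smul_tmul]
        show (π : A →ₗ[K] T).rTensor A (Coalgebra.comul (R := K)
          (TensorProduct.lid K A ((δ ∘ₗ (π : A →ₗ[K] T)).rTensor A (Coalgebra.comul (R := K) a)))) = _
        rw [← h1, ← hco, h2]
        rfl
      exact key a₀
    · show Coalgebra.counit (R := K) (TensorProduct.lid K A ((δ ∘ₗ (π : A →ₗ[K] T)).rTensor A (Coalgebra.comul (R := K) a₀))) = 1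
      have h1 : ∀ z : A ⊗[K] A, Coalgebra.counit (R := K) (TensorProduct.lid K A ((δ ∘ₗ (π : A →ₗ[K] T)).rTensor A z)) =
          δ (π (TensorProduct.rid K A ((Coalgebra.counit (R := K)).lTensor A z))) := fun z => by
        induction z using TensorProduct.induction_on with
        | zero => simp
        | tmul p q => simp [mul_comm]
        | add p q hp hq => simp only [map_add, hp, hq]
      have e' : b ⟨n, hn⟩ = n := Module.Basis.mk_apply _ _ _
      rw [h1, Coalgebra.lTensor_counit_comul, TensorProduct.rid_tmul, one_smul, show π a₀ = n from ha₀,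
        show δ n = δ (b ⟨n, hn⟩) from congrArg δ e'.symm]
      simp [δ]
  obtain ⟨a₁, ha₁, ha₁ε⟩ := hsemi m hm
  -- the semi-invariants of weight `m` form a subcomodule
  let Am : Submodule K A :=
    LinearMap.ker ((π : A →ₗ[K] T).rTensor A ∘ₗ Coalgebra.comul - TensorProduct.mk K T A m)
  have hAm : ∀ x, x ∈ Am ↔ (π : A →ₗ[K] T).rTensor A (Coalgebra.comul (R := K) x) = m ⊗ₜ[K] x := fun x => by
    simp [Am, sub_eq_zero]
  have hAmsub : HopfRep.IsSubcomod (k := K) (A := A) Am := by
    rw [isSubcomod_iff_actF]
    intro φ x hx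
    rw [hAm] at hx ⊢
    rw [actF_apply]
    have hco := Coalgebra.coassoc_apply (R := K) x
    show (π : A →ₗ[K] T).rTensor A (Coalgebra.comul (R := K) (slice φ (Coalgebra.comul (R := K) x))) =
      m ⊗ₜ[K] slice φ (Coalgebra.comul (R := K) x)
    let Ω : A ⊗[K] (A ⊗[K] A) →ₗ[K] T ⊗[K] A :=
      ((TensorProduct.rid K (T ⊗[K] A)).toLinearMap ∘ₗ φ.lTensor (T ⊗[K] A)) ∘ₗ
        (TensorProduct.assoc K T A A).symm.toLinearMap ∘ₗ (π : A →ₗ[K] T).rTensor (A ⊗[K] A)
    have h1 : ∀ z : A ⊗[K] A, Ω (TensorProduct.assoc K A A A (Coalgebra.comul.rTensor A z)) =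
        (π : A →ₗ[K] T).rTensor A (Coalgebra.comul (R := K) (slice φ z)) := by
      intro z
      induction z using TensorProduct.induction_on with
      | zero => simp
      | add p q hp hq => simp only [map_add, hp, hq]
      | tmul p q =>
        rw [LinearMap.rTensor_tmul, slice_tmul, map_smul, map_smul]
        induction Coalgebra.comul (R := K) p using TensorProduct.induction_on with
        | zero => simp
        | tmul r s => simp [Ω]
        | add r s hr hs => simp only [map_add, TensorProduct.add_tmul, smul_add, hr, hs]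
    have h2 : ∀ z : A ⊗[K] A, Ω (Coalgebra.comul.lTensor A z) =
        (slice φ ∘ₗ Coalgebra.comul (R := K)).lTensor T ((π : A →ₗ[K] T).rTensor A z) := by
      intro z
      induction z using TensorProduct.induction_on with
      | zero => simp
      | add p q hp hq => simp only [map_add, hp, hq]
      | tmul p q =>
        rw [LinearMap.lTensor_tmul, LinearMap.rTensor_tmul, LinearMap.lTensor_tmul, LinearMap.comp_apply]
        show Ω (p ⊗ₜ[K] Coalgebra.comul (R := K) q) = π p ⊗ₜ[K] slice φ (Coalgebra.comul (R := K) q)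
        generalize Coalgebra.comul (R := K) q = y
        induction y using TensorProduct.induction_on with
        | zero => simp
        | tmul r s => simp [Ω, TensorProduct.smul_tmul, slice_tmul]
        | add r s hr hs => simp only [map_add, TensorProduct.tmul_add, hr, hs]
    rw [← h1, hco, h2, hx, LinearMap.lTensor_tmul, LinearMap.comp_apply]
  have hsc : ∀ x ∈ Am, resR π x = x ⊗ₜ[K] m := fun x hx => by
    rw [resR_comm hπ hψ hC hspan, show (π : A →ₗ[K] T).rTensor A (Coalgebra.comul (R := K) x) = _ from
      (hAm x).1 hx, TensorProduct.comm_tmul]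
  obtain ⟨U, hUf, hUmem, hUsub⟩ := exists_finite_subcomod_mem (C := A) (k := K) a₁
  let V : Submodule K A := U ⊓ Am
  have hVsub : HopfRep.IsSubcomod (k := K) (A := A) V := isSubcomod_inf hUsub hAmsub
  letI : HopfRep.Comod K A V := ComodSub.Comod.restr (HopfRep.Comod.regular K A) V hVsub
  haveI : Module.Finite K V := by
    haveI := hUf
    exact Submodule.finiteDimensional_of_le (inf_le_left : V ≤ U)
  have ha₁V : a₁ ∈ V := ⟨hUmem, (hAm _).2 ha₁⟩
  haveI : Nontrivial V :=
    ⟨⟨a₁, ha₁V⟩, 0, fun h => by simp [show a₁ = 0 from congrArg Subtype.val h] at ha₁ε⟩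
  -- the identity component of the rational points
  letI := LieKol.ptTop (k := K) (A := A)
  let Γ := WithConv (A →ₐ[K] K)
  let one' : WithConv (A →ₐ[K] A) := toConv (AlgHom.id K A)
  have hW := LieKol.wordsContinuous (k := K) (A := A)
  have hinvc : Continuous fun g : Γ => g⁻¹ := by
    convert LieKol.continuous_word (k := K) (A := A) (toConv (HopfAlgebra.antipodeAlgHom K A)) using 2 with g
    rfl
  let Γ₀ : Subgroup Γ :=
    { carrier := connectedComponent 1
      one_mem' := mem_connectedComponent
      mul_mem' := by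
        intro g h hg hh
        have hp : IsPreconnected ((fun x => g * x) '' connectedComponent (1 : Γ)) :=
          isPreconnected_connectedComponent.image _ (hW.mulLeft g).continuousOn
        rw [connectedComponent_eq hg]
        exact hp.subset_connectedComponent ⟨1, mem_connectedComponent, mul_one g⟩ ⟨h, hh, rfl⟩
      inv_mem' := by
        intro g hg
        have hp : IsPreconnected ((fun x : Γ => x⁻¹) '' connectedComponent (1 : Γ)) :=
          isPreconnected_connectedComponent.image _ hinvc.continuousOn
        exact hp.subset_connectedComponent ⟨1, mem_connectedComponent, inv_one⟩ ⟨g, hg, rfl⟩ }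
  have hW₀ : LieKol.WordsContinuous Γ₀ :=
    ⟨fun a => continuous_induced_rng.2 ((hW.mulLeft a.1).comp continuous_subtype_val),
     fun a => continuous_induced_rng.2 ((hW.conj a.1).comp continuous_subtype_val),
     fun a => continuous_induced_rng.2 ((hW.comm a.1).comp continuous_subtype_val)⟩
  have hconn₀ : IsPreconnected (Set.univ : Set Γ₀) := by
    haveI : PreconnectedSpace Γ₀ := Subtype.preconnectedSpace isPreconnected_connectedComponent
    exact PreconnectedSpace.isPreconnected_univ
  -- finitely many components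
  haveI : IsNoetherianRing A := Algebra.FiniteType.isNoetherianRing K A
  haveI : TopologicalSpace.NoetherianSpace Γ :=
    (Topology.IsInducing.mk (f := fun g : Γ => (⟨RingHom.ker g.ofConv, RingHom.ker_isPrime _⟩ : PrimeSpectrum A))
      rfl).noetherianSpace
  obtain ⟨reps, hreps⟩ : ∃ s : Finset Γ, ∀ g : Γ, ∃ h ∈ s, g⁻¹ * h ∈ Γ₀ := by
    have hfin := TopologicalSpace.NoetherianSpace.finite_irreducibleComponents (α := Γ)
    have hne : ∀ Z ∈ irreducibleComponents Γ, Z.Nonempty := fun Z hZ => hZ.1.nonempty
    choose pt hpt using hne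
    refine ⟨hfin.toFinset.attach.image fun Z => pt Z.1 (hfin.mem_toFinset.1 Z.2), fun g => ?_⟩
    have hZ := irreducibleComponent_mem_irreducibleComponents g
    refine ⟨pt _ hZ, Finset.mem_image.2 ⟨⟨_, hfin.mem_toFinset.2 hZ⟩, Finset.mem_attach _ _, rfl⟩, ?_⟩
    show g⁻¹ * pt _ hZ ∈ connectedComponent (1 : Γ)
    have hp : IsPreconnected ((fun x => g⁻¹ * x) '' irreducibleComponent g) :=
      isIrreducible_irreducibleComponent.isConnected.isPreconnected.image _ (hW.mulLeft g⁻¹).continuousOn
    exact hp.subset_connectedComponent ⟨g, mem_irreducibleComponent, inv_mul_cancel g⟩ ⟨_, hpt _ hZ, rfl⟩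
  -- solvability
  haveI : Group.IsNilpotent (WithConv (C →ₐ[K] K)) := CoradFil.isNilpotent_points (CoradFil.exh_of_isUnipotent hU)
  have hrker : ∀ g : Γ, pull ψ g = 1 → ∃ t : WithConv (T →ₐ[K] K), pull π t = g := by
    intro g hg
    obtain ⟨t, ht⟩ := hπ.exists_factor g.ofConv fun y hy => by
      refine (AlgHom.congr_fun (congrArg WithConv.ofConv hg) y).trans ?_
      rw [show (1 : WithConv (C →ₐ[K] K)).ofConv y = _ from AlgHom.convOne_apply y, hy, map_zero]
    exact ⟨toConv t, WithConv.ext (AlgHom.ext ht)⟩
  haveI : Group.IsSolvable Γ :=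
    solvable_of_ker_le_range (pull π (R := K)) (pull ψ (R := K)) fun g hg => by
      obtain ⟨t, ht⟩ := hrker g hg
      exact ⟨t, ht⟩
  haveI : Group.IsSolvable Γ₀ := inferInstance
  let ρ₀ : Γ₀ →* Module.End K V := (LieKol.rep (k := K) (A := A) V).comp Γ₀.subtype
  obtain ⟨v, hv0, hv⟩ := LieKol.exists_eigvec (ρ := ρ₀) hW₀ hconn₀
    (fun x c => (LieKol.eigClosed (k := K) (A := A) V x c).preimage continuous_subtype_val)
  obtain ⟨l, hl⟩ := Module.Projective.exists_dual_ne_zero K hv0
  let φ : Module.Dual K V := (l v)⁻¹ • l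
  have hφ : φ v = 1 := by simp [φ, hl]
  let χ : A := coefFun (C := A) φ v
  -- coefficient functions of `v` have weight `m`
  have hcoefm : ∀ f : Module.Dual K V, resR π (coefFun (C := A) f v) = coefFun (C := A) f v ⊗ₜ[K] m := by
    intro f
    have h := LinearMap.congr_fun (isComodHom_coefFun (C := A) f) v
    simp only [LinearMap.comp_apply] at h
    show (π : A →ₗ[K] T).lTensor A (Coalgebra.comul (R := K) (coefFun (C := A) f v)) = _
    rw [show Coalgebra.comul (R := K) (coefFun (C := A) f v) = _ from h, ← LinearMap.comp_apply ((π : A →ₗ[K] T).lTensor A),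
      LinearMap.lTensor_comp_rTensor, ← LinearMap.rTensor_comp_lTensor, LinearMap.comp_apply]
    have hvm : (π : A →ₗ[K] T).lTensor V (HopfRep.Comod.coact (k := K) (A := A) v) = v ⊗ₜ[K] m := by
      refine Module.Flat.rTensor_preserves_injective_linearMap (M := T) V.subtype Subtype.val_injective ?_
      rw [LinearMap.rTensor_tmul, ← LinearMap.comp_apply, LinearMap.rTensor_comp_lTensor,
        ← LinearMap.lTensor_comp_rTensor, LinearMap.comp_apply]
      refine Eq.trans (congrArg _ (ComodSub.restr_coact_coe (HopfRep.Comod.regular K A) V hVsub v)) ?_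
      exact hsc (v : A) v.2.2
    rw [hvm, LinearMap.rTensor_tmul]
  have hpt : ∀ (f : Module.Dual K V) (g : Γ), g.ofConv (coefFun (C := A) f v) = f (LieKol.rep (k := K) (A := A) V g v) :=
    fun f g => (LieKol.apply_rep f g v).symm
  -- semi-invariants of weight `m` vanishing on the identity component vanish
  have hvan : ∀ a : A, resR π a = a ⊗ₜ[K] m → (∀ g ∈ Γ₀, g.ofConv a = 0) → a = 0 := by
    intro a ha hvan
    obtain ⟨t, ht⟩ := hπ.surj m
    let mi : T := π (HopfAlgebra.antipode K t)
    have hmiS : mi = HopfAlgebra.antipode K m := by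
      rw [← ht]
      exact (GrpSchLib.HopfGalois.antipode_bialgHom π t).symm
    have hmi : IsGroupLikeElem K mi := by rw [hmiS]; exact hm.antipode
    obtain ⟨b₀, hb₀, hb₀ε⟩ := hsemi mi hmi
    have hb : ∀ g : Γ, resR π (translatePt g.ofConv b₀) = translatePt g.ofConv b₀ ⊗ₜ[K] mi := by
      intro g
      have hb0' : resR π b₀ = b₀ ⊗ₜ[K] mi := by
        rw [resR_comm hπ hψ hC hspan, show (π : A →ₗ[K] T).rTensor A (Coalgebra.comul (R := K) b₀) = _ from hb₀,
          TensorProduct.comm_tmul]
      have hco := Coalgebra.coassoc_apply (R := K) b₀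
      let Ω : A ⊗[K] (A ⊗[K] A) →ₗ[K] A ⊗[K] T :=
        (TensorProduct.lid K (A ⊗[K] T)).toLinearMap ∘ₗ g.ofConv.toLinearMap.rTensor (A ⊗[K] T) ∘ₗ
          ((π : A →ₗ[K] T).lTensor A).lTensor A
      have h1 : ∀ z : A ⊗[K] A, Ω (Coalgebra.comul.lTensor A z) =
          resR π (TensorProduct.lid K A (g.ofConv.toLinearMap.rTensor A z)) := by
        intro z
        induction z using TensorProduct.induction_on with
        | zero => simp
        | tmul p q => simp [Ω, resR]
        | add p q hp hq => simp only [map_add, hp, hq]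
      have h2 : ∀ z : A ⊗[K] A, Ω (TensorProduct.assoc K A A A (Coalgebra.comul.rTensor A z)) =
          ((TensorProduct.lid K A).toLinearMap ∘ₗ g.ofConv.toLinearMap.rTensor A ∘ₗ Coalgebra.comul).rTensor T
            ((π : A →ₗ[K] T).lTensor A z) := by
        intro z
        induction z using TensorProduct.induction_on with
        | zero => simp
        | add p q hp hq => simp only [map_add, hp, hq]
        | tmul p q =>
          simp only [LinearMap.rTensor_tmul, LinearMap.lTensor_tmul, LinearMap.comp_apply]
          induction Coalgebra.comul (R := K) p using TensorProduct.induction_on with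
          | zero => simp
          | tmul r s => simp [Ω, TensorProduct.smul_tmul']
          | add r s hr hs => simp only [map_add, TensorProduct.add_tmul, hr, hs]
      have htr : ∀ x, translatePt g.ofConv x =
          TensorProduct.lid K A (g.ofConv.toLinearMap.rTensor A (Coalgebra.comul (R := K) x)) := by
        intro x
        simp only [translatePt, AlgHom.comp_apply, Bialgebra.comulAlgHom_apply]
        induction Coalgebra.comul (R := K) x using TensorProduct.induction_on with
        | zero => simp
        | tmul p q => simp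
        | add p q hp hq => simp only [map_add, hp, hq]
      rw [htr, ← h1, ← hco, h2]
      show _ = _
      rw [show (π : A →ₗ[K] T).lTensor A (Coalgebra.comul (R := K) b₀) = b₀ ⊗ₜ[K] mi from hb0', LinearMap.rTensor_tmul,
        LinearMap.comp_apply, LinearMap.comp_apply]
      rfl
    have hab : ∀ g : Γ, a * translatePt g.ofConv b₀ = 0 := by
      intro g
      obtain ⟨c, hc⟩ := mem_range_of_resR hπ hψ (c := a * translatePt g.ofConv b₀) (by
        rw [resR_mul, ha, hb, Algebra.TensorProduct.tmul_mul_tmul, hmiS, hm.mul_antipode_cancel])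
      rw [← hc]
      -- a translate of `c` vanishes
      let tc : Γ → C := fun h => translatePt (pull ψ h⁻¹).ofConv c
      have hprod : ∏ h ∈ reps, tc h = 0 := by
        refine LieKol.eq_zero_of_forall_pt (k := K) fun u => ?_
        obtain ⟨x, hx⟩ : ∃ x : Γ, pull ψ x = toConv u := by
          letI : Algebra C A := (ψ : C →ₐ[K] A).toRingHom.toAlgebra
          haveI : Module.FaithfullyFlat C A :=
            RingHom.faithfullyFlat_algebraMap_iff.1 (GrpSchLib.HopfFlat.faithfullyFlat ψ hψ)
          have hne : (RingHom.ker u).map (algebraMap C A) ≠ ⊤ := by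
            intro htop
            have h1 := Ideal.comap_map_eq_self_of_faithfullyFlat (B := A) (RingHom.ker u)
            rw [htop, Ideal.comap_top] at h1
            exact RingHom.ker_ne_top u h1.symm
          obtain ⟨x, hx⟩ := ComodLib.exists_point (k := K) _ hne
          refine ⟨toConv x, WithConv.ext (AlgHom.ext fun y => ?_)⟩
          have h2 := hx (Ideal.mem_map_of_mem (algebraMap C A)
            (show y - algebraMap K C (u y) ∈ RingHom.ker u by simp [RingHom.mem_ker]))
          rw [RingHom.mem_ker, show algebraMap C A (y - algebraMap K C (u y)) = ψ (y - algebraMap K C (u y)) from rfl,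
            map_sub, map_sub, sub_eq_zero] at h2
          refine h2.trans ?_
          rw [show ψ (algebraMap K C (u y)) = algebraMap K A (u y) from (ψ : C →ₐ[K] A).commutes _, AlgHom.commutes]
          rfl
        obtain ⟨h, hh, hmem⟩ := hreps x
        rw [map_prod]
        refine Finset.prod_eq_zero (i := h) hh ?_
        show u (translatePt (pull ψ h⁻¹).ofConv c) = 0
        have h1 : u.comp (translatePt (pull ψ h⁻¹).ofConv) = (pull ψ h⁻¹ * toConv u).ofConv :=
          (convMul_ofConv (pull ψ h⁻¹) (toConv u)).symm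
        refine (AlgHom.congr_fun h1 c).trans ?_
        rw [← hx, ← map_mul]
        show (h⁻¹ * x).ofConv (ψ c) = 0
        rw [hc]
        have hmem' : h⁻¹ * x ∈ Γ₀ := by
          have h3 := Γ₀.inv_mem hmem
          rwa [mul_inv_rev, inv_inv] at h3
        rw [map_mul, hvan _ hmem', zero_mul]
      obtain ⟨h, -, hh⟩ := Finset.prod_eq_zero_iff.1 hprod
      have : c = 0 := by
        have e := AlgHom.congr_fun (S7963.translate_inv (pull ψ h⁻¹)) c
        simp only [AlgHom.comp_apply, AlgHom.id_apply] at e
        rw [← e, show translatePt (pull ψ h⁻¹).ofConv c = 0 from hh, map_zero]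
      rw [this, map_zero]
    let I₀ : Ideal A := Ideal.span (Set.range fun g : Γ => translatePt g.ofConv b₀)
    have htop : I₀ = ⊤ := by
      by_contra hne
      obtain ⟨x, hx⟩ := ComodLib.exists_point (k := K) I₀ hne
      have h0 := hx (Ideal.subset_span ⟨(toConv x)⁻¹, rfl⟩)
      rw [RingHom.mem_ker] at h0
      have h1 : x.comp (translatePt ((toConv x)⁻¹).ofConv) = ((toConv x)⁻¹ * toConv x).ofConv :=
        (convMul_ofConv _ (toConv x)).symm
      have h2 := (AlgHom.congr_fun h1 b₀).symm.trans h0
      rw [inv_mul_cancel, show (1 : WithConv (A →ₐ[K] K)).ofConv b₀ = _ from AlgHom.convOne_apply b₀, hb₀ε, map_one] at h2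
      exact one_ne_zero h2
    have hann : ∀ y ∈ I₀, a * y = 0 := by
      intro y hy
      induction hy using Submodule.span_induction with
      | mem y hy => obtain ⟨g, rfl⟩ := hy; exact hab g
      | zero => rw [mul_zero]
      | add p q _ _ hp hq => rw [mul_add, hp, hq, add_zero]
      | smul r p _ hp => rw [smul_eq_mul, mul_left_comm, hp, mul_zero]
    simpa using hann 1 (htop ▸ Submodule.mem_top)
  have hcoef : ∀ f : Module.Dual K V, coefFun (C := A) f v = f v • χ := by
    intro f
    rw [← sub_eq_zero]
    refine hvan _ ?_ fun g hg => ?_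
    · rw [map_sub, map_smul, hcoefm, hcoefm, TensorProduct.sub_tmul, TensorProduct.smul_tmul']
    · obtain ⟨c, hc⟩ := hv ⟨g, hg⟩
      have hc' : LieKol.rep (k := K) (A := A) V g v = c • v := hc
      rw [map_sub, map_smul, hpt, hpt, hc', map_smul, map_smul, hφ, smul_eq_mul, smul_eq_mul, smul_eq_mul, mul_one,
        mul_comm, sub_self]
  have hχε : Coalgebra.counit (R := K) χ = 1 := (counit_coefFun φ v).trans hφ
  have hχΔ : Coalgebra.comul (R := K) χ = χ ⊗ₜ[K] χ := by
    have h := LinearMap.congr_fun (isComodHom_coefFun (C := A) φ) v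
    simp only [LinearMap.comp_apply] at h
    rw [show Coalgebra.comul (R := K) χ = _ from h]
    have hcoact : HopfRep.Comod.coact (k := K) (A := A) v = v ⊗ₜ[K] χ := by
      let bV := Module.finBasis K V
      have hsum : ∀ z : V ⊗[K] A, z = ∑ i, bV i ⊗ₜ[K] TensorProduct.lid K A ((bV.coord i).rTensor A z) := fun z => by
        induction z using TensorProduct.induction_on with
        | zero => simp
        | tmul x a =>
          simp only [LinearMap.rTensor_tmul, TensorProduct.lid_tmul, Module.Basis.coord_apply]
          conv_lhs => rw [← bV.sum_repr x, TensorProduct.sum_tmul]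
          exact Finset.sum_congr rfl fun i _ => (TensorProduct.smul_tmul _ _ _)
        | add p q hp hq =>
          simp only [map_add, tmul_add, Finset.sum_add_distrib]
          rw [← hp, ← hq]
      rw [hsum (HopfRep.Comod.coact (k := K) (A := A) v), hsum (v ⊗ₜ[K] χ)]
      refine Finset.sum_congr rfl fun i _ => ?_
      rw [← coefFun_apply, hcoef]
      simp
    rw [hcoact, LinearMap.rTensor_tmul]
  refine ⟨χ, ⟨hχε, hχΔ⟩, ?_⟩
  have h := hcoefm φ
  rw [show coefFun (C := A) φ v = χ from rfl, resR, LinearMap.comp_apply,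
    show Coalgebra.comul (R := K) χ = χ ⊗ₜ[K] χ from hχΔ, LinearMap.lTensor_tmul] at h
  have h2 := congrArg (fun z => TensorProduct.lid K T ((Coalgebra.counit (R := K)).rTensor T z)) h
  simpa [hχε] using h2

end Groth.Agent.DiagSplit
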