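import Groth.Agent.DiagSplit.BaseChange
import Mathlib.RingTheory.Ideal.IdempotentFG
import Mathlib.RingTheory.Etale.Basic
import Mathlib.LinearAlgebra.TensorProduct.RightExactness

/-!
# The unique lifting of a connected group of multiplicative type along an étale unipotent kernel
-/

universe u

set_option autoImplicit false
set_option maxHeartbeats 1000000
set_option synthInstance.maxHeartbeats 100000

open TensorProduct WithConv
open Groth.Agent
open scoped Classical

noncomputable section

namespace Groth.Agent.DiagSplit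

variable {k : Type u} [Field k]

theorem exists_connected_component {A : Type u} [CommRing A] [Algebra k A] [IsNoetherianRing A] (χ : A →ₐ[k] k) :
    ∃ e : A, IsIdempotentElem e ∧ χ e = 1 ∧
      ∀ x : A ⧸ Ideal.span ({1 - e} : Set A), IsIdempotentElem x → x = 0 ∨ x = 1 := by
  let S : Set (Ideal A) := {I | ∃ g, IsIdempotentElem g ∧ χ g = 0 ∧ I = Ideal.span {g}}
  obtain ⟨I, ⟨g, hg, hχg, rfl⟩, hmax⟩ := set_has_maximal_iff_noetherian.2 inferInstance S
    ⟨_, 0, IsIdempotentElem.zero, map_zero _, rfl⟩
  have key : ∀ a : A, (a * a - a) ∈ Ideal.span ({g} : Set A) → χ a = 0 →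
      a ∈ Ideal.span ({g} : Set A) := by
    intro a ha hχ
    obtain ⟨t, ht⟩ := Ideal.mem_span_singleton'.1 ha
    set a' := (1 - g) * a with ha'def
    have ha' : IsIdempotentElem a' := by
      show a' * a' = a'
      rw [ha'def]
      linear_combination (a * a) * hg.eq - (1 - g) * ht - t * hg.eq
    have hga : g * a' = 0 := by rw [ha'def]; linear_combination -a * hg.eq
    have hsum : IsIdempotentElem (g + a') := by
      show (g + a') * (g + a') = g + a'
      linear_combination hg.eq + ha'.eq + 2 * hga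
    have hle : Ideal.span ({g} : Set A) ≤ Ideal.span {g + a'} := by
      rw [Ideal.span_le, Set.singleton_subset_iff]
      exact Ideal.mem_span_singleton'.2 ⟨g, by linear_combination hg.eq + hga⟩
    have heq := eq_of_le_of_not_lt hle (hmax _ ⟨_, hsum, by rw [map_add, hχg, ha'def, map_mul, hχ, mul_zero, add_zero], rfl⟩)
    have h1 : a' ∈ Ideal.span ({g} : Set A) := by
      have h := Ideal.mem_span_singleton_self (g + a')
      rw [← heq] at h
      simpa using sub_mem h (Ideal.mem_span_singleton_self g)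
    have h2 : a = a' + g * a := by rw [ha'def]; ring
    rw [h2]
    exact add_mem h1 (Ideal.mul_mem_right _ _ (Ideal.mem_span_singleton_self g))
  refine ⟨1 - g, hg.one_sub, by rw [map_sub, map_one, hχg, sub_zero], ?_⟩
  rw [sub_sub_cancel]
  intro x hx
  obtain ⟨a, rfl⟩ := Ideal.Quotient.mk_surjective x
  have ha : a * a - a ∈ Ideal.span ({g} : Set A) := Ideal.Quotient.eq.1 ((map_mul _ a a).trans hx.eq)
  have hχa : IsIdempotentElem (χ a) := by
    obtain ⟨t, ht⟩ := Ideal.mem_span_singleton'.1 ha
    show χ a * χ a = χ a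
    rw [← sub_eq_zero, ← map_mul, ← map_sub, ← ht, map_mul, hχg, mul_zero]
  rcases IsIdempotentElem.iff_eq_zero_or_one.1 hχa with h | h
  · exact Or.inl (Ideal.Quotient.eq_zero_iff_mem.2 (key a ha h))
  · refine Or.inr ?_
    have h' := key (1 - a) (by rw [show (1 - a) * (1 - a) - (1 - a) = a * a - a by ring]; exact ha)
      (by rw [map_sub, map_one, h, sub_self])
    rw [← map_one (Ideal.Quotient.mk (Ideal.span ({g} : Set A)))]
    exact (Ideal.Quotient.eq.2 h').symm

/-- The counit is split off by an idempotent in an étale Hopf algebra. -/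
theorem exists_delta {T : Type u} [CommRing T] [HopfAlgebra k T] [Algebra.Etale k T] :
    ∃ f : T, IsIdempotentElem f ∧ Bialgebra.counitAlgHom k T f = 1 ∧
      ∀ x : T, (x - algebraMap k T (Bialgebra.counitAlgHom k T x)) * f = 0 := by
  haveI : IsNoetherianRing T := Algebra.FiniteType.isNoetherianRing k T
  let m := ComodLib.Cartier0.aug k T
  have hsq : m ^ 2 = m := by
    refine le_antisymm (Ideal.pow_le_self two_ne_zero) fun y hy => ?_
    obtain ⟨n, x, L, -, hspan, -⟩ := exists_dual_basis k T
    have hL : ∀ i, (L i).1 y = 0 := by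
      intro i
      let D : Derivation k T T := Derivation.mk' (ComodLib.Cartier0.lieOp (L i)) (ComodLib.Cartier0.lieOp_mul (L i))
      have hD : D = 0 := by
        haveI : Subsingleton (Derivation k T T) :=
          (KaehlerDifferential.linearMapEquivDerivation k T).symm.injective.subsingleton
        exact Subsingleton.elim _ _
      rw [← ComodLib.GradedAug.counit_lieOp (L i) y,
        show ComodLib.Cartier0.lieOp (L i) y = D y from rfl, hD, Derivation.zero_apply, map_zero]
    simpa [hL] using hspan y hy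
  obtain ⟨g, hg, hgm⟩ := (Ideal.isIdempotentElem_iff_of_fg m (IsNoetherian.noetherian _)).1
    (show m * m = m by rw [← pow_two]; exact hsq)
  refine ⟨1 - g, hg.one_sub, ?_, fun x => ?_⟩
  · have : g ∈ m := by rw [hgm]; exact Ideal.mem_span_singleton_self g
    rw [map_sub, map_one, show Bialgebra.counitAlgHom k T g = 0 from this, sub_zero]
  · have hmem := ComodLib.Cartier0.sub_counit_mem (k := k) x
    change x - algebraMap k T (Bialgebra.counitAlgHom k T x) ∈ m at hmem
    rw [hgm] at hmem
    obtain ⟨t, ht⟩ := Ideal.mem_span_singleton'.1 hmem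
    rw [← ht]
    linear_combination -t * hg.eq

/-- The unique retraction. -/
theorem existsUnique_retraction_etale {A B : Type u} [CommRing A] [HopfAlgebra k A] [Algebra.FiniteType k A]
    [CommRing B] [HopfAlgebra k B] [Algebra.FiniteType k B] (hB : SGA3b.IsMultTypeConst k B) (ψ : B →ₐc[k] A)
    (hψ : Function.Injective ψ) (J : Ideal A) [J.IsHopfIdeal k] (hJ : J = augMap ψ)
    (hU : HopfRep.IsUnipotent k (A ⧸ J)) [Algebra.Etale k (A ⧸ J)]
    (hH : ∀ e : B, IsIdempotentElem e → e = 0 ∨ e = 1) :
    ∃! r : A →ₐc[k] B, r.comp ψ = BialgHom.id k B := by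
  haveI : IsNoetherianRing A := Algebra.FiniteType.isNoetherianRing k A
  let χ := Bialgebra.counitAlgHom k A
  obtain ⟨e, he, hχe, hconn⟩ := exists_connected_component χ
  set Ie : Ideal A := Ideal.span ({1 - e} : Set A)
  let pe : A →ₐ[k] A ⧸ Ie := Ideal.Quotient.mkₐ k Ie
  let χe : A ⧸ Ie →ₐ[k] k := Ideal.Quotient.liftₐ Ie χ fun x hx => by
    obtain ⟨t, rfl⟩ := Ideal.mem_span_singleton'.1 hx
    rw [map_mul, map_sub, map_one, hχe, sub_self, mul_zero]
  let ψe : B →ₐ[k] A ⧸ Ie := pe.comp (ψ : B →ₐ[k] A)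
  let K := AlgebraicClosure k
  obtain ⟨R, hR⟩ := exists_retraction_bc K hB ψ hψ J hJ hU
  haveI : (augMap (bc K ψ)).IsHopfIdeal K := MultTypeLib.isHopfIdeal_map_ker (bc K ψ)
  let P : K ⊗[k] A →ₐ[K] K ⊗[k] (A ⧸ Ie) := Algebra.TensorProduct.map (AlgHom.id K K) pe
  let E : K ⊗[k] B →ₐ[K] K ⊗[k] (A ⧸ Ie) := Algebra.TensorProduct.map (AlgHom.id K K) ψe
  have hEbc : ∀ y, P (bc K ψ y) = E y := by
    intro y
    induction y using TensorProduct.induction_on with
    | zero => simp
    | tmul c b => rfl
    | add p q hp hq => simp only [map_add, hp, hq]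
  have hcounit : ∀ z : K ⊗[k] A, Algebra.TensorProduct.rid k k K
      (Algebra.TensorProduct.map (AlgHom.id k K) χ z) = Bialgebra.counitAlgHom K (K ⊗[k] A) z := by
    intro z
    induction z using TensorProduct.induction_on with
    | zero => simp
    | tmul c a => simp [χ, Algebra.smul_def, mul_comm]
    | add p q hp hq => simp only [map_add, hp, hq]
  -- `R` kills `1 - e`
  have hRe : R ((1 : K) ⊗ₜ[k] e) = 1 := by
    refine idem_eq_one K (Bialgebra.counitAlgHom k B) hH
      ((he.map (Algebra.TensorProduct.includeRight : A →ₐ[k] K ⊗[k] A)).map R) ?_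
    apply (Algebra.TensorProduct.rid k k K).injective
    rw [map_one]
    have : ∀ y : K ⊗[k] B, Algebra.TensorProduct.rid k k K
        (Algebra.TensorProduct.map (AlgHom.id k K) (Bialgebra.counitAlgHom k B) y) =
          Bialgebra.counitAlgHom K (K ⊗[k] B) y := by
      intro y
      induction y using TensorProduct.induction_on with
      | zero => simp
      | tmul c a => simp [Algebra.smul_def, mul_comm]
      | add p q hp hq => simp only [map_add, hp, hq]
    refine (this _).trans ((CoalgHomClass.counit_comp_apply R _).trans ?_)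
    show Bialgebra.counitAlgHom K (K ⊗[k] A) ((1 : K) ⊗ₜ[k] e) = 1
    rw [← hcounit]
    simp [hχe]
  have hRker : ∀ z, P z = 0 → R z = 0 := by
    intro z hz
    have hz' : z ∈ (RingHom.ker pe).map (Algebra.TensorProduct.includeRight : A →ₐ[k] K ⊗[k] A) := by
      rw [← Algebra.TensorProduct.lTensor_ker (A := K) pe Ideal.Quotient.mk_surjective]
      refine Eq.trans ?_ hz
      clear hz
      induction z using TensorProduct.induction_on with
      | zero => simp
      | tmul c a => rfl
      | add p q hp hq => simp only [map_add, hp, hq]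
    refine (Ideal.map_le_iff_le_comap.mpr (fun x hx => ?_) :
      (RingHom.ker pe).map (Algebra.TensorProduct.includeRight : A →ₐ[k] K ⊗[k] A) ≤
        RingHom.ker (R : K ⊗[k] A →ₐ[K] K ⊗[k] B).toRingHom) hz'
    obtain ⟨t, rfl⟩ := Ideal.mem_span_singleton'.1 (Ideal.Quotient.eq_zero_iff_mem.1 hx)
    show R ((1 : K) ⊗ₜ[k] (t * (1 - e))) = 0
    rw [show ((1 : K) ⊗ₜ[k] (t * (1 - e)) : K ⊗[k] A) = ((1 : K) ⊗ₜ[k] t) * (1 - (1 : K) ⊗ₜ[k] e) by
      rw [Algebra.TensorProduct.one_def, ← TensorProduct.tmul_sub, Algebra.TensorProduct.tmul_mul_tmul, one_mul],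
      map_mul, map_sub, map_one, hRe, sub_self, mul_zero]
  have hEinj : Function.Injective E := by
    refine (injective_iff_map_eq_zero E).2 fun y hy => ?_
    rw [← hR y]
    exact hRker _ (by rw [hEbc, hy])
  -- the section is everything on the connected component
  obtain ⟨f₀, hf₀i, hf₀1, hf₀⟩ := exists_delta (k := k) (T := A ⧸ J)
  obtain ⟨a₀, ha₀⟩ := Ideal.Quotient.mk_surjective f₀
  let one' : WithConv (K ⊗[k] A →ₐ[K] K ⊗[k] A) := toConv (AlgHom.id K (K ⊗[k] A))
  let RA : K ⊗[k] A →ₐ[K] K ⊗[k] B := R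
  let X' : WithConv (K ⊗[k] A →ₐ[K] K ⊗[k] A) := toConv (((bc K ψ).comp R : K ⊗[k] A →ₐc[K] K ⊗[k] A) : K ⊗[k] A →ₐ[K] K ⊗[k] A)
  let Φ : WithConv (K ⊗[k] A →ₐ[K] K ⊗[k] A) := one' * X'⁻¹
  have hΦj : pull (bc K ψ) Φ = 1 := by
    have : pull (bc K ψ) X' = pull (bc K ψ) one' := by
      refine WithConv.ext (AlgHom.ext fun x => ?_)
      show bc K ψ (R (bc K ψ x)) = bc K ψ x
      rw [hR]
    rw [map_mul, map_inv, this, mul_inv_cancel]
  have hΦker : ∀ x ∈ augMap (bc K ψ), Φ.ofConv x = 0 := by
    intro x hx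
    refine (Ideal.map_le_iff_le_comap.mpr (fun y hy => ?_) : augMap (bc K ψ) ≤ RingHom.ker Φ.ofConv.toRingHom) hx
    show Φ.ofConv (bc K ψ y) = 0
    refine (AlgHom.congr_fun (congrArg WithConv.ofConv hΦj) y).trans ?_
    rw [show (1 : WithConv (K ⊗[k] B →ₐ[K] K ⊗[k] A)).ofConv y = _ from AlgHom.convOne_apply y,
      show Coalgebra.counit (R := K) y = 0 from hy, map_zero]
  set z₀ : K ⊗[k] A := (1 : K) ⊗ₜ[k] a₀ with hz₀
  have hdelta : ∀ z : K ⊗[k] A,
      (z - algebraMap K (K ⊗[k] A) (Bialgebra.counitAlgHom K (K ⊗[k] A) z)) * z₀ ∈ augMap (bc K ψ) := by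
    intro z
    induction z using TensorProduct.induction_on with
    | zero => simp
    | tmul c a =>
      have hJa : (a - algebraMap k A (χ a)) * a₀ ∈ J := by
        rw [← Ideal.Quotient.eq_zero_iff_mem, map_mul, ha₀, map_sub]
        exact hf₀ (Ideal.Quotient.mk J a)
      have h := Ideal.mul_mem_left _ (c ⊗ₜ[k] (1 : A) : K ⊗[k] A) (includeRight_mem_augMap K ψ (hJ ▸ hJa))
      convert h using 1
      have e : algebraMap K (K ⊗[k] A) (Bialgebra.counitAlgHom K (K ⊗[k] A) (c ⊗ₜ[k] a)) =
          c ⊗ₜ[k] algebraMap k A (χ a) := by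
        rw [show Bialgebra.counitAlgHom K (K ⊗[k] A) (c ⊗ₜ[k] a) = c * algebraMap k K (χ a) by
          simp [χ, Algebra.smul_def, mul_comm], Algebra.TensorProduct.algebraMap_apply, Algebra.algebraMap_self_apply,
          Algebra.algebraMap_eq_smul_one (A := A), mul_comm, ← Algebra.smul_def, TensorProduct.smul_tmul]
      rw [e, ← TensorProduct.tmul_sub, hz₀, Algebra.TensorProduct.tmul_mul_tmul, Algebra.TensorProduct.tmul_mul_tmul,
        mul_one, one_mul]
    | add p q hp hq =>
      have := add_mem hp hq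
      rw [map_add, map_add]
      convert this using 1
      ring
  let f := Φ.ofConv z₀
  have hkey : ∀ a : K ⊗[k] A, a * f = bc K ψ (R a) * f := by
    intro a
    have hlin : ∀ w : (K ⊗[k] A) ⊗[K] (K ⊗[k] A),
        LinearMap.mul' K _ (TensorProduct.map Φ.ofConv.toLinearMap X'.ofConv.toLinearMap w) * f =
          bc K ψ (R (TensorProduct.lid K _ ((Coalgebra.counit (R := K)).rTensor _ w))) * f := by
      intro w
      induction w using TensorProduct.induction_on with
      | zero => simp
      | tmul p q =>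
        simp only [TensorProduct.map_tmul, LinearMap.mul'_apply, AlgHom.toLinearMap_apply, LinearMap.rTensor_tmul,
          TensorProduct.lid_tmul, map_smul]
        show Φ.ofConv p * bc K ψ (R q) * Φ.ofConv z₀ = _
        rw [mul_right_comm, ← map_mul]
        have h := hΦker _ (hdelta p)
        rw [sub_mul, map_sub, sub_eq_zero, map_mul _ (algebraMap K _ _), AlgHom.commutes] at h
        rw [h, Algebra.smul_def, mul_right_comm]
        rfl
      | add p q hp hq => simp only [map_add, add_mul, hp, hq]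
    have h1 : (Φ * X').ofConv a = a := by
      show (one' * X'⁻¹ * X').ofConv a = a
      rw [inv_mul_cancel_right]
      rfl
    have h2 := hlin (Coalgebra.comul (R := K) a)
    rw [Coalgebra.rTensor_counit_comul, TensorProduct.lid_tmul, one_smul] at h2
    have h3 := HopfPtLib.convMul_eval Φ.ofConv X'.ofConv a
    exact (congrArg (· * f) (h1.symm.trans h3)).trans h2
  have hf1 : P f = 1 := by
    refine idem_eq_one K χe hconn ?_ ?_
    · have hidem : f * f = f := by
        show Φ.ofConv z₀ * Φ.ofConv z₀ = Φ.ofConv z₀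
        rw [← map_mul, ← sub_eq_zero, ← map_sub]
        refine hΦker _ ?_
        rw [hz₀, Algebra.TensorProduct.tmul_mul_tmul, one_mul, ← TensorProduct.tmul_sub]
        refine includeRight_mem_augMap K ψ (hJ ▸ ?_)
        rw [← Ideal.Quotient.eq_zero_iff_mem, map_sub, map_mul, ha₀, hf₀i.eq, sub_self]
      exact (show IsIdempotentElem f from hidem).map P
    · apply (Algebra.TensorProduct.rid k k K).injective
      rw [map_one]
      have : ∀ z, Algebra.TensorProduct.rid k k K (Algebra.TensorProduct.map (AlgHom.id k K) χe (P z)) =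
          Bialgebra.counitAlgHom K (K ⊗[k] A) z := by
        intro z
        induction z using TensorProduct.induction_on with
        | zero => simp
        | tmul c a =>
          show Algebra.TensorProduct.rid k k K (c ⊗ₜ[k] χ a) = _
          simp [χ, Algebra.smul_def, mul_comm]
        | add p q hp hq => simp only [map_add, hp, hq]
      rw [this]
      have hpush : LieKol.push (A := K ⊗[k] A) (Bialgebra.counitAlgHom K (K ⊗[k] A)) Φ = 1 := by
        have : ∀ g : K ⊗[k] A →ₐc[K] K ⊗[k] A,
            LieKol.push (A := K ⊗[k] A) (Bialgebra.counitAlgHom K (K ⊗[k] A)) (toConv (g : _ →ₐ[K] _)) = 1 :=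
          fun g => WithConv.ext (AlgHom.ext fun a => (CoalgHomClass.counit_comp_apply g a).trans
            (by rw [show (1 : WithConv (K ⊗[k] A →ₐ[K] K)).ofConv a = _ from AlgHom.convOne_apply a]; rfl))
        show LieKol.push (A := K ⊗[k] A) _ (one' * X'⁻¹) = 1
        have e1 : LieKol.push (A := K ⊗[k] A) (Bialgebra.counitAlgHom K (K ⊗[k] A)) one' = 1 :=
          this (BialgHom.id K (K ⊗[k] A))
        rw [map_mul, map_inv, e1, this ((bc K ψ).comp R), inv_one, one_mul]
      refine (AlgHom.congr_fun (congrArg WithConv.ofConv hpush) z₀).trans ?_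
      rw [show (1 : WithConv (K ⊗[k] A →ₐ[K] K)).ofConv z₀ = _ from AlgHom.convOne_apply z₀,
        show Coalgebra.counit (R := K) z₀ = Bialgebra.counitAlgHom K (K ⊗[k] A) z₀ from rfl, ← hcounit]
      have : χ a₀ = 1 := by
        rw [← hf₀1, ← ha₀]
        exact (CoalgHomClass.counit_comp_apply (Bialgebra.Quotient.mkBialgHom (R := k) J) a₀).symm
      simp [hz₀, this]
  have hPE : ∀ a, P a = E (R a) := by
    intro a
    have := congrArg P (hkey a)
    rw [map_mul, map_mul, hf1, mul_one, mul_one, hEbc] at this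
    exact this
  have hbij : Function.Bijective ψe := by
    have hE : ⇑E = ⇑(ψe.toLinearMap.lTensor K) := funext fun x => by
      induction x using TensorProduct.induction_on with
      | zero => simp
      | tmul c b => rfl
      | add p q hp hq => simp only [map_add, hp, hq]
    have hEsurj : Function.Surjective E := by
      intro y
      obtain ⟨a, rfl⟩ : ∃ a, P a = y := by
        induction y using TensorProduct.induction_on with
        | zero => exact ⟨0, map_zero _⟩
        | tmul c x =>
          obtain ⟨a, rfl⟩ := Ideal.Quotient.mk_surjective x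
          exact ⟨c ⊗ₜ[k] a, rfl⟩
        | add p q hp hq =>
          obtain ⟨a, rfl⟩ := hp
          obtain ⟨b, rfl⟩ := hq
          exact ⟨a + b, map_add _ _ _⟩
      exact ⟨R a, (hPE a).symm⟩
    exact ⟨(Module.FaithfullyFlat.lTensor_injective_iff_injective k K ψe.toLinearMap).1 (hE ▸ hEinj),
      (Module.FaithfullyFlat.lTensor_surjective_iff_surjective k K ψe.toLinearMap).1 (hE ▸ hEsurj)⟩
  let inv : A ⧸ Ie →ₐ[k] B := (AlgEquiv.ofBijective ψe hbij).symm
  let r₀ : A →ₐ[k] B := inv.comp pe
  have hr₀ψ : ∀ b, r₀ (ψ b) = b := fun b => (AlgEquiv.ofBijective ψe hbij).symm_apply_apply b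
  have hr₀ker : ∀ a, pe (a - ψ (r₀ a)) = 0 := by
    intro a
    rw [map_sub, sub_eq_zero]
    exact ((AlgEquiv.ofBijective ψe hbij).apply_symm_apply (pe a)).symm
  have hr₀R : ∀ a, R ((1 : K) ⊗ₜ[k] a) = (1 : K) ⊗ₜ[k] r₀ a := by
    intro a
    have h := hRker ((1 : K) ⊗ₜ[k] (a - ψ (r₀ a))) (by
      show (1 : K) ⊗ₜ[k] pe (a - ψ (r₀ a)) = 0
      rw [hr₀ker, TensorProduct.tmul_zero])
    rw [TensorProduct.tmul_sub, map_sub, sub_eq_zero] at h
    exact h.trans (hR ((1 : K) ⊗ₜ[k] r₀ a))
  let ι₂ : B ⊗[k] B →ₗ[k] (K ⊗[k] B) ⊗[K] (K ⊗[k] B) :=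
    (AlgebraTensorModule.distribBaseChange k K B B).toLinearMap.restrictScalars k ∘ₗ
      TensorProduct.mk k K (B ⊗[k] B) 1
  have hι₂t : ∀ x y, ι₂ (x ⊗ₜ[k] y) = ((1 : K) ⊗ₜ[k] x) ⊗ₜ[K] ((1 : K) ⊗ₜ[k] y) := fun x y => by
    simp [ι₂]
  have hι₂ : Function.Injective ι₂ :=
    (AlgebraTensorModule.distribBaseChange k K B B).injective.comp
      (Module.FaithfullyFlat.tensorProduct_mk_injective (A := k) (B := K) (B ⊗[k] B))
  let r : A →ₐc[k] B := BialgHom.ofAlgHom r₀
    (AlgHom.ext fun a => by
      show Bialgebra.counitAlgHom k B (r₀ a) = χ a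
      have h := hr₀ker a
      obtain ⟨t, ht⟩ := Ideal.mem_span_singleton'.1 (Ideal.Quotient.eq_zero_iff_mem.1 h)
      have h2 := congrArg χ ht
      rw [map_mul, map_sub, map_one, hχe, sub_self, mul_zero, map_sub, eq_comm, sub_eq_zero] at h2
      rw [h2]
      exact (CoalgHomClass.counit_comp_apply ψ (r₀ a)).symm)
    (AlgHom.ext fun a => hι₂ (by
      show ι₂ (Algebra.TensorProduct.map r₀ r₀ (Coalgebra.comul (R := k) a)) = ι₂ (Coalgebra.comul (R := k) (r₀ a))
      have hc : ∀ {D : Type u} [CommRing D] [HopfAlgebra k D] (d : D),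
          Coalgebra.comul (R := K) ((1 : K) ⊗ₜ[k] d) =
            AlgebraTensorModule.distribBaseChange k K D D ((1 : K) ⊗ₜ[k] Coalgebra.comul (R := k) d) := by
        intro D _ _ d
        rw [TensorProduct.comul_tmul, CommSemiring.comul_apply]
        induction Coalgebra.comul (R := k) d using TensorProduct.induction_on with
        | zero => simp
        | tmul p q => simp
        | add p q hp hq => simp only [TensorProduct.tmul_add, map_add, hp, hq]
      have h := CoalgHomClass.map_comp_comul_apply R ((1 : K) ⊗ₜ[k] a)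
      rw [hr₀R, hc, hc] at h
      refine Eq.trans ?_ h
      induction Coalgebra.comul (R := k) a using TensorProduct.induction_on with
      | zero => simp
      | tmul p q =>
        rw [Algebra.TensorProduct.map_tmul, hι₂t]
        simp [hr₀R]
      | add p q hp hq => simp only [TensorProduct.tmul_add, map_add, hp, hq]))
  refine ⟨r, BialgHom.ext hr₀ψ, fun r' hr' => BialgHom.ext fun a => ?_⟩
  show r' a = r₀ a
  have hr'e : r' e = 1 := by
    refine (hH _ (he.map r')).resolve_left fun h0 => ?_
    have := congrArg (Bialgebra.counitAlgHom k B) h0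
    rw [map_zero, show Bialgebra.counitAlgHom k B (r' e) = χ e from CoalgHomClass.counit_comp_apply r' e, hχe] at this
    exact one_ne_zero this
  obtain ⟨t, ht⟩ := Ideal.mem_span_singleton'.1 (Ideal.Quotient.eq_zero_iff_mem.1 (hr₀ker a))
  have h2 := congrArg r' ht
  rw [map_mul, map_sub, map_one, hr'e, sub_self, mul_zero, map_sub, eq_comm, sub_eq_zero] at h2
  exact h2.trans (DFunLike.congr_fun hr' (r₀ a))

end Groth.Agent.DiagSplit
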