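import Groth.Agent.DiagSplit.Central
import Groth.Agent.DiagSplit.Etale
import Groth.Agent.UniPrim.TrigSep
import Mathlib.FieldTheory.Galois.Infinite

/-!
# The unique retraction for an extension of a smooth connected unipotent group by a group of multiplicative type
-/

universe u

set_option autoImplicit false
set_option maxHeartbeats 1000000
set_option synthInstance.maxHeartbeats 100000

open TensorProduct WithConv
open Groth.Agent Groth.Agent.ComodLib
open Groth.Agent.MultTypeLib (mA isGroupLike_mA)
open scoped Classical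

noncomputable section

namespace Groth.Agent.DiagSplit

section Closed

variable {K : Type u} [Field K] {A C : Type u} [CommRing A] [HopfAlgebra K A] [Algebra.FiniteType K A]
  [CommRing C] [HopfAlgebra K C] [Algebra.FiniteType K C]

variable {ψ : C →ₐc[K] A} {T : Type u} [CommRing T] [HopfAlgebra K T] {π : A →ₐc[K] T}

theorem groupLike_lift_unique (hπ : IsKer ψ π) (hψ : Function.Injective ψ) (hU : HopfRep.IsUnipotent K C)
    {g g' : A} (hg : IsGroupLikeElem K g) (hg' : IsGroupLikeElem K g') (h : π g = π g') : g = g' := by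
  have hu : IsGroupLikeElem K (g * HopfAlgebra.antipode K g') := hg.mul hg'.antipode
  have hπu : π (g * HopfAlgebra.antipode K g') = 1 := by
    rw [map_mul, h, ← map_mul, hg'.mul_antipode_cancel, map_one]
  obtain ⟨c, hc⟩ := mem_range_of_resR hπ hψ (c := g * HopfAlgebra.antipode K g') (by
    show (π : A →ₗ[K] T).lTensor A (Coalgebra.comul (R := K) _) = _
    rw [hu.comul_eq_tmul_self, LinearMap.lTensor_tmul]
    exact congrArg (fun t => (g * HopfAlgebra.antipode K g') ⊗ₜ[K] t) hπu)
  have hcg : IsGroupLikeElem K c := by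
    refine ⟨?_, ?_⟩
    · rw [← CoalgHomClass.counit_comp_apply ψ c, hc]; exact hu.counit_eq_one
    · have hinj : Function.Injective (TensorProduct.map (ψ : C →ₗ[K] A) (ψ : C →ₗ[K] A)) := by
        rw [← LinearMap.lTensor_comp_rTensor]
        exact (Module.Flat.lTensor_preserves_injective_linearMap _ hψ).comp
          (Module.Flat.rTensor_preserves_injective_linearMap _ hψ)
      apply hinj
      rw [CoalgHomClass.map_comp_comul_apply ψ c, TensorProduct.map_tmul]
      show _ = ψ c ⊗ₜ[K] ψ c
      rw [hc, hu.comul_eq_tmul_self]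
  have h1 : g * HopfAlgebra.antipode K g' = 1 := by
    rw [← hc, groupLike_eq_one_of_exh (CoradFil.exh_of_isUnipotent hU) hcg, map_one]
  calc g = g * HopfAlgebra.antipode K g' * g' := by rw [mul_assoc, hg'.antipode_mul_cancel, mul_one]
    _ = g' := by rw [h1, one_mul]

theorem exists_retraction_central [IsAlgClosed K] [_root_.IsReduced C] (hπ : IsKer ψ π) (hψ : Function.Injective ψ)
    (hC : ∀ e : C, IsIdempotentElem e → e = 0 ∨ e = 1) (hU : HopfRep.IsUnipotent K C)
    (hspan : Submodule.span K {g : T | IsGroupLikeElem K g} = ⊤) :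
    Algebra.adjoin K (Set.range ψ ∪ {g : A | IsGroupLikeElem K g}) = ⊤ ∧
      ∃ r : A →ₐc[K] C, (∀ c, r (ψ c) = c) ∧ ∀ g, IsGroupLikeElem K g → r g = 1 := by
  haveI := comul_eq_of_groupLike_span hspan
  choose G hG hGπ using fun n : {g : T // IsGroupLikeElem K g} => exists_groupLike_lift hπ hψ hC hU hspan n.2
  let b : Module.Basis {g : T // IsGroupLikeElem K g} K T :=
    Module.Basis.mk (v := fun g : {g : T // IsGroupLikeElem K g} => (g : T))
      linearIndepOn_isGroupLikeElem (by rw [Subtype.range_coe_subtype]; exact hspan.ge)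
  have hb : ∀ n, b n = (n : T) := fun n => Module.Basis.mk_apply _ _ n
  let sl : T →ₗ[K] A := b.constr K G
  have hsl : ∀ g : A, IsGroupLikeElem K g → sl (π g) = g := by
    intro g hg
    have hn : IsGroupLikeElem K (π g) := hg.map π
    have h1 : sl (π g) = sl (b ⟨π g, hn⟩) := congrArg sl (hb ⟨π g, hn⟩).symm
    rw [h1, show sl (b ⟨π g, hn⟩) = G ⟨π g, hn⟩ from b.constr_basis K G _]
    exact groupLike_lift_unique hπ hψ hU (hG _) hg (hGπ _)
  have hslG : ∀ n : {g : T // IsGroupLikeElem K g}, sl (n : T) = G n := fun n => by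
    have := hsl (G n) (hG n)
    rwa [hGπ] at this
  let s : T →ₐ[K] A := AlgHom.ofLinearMap sl
    (by rw [← map_one π]; exact hsl 1 IsGroupLikeElem.one)
    (fun x y => by
      have h : (LinearMap.mul K T).compr₂ sl = (LinearMap.mul K A).compl₁₂ sl sl := by
        refine b.ext fun n => b.ext fun m => ?_
        simp only [LinearMap.compr₂_apply, LinearMap.compl₁₂_apply, LinearMap.mul_apply', hb, hslG]
        rw [← hGπ n, ← hGπ m, ← map_mul]
        exact hsl _ ((hG n).mul (hG m))
      exact LinearMap.congr_fun (LinearMap.congr_fun h x) y)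
  have hs : ∀ g : A, IsGroupLikeElem K g → s (π g) = g := hsl
  -- the projection to the invariants
  let P : WithConv (A →ₐ[K] A) := pull π (toConv s)
  let I : WithConv (A →ₐ[K] A) := toConv (AlgHom.id K A)
  let Θ : WithConv (A →ₐ[K] A) := I * P⁻¹
  have hΘP : Θ * P = I := inv_mul_cancel_right I P
  have hPP : P * P⁻¹ = 1 := mul_inv_cancel P
  let D : A →ₐ[K] A ⊗[K] T :=
    (Algebra.TensorProduct.map (AlgHom.id K A) (π : A →ₐ[K] T)).comp (Bialgebra.comulAlgHom K A)
  let L : A →ₐ[K] A ⊗[K] T := Algebra.TensorProduct.includeLeft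
  let H : WithConv (A →ₐ[K] A ⊗[K] T) :=
    pull π (toConv (Algebra.TensorProduct.includeRight : T →ₐ[K] A ⊗[K] T))
  have hD : ∀ a, D a = resR π a := by
    intro a
    simp only [D, resR, AlgHom.comp_apply, LinearMap.comp_apply, Bialgebra.comulAlgHom_apply]
    induction Coalgebra.comul (R := K) a using TensorProduct.induction_on with
    | zero => simp
    | tmul p q => rfl
    | add p q hp hq => simp only [map_add, hp, hq]
  have hDI : LieKol.push (A := A) D I = LieKol.push (A := A) L I * H := by
    refine WithConv.ext (AlgHom.ext fun x => ?_)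
    rw [AlgHom.convMul_def]
    show D x = _
    simp only [D, H, ofConv_toConv, AlgHom.comp_apply, Bialgebra.comulAlgHom_apply]
    induction Coalgebra.comul (R := K) x using TensorProduct.induction_on with
    | zero => simp
    | tmul p q =>
      simp only [Algebra.TensorProduct.map_tmul, Algebra.TensorProduct.lmul'_apply_tmul, AlgHom.id_apply]
      show _ = (p ⊗ₜ[K] (1 : T)) * ((1 : A) ⊗ₜ[K] π q)
      simp [Algebra.TensorProduct.tmul_mul_tmul]
    | add p q hp hq => simp only [map_add, hp, hq]
  have hDP : LieKol.push (A := A) D P = LieKol.push (A := A) L P * H := by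
    have e : ∀ t : T, D (s t) = (toConv ((L.comp s) : T →ₐ[K] A ⊗[K] T) *
        toConv (Algebra.TensorProduct.includeRight : T →ₐ[K] A ⊗[K] T) : WithConv (T →ₐ[K] A ⊗[K] T)).ofConv t := by
      intro t
      refine LinearMap.congr_fun (b.ext (f₁ := (D.comp s).toLinearMap)
        (f₂ := (toConv ((L.comp s) : T →ₐ[K] A ⊗[K] T) *
          toConv (Algebra.TensorProduct.includeRight : T →ₐ[K] A ⊗[K] T) :
            WithConv (T →ₐ[K] A ⊗[K] T)).ofConv.toLinearMap) fun n => ?_) t
      rw [hb]
      show D (s (n : T)) = _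
      rw [hD, resR, LinearMap.comp_apply, show s (n : T) = G n from hslG n, (hG n).comul_eq_tmul_self,
        LinearMap.lTensor_tmul, AlgHom.toLinearMap_apply, AlgHom.convMul_def]
      show G n ⊗ₜ[K] π (G n) = _
      simp only [ofConv_toConv, AlgHom.comp_apply, Bialgebra.comulAlgHom_apply, n.2.comul_eq_tmul_self,
        Algebra.TensorProduct.map_tmul, Algebra.TensorProduct.lmul'_apply_tmul, hGπ]
      show G n ⊗ₜ[K] (n : T) = (s (n : T) ⊗ₜ[K] (1 : T)) * ((1 : A) ⊗ₜ[K] (n : T))
      rw [show s (n : T) = G n from hslG n]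
      simp [Algebra.TensorProduct.tmul_mul_tmul]
    refine Eq.trans (b := pull π (toConv ((L.comp s) : T →ₐ[K] A ⊗[K] T) *
      toConv (Algebra.TensorProduct.includeRight : T →ₐ[K] A ⊗[K] T))) (WithConv.ext (AlgHom.ext fun x => e (π x))) ?_
    rw [map_mul]
    rfl
  have hDΘ : LieKol.push (A := A) D Θ = LieKol.push (A := A) L Θ := by
    calc LieKol.push (A := A) D Θ
        = LieKol.push (A := A) D Θ * LieKol.push (A := A) D P * LieKol.push (A := A) D P⁻¹ := by
          rw [mul_assoc, ← map_mul, ← map_mul, hPP, mul_one]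
      _ = LieKol.push (A := A) L Θ * (LieKol.push (A := A) L P * H) * LieKol.push (A := A) D P⁻¹ := by
          rw [← map_mul, hΘP, hDI, ← hΘP, map_mul, mul_assoc (LieKol.push (A := A) L Θ)]
      _ = LieKol.push (A := A) L Θ := by
          rw [← hDP, mul_assoc, ← map_mul, hPP, map_one, mul_one]
  have hΘrange : ∀ a, Θ.ofConv a ∈ Set.range ψ := fun a => mem_range_of_resR hπ hψ (by
    rw [← hD]
    exact AlgHom.congr_fun (congrArg WithConv.ofConv hDΘ) a)
  let e := AlgEquiv.ofInjective (ψ : C →ₐ[K] A) hψ
  let r₀ : A →ₐ[K] C := e.symm.toAlgHom.comp (Θ.ofConv.codRestrict (ψ : C →ₐ[K] A).range fun a => hΘrange a)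
  have hr₀ : ∀ a, ψ (r₀ a) = Θ.ofConv a := fun a => congrArg Subtype.val (e.apply_symm_apply _)
  have hΘψ : ∀ c, Θ.ofConv (ψ c) = ψ c := by
    have hPψ : pull ψ P = 1 := by
      refine WithConv.ext (AlgHom.ext fun c => ?_)
      show s (π (ψ c)) = (1 : WithConv (C →ₐ[K] A)) c
      rw [hπ.apply, AlgHom.convOne_apply, AlgHom.commutes]
    have hPiψ : pull ψ P⁻¹ = 1 := by
      have := congrArg (pull ψ) hPP
      rwa [map_mul, map_one, hPψ, one_mul] at this
    intro c
    refine (AlgHom.congr_fun (congrArg WithConv.ofConv (show pull ψ Θ = pull ψ I by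
      rw [map_mul, hPiψ, mul_one])) c).trans ?_
    rfl
  have hr₀ψ : ∀ c, r₀ (ψ c) = c := fun c => hψ (by rw [hr₀, hΘψ])
  have hr₀G : ∀ g, IsGroupLikeElem K g → r₀ g = 1 := by
    intro g hg
    apply hψ
    have h := AlgHom.congr_fun (congrArg WithConv.ofConv hΘP) g
    rw [AlgHom.convMul_def] at h
    simp only [ofConv_toConv, AlgHom.comp_apply, Bialgebra.comulAlgHom_apply, hg.comul_eq_tmul_self,
      Algebra.TensorProduct.map_tmul, Algebra.TensorProduct.lmul'_apply_tmul] at h
    change Θ.ofConv g * s (π g) = g at h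
    rw [hs g hg] at h
    rw [hr₀, map_one]
    calc Θ.ofConv g = Θ.ofConv g * g * HopfAlgebra.antipode K g := by
          rw [mul_assoc, hg.mul_antipode_cancel, mul_one]
      _ = 1 := by rw [h, hg.mul_antipode_cancel]
  -- generation
  have hgen : Algebra.adjoin K (Set.range ψ ∪ {g : A | IsGroupLikeElem K g}) = ⊤ := by
    refine eq_top_iff.2 fun a _ => ?_
    have h := AlgHom.congr_fun (congrArg WithConv.ofConv hΘP) a
    rw [AlgHom.convMul_def] at h
    change _ = a at h
    rw [← h]
    simp only [ofConv_toConv, AlgHom.comp_apply, Bialgebra.comulAlgHom_apply]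
    induction Coalgebra.comul (R := K) a using TensorProduct.induction_on with
    | zero => simp
    | add p q hp hq => simp only [map_add]; exact add_mem hp hq
    | tmul p q =>
      simp only [Algebra.TensorProduct.map_tmul, Algebra.TensorProduct.lmul'_apply_tmul]
      refine mul_mem (Algebra.subset_adjoin (Or.inl (hΘrange p))) ?_
      show sl (π q) ∈ _
      have hle : LinearMap.range sl ≤
          (Algebra.adjoin K (Set.range ψ ∪ {g : A | IsGroupLikeElem K g})).toSubmodule := by
        rw [b.constr_range, Submodule.span_le]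
        rintro _ ⟨n, rfl⟩
        exact Algebra.subset_adjoin (Or.inr (hG n))
      exact hle ⟨π q, rfl⟩
  let r : A →ₐc[K] C := BialgHom.ofAlgHom r₀
    (AlgHom.ext_of_adjoin_eq_top hgen fun x hx => by
      rcases hx with ⟨c, rfl⟩ | hg
      · show Coalgebra.counit (R := K) (r₀ (ψ c)) = Coalgebra.counit (R := K) (ψ c)
        rw [hr₀ψ, CoalgHomClass.counit_comp_apply]
      · show Coalgebra.counit (R := K) (r₀ x) = Coalgebra.counit (R := K) x
        rw [hr₀G x hg, hg.counit_eq_one, Bialgebra.counit_one])
    (AlgHom.ext_of_adjoin_eq_top hgen fun x hx => by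
      rcases hx with ⟨c, rfl⟩ | hg
      · show Algebra.TensorProduct.map r₀ r₀ (Coalgebra.comul (R := K) (ψ c)) = Coalgebra.comul (R := K) (r₀ (ψ c))
        rw [hr₀ψ, ← CoalgHomClass.map_comp_comul_apply ψ c]
        induction Coalgebra.comul (R := K) c using TensorProduct.induction_on with
        | zero => simp
        | tmul p q => exact congrArg₂ (· ⊗ₜ[K] ·) (hr₀ψ p) (hr₀ψ q)
        | add p q hp hq => simp only [map_add, hp, hq]
      · show Algebra.TensorProduct.map r₀ r₀ (Coalgebra.comul (R := K) x) = Coalgebra.comul (R := K) (r₀ x)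
        rw [hr₀G x hg, hg.comul_eq_tmul_self, Bialgebra.comul_one, Algebra.TensorProduct.map_tmul, hr₀G x hg]
        rfl)
  exact ⟨hgen, r, hr₀ψ, hr₀G⟩

/-- Retractions kill group-like elements. -/
theorem eq_one_of_groupLike (hU : HopfRep.IsUnipotent K C) (r : A →ₐc[K] C) {g : A} (hg : IsGroupLikeElem K g) :
    r g = 1 :=
  groupLike_eq_one_of_exh (CoradFil.exh_of_isUnipotent hU) (hg.map r)

end Closed

variable {k : Type u} [Field k]

/-- The unique retraction for an extension by a group of multiplicative type. -/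
theorem existsUnique_retraction_central [PerfectField k] {A C : Type u} [CommRing A] [HopfAlgebra k A]
    [Algebra.FiniteType k A] [CommRing C] [HopfAlgebra k C] [Algebra.FiniteType k C] [Algebra.FormallySmooth k C]
    (hC : HopfRep.IsUnipotent k C) (ψ : C →ₐc[k] A) (hψ : Function.Injective ψ) (J : Ideal A) [J.IsHopfIdeal k]
    (hJ : J = augMap ψ) (hH : SGA3b.IsMultTypeConst k (A ⧸ J))
    (hconn : ∀ e : C, IsIdempotentElem e → e = 0 ∨ e = 1) :
    ∃! r : A →ₐc[k] C, r.comp ψ = BialgHom.id k C := by
  let K := AlgebraicClosure k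
  haveI : IsGalois k K := {}
  let mk' : A →ₐc[k] A ⧸ J := Bialgebra.Quotient.mkBialgHom J
  let π : K ⊗[k] A →ₐc[K] K ⊗[k] (A ⧸ J) := bc K mk'
  have hπsurj : Function.Surjective π := by
    intro x
    induction x using TensorProduct.induction_on with
    | zero => exact ⟨0, map_zero _⟩
    | tmul c t =>
      obtain ⟨a, rfl⟩ := Ideal.Quotient.mk_surjective t
      exact ⟨c ⊗ₜ[k] a, rfl⟩
    | add x y hx hy =>
      obtain ⟨a, rfl⟩ := hx
      obtain ⟨b, rfl⟩ := hy
      exact ⟨a + b, map_add _ _ _⟩
  have hπ : IsKer (bc K ψ) π := by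
    refine ⟨hπsurj, fun z => ⟨fun hz => ?_, fun hz => ?_⟩⟩
    · have hz' : z ∈ (RingHom.ker (Ideal.Quotient.mkₐ k J)).map
          (Algebra.TensorProduct.includeRight : A →ₐ[k] K ⊗[k] A) := by
        rw [← Algebra.TensorProduct.lTensor_ker (A := K) (Ideal.Quotient.mkₐ k J) Ideal.Quotient.mk_surjective]
        refine Eq.trans ?_ hz
        clear hz
        induction z using TensorProduct.induction_on with
        | zero => simp
        | tmul c a => rfl
        | add p q hp hq => simp only [map_add, hp, hq]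
      refine (Ideal.map_le_iff_le_comap.mpr (fun x hx => ?_) : (RingHom.ker (Ideal.Quotient.mkₐ k J)).map
          (Algebra.TensorProduct.includeRight : A →ₐ[k] K ⊗[k] A) ≤ augMap (bc K ψ)) hz'
      exact includeRight_mem_augMap K ψ (hJ ▸ Ideal.Quotient.eq_zero_iff_mem.1 hx)
    · refine (Ideal.map_le_iff_le_comap.mpr (fun y hy => ?_) :
        augMap (bc K ψ) ≤ RingHom.ker (π : K ⊗[k] A →ₐ[K] K ⊗[k] (A ⧸ J)).toRingHom) hz
      show π (bc K ψ y) = 0
      have h : ∀ y, π (bc K ψ y) =
          algebraMap K (K ⊗[k] (A ⧸ J)) (Coalgebra.counit (R := K) y) := by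
        intro y
        induction y using TensorProduct.induction_on with
        | zero => simp
        | add p q hp hq => simp only [map_add, hp, hq]
        | tmul c x =>
          show c ⊗ₜ[k] Ideal.Quotient.mk J (ψ x) = _
          have hx : Ideal.Quotient.mk J (ψ x) = algebraMap k (A ⧸ J) (Coalgebra.counit (R := k) x) := by
            rw [← Ideal.Quotient.mk_algebraMap, Ideal.Quotient.eq, hJ,
              show algebraMap k A (Coalgebra.counit (R := k) x) = ψ (algebraMap k C (Coalgebra.counit (R := k) x)) from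
                ((ψ : C →ₐ[k] A).commutes _).symm, ← map_sub]
            exact Ideal.mem_map_of_mem (ψ : C →+* A) (show x - algebraMap k C (Coalgebra.counit (R := k) x) ∈
              RingHom.ker _ by simp [RingHom.mem_ker])
          rw [hx, Algebra.algebraMap_eq_smul_one, ← TensorProduct.smul_tmul]
          simp [Algebra.TensorProduct.algebraMap_apply]
      rw [h, show Coalgebra.counit (R := K) y = 0 from hy, map_zero]
  have hψ' := bc_injective K ψ hψ
  haveI : _root_.IsReduced (K ⊗[k] C) := isReduced_of_formallySmooth (k := K)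
  have hU : HopfRep.IsUnipotent K (K ⊗[k] C) :=
    CoradFil.isUnipotent_of_exh (CoradFil.exh_one_baseChange K (CoradFil.exh_of_isUnipotent hC))
  have hconn' : ∀ e : K ⊗[k] C, IsIdempotentElem e → e = 0 ∨ e = 1 := by
    intro e he
    let ε := Algebra.TensorProduct.map (AlgHom.id k K) (Bialgebra.counitAlgHom k C)
    rcases IsIdempotentElem.iff_eq_zero_or_one.1
      (((he.map ε).map (Algebra.TensorProduct.rid k k K))) with h | h
    · left
      have h' : ε (1 - e) = 1 := by
        rw [map_sub, map_one, show ε e = 0 from (map_eq_zero_iff _ (Algebra.TensorProduct.rid k k K).injective).1 h,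
          sub_zero]
      exact (sub_eq_self.1 (idem_eq_one K _ hconn he.one_sub h'))
    · right
      exact idem_eq_one K _ hconn he ((map_eq_one_iff _ (Algebra.TensorProduct.rid k k K).injective).1 h)
  have hspan : Submodule.span K {g : K ⊗[k] (A ⧸ J) | IsGroupLikeElem K g} = ⊤ := by
    obtain ⟨M, _, ⟨e⟩⟩ := isDiag_algClosed (k := k) (B := A ⧸ J) inferInstance hH K
    refine eq_top_iff.2 fun x _ => ?_
    rw [← e.symm_apply_apply x]
    induction e x using MonoidAlgebra.induction_on with
    | of m => exact Submodule.subset_span ((MonoidAlgebra.isGroupLikeElem_of (R := K) m).map e.symm)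
    | add p q hp hq => rw [map_add]; exact add_mem hp hq
    | smul c p hp => rw [map_smul]; exact Submodule.smul_mem _ c hp
  obtain ⟨hgen, R, hRψ, hRg⟩ := exists_retraction_central hπ hψ' hconn' hU hspan
  -- equivariance
  have hgal : ∀ (σ : K ≃ₐ[k] K) (z : K ⊗[k] A),
      mA C (σ : K →ₐ[k] K) (R z) = R (mA A (σ : K →ₐ[k] K) z) := by
    intro σ z
    have hz : z ∈ Algebra.adjoin K (Set.range (bc K ψ) ∪ {g : K ⊗[k] A | IsGroupLikeElem K g}) := by
      rw [hgen]; trivial
    induction hz using Algebra.adjoin_induction with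
    | mem x hx =>
      rcases hx with ⟨y, rfl⟩ | hg
      · have e : mA A (σ : K →ₐ[k] K) (bc K ψ y) = bc K ψ (mA C (σ : K →ₐ[k] K) y) := by
          induction y using TensorProduct.induction_on with
          | zero => simp
          | tmul c x => rfl
          | add p q hp hq => simp only [map_add, hp, hq]
        rw [e, hRψ, hRψ]
      · rw [hRg x hg, map_one, hRg _ (isGroupLike_mA _ hg)]
    | algebraMap c =>
      rw [AlgHomClass.commutes R c, Algebra.TensorProduct.algebraMap_apply, Algebra.TensorProduct.algebraMap_apply]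
      simp only [Algebra.algebraMap_self_apply, Algebra.TensorProduct.map_tmul, map_one]
      have := AlgHomClass.commutes R ((σ : K →ₐ[k] K) c)
      rw [Algebra.TensorProduct.algebraMap_apply, Algebra.TensorProduct.algebraMap_apply,
        Algebra.algebraMap_self_apply] at this
      exact this.symm
    | add p q _ _ hp hq => simp only [map_add, hp, hq]
    | mul p q _ _ hp hq => simp only [map_mul, hp, hq]
  let ι : C →ₐ[k] K ⊗[k] C := Algebra.TensorProduct.includeRight
  have hι : Function.Injective ι := Algebra.TensorProduct.includeRight_injective (algebraMap k K).injective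
  have hfix : ∀ a : A, R ((1 : K) ⊗ₜ[k] a) ∈ ι.range := by
    intro a
    let bC := Module.Free.chooseBasis k C
    let bK := Algebra.TensorProduct.basis K bC
    set x := R ((1 : K) ⊗ₜ[k] a) with hx
    have hcoef : ∀ (σ : K ≃ₐ[k] K) (y : K ⊗[k] C) (i), bK.repr (mA C (σ : K →ₐ[k] K) y) i = σ (bK.repr y i) := by
      intro σ y i
      induction y using TensorProduct.induction_on with
      | zero => simp
      | tmul p q => simp [bK]
      | add p q hp hq => simp only [map_add, Finsupp.add_apply, hp, hq]
    have hmem : ∀ i, bK.repr x i ∈ Set.range (algebraMap k K) := fun i =>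
      (InfiniteGalois.mem_range_algebraMap_iff_fixed _).2 fun σ => by
        rw [← hcoef σ x i, hx, hgal]
        simp
    choose c hc using hmem
    refine ⟨∑ i ∈ (bK.repr x).support, c i • bC i, ?_⟩
    conv_rhs => rw [← bK.linearCombination_repr x]
    simp only [Finsupp.linearCombination_apply, Finsupp.sum, AlgHom.coe_toRingHom, map_sum, map_smul]
    refine Finset.sum_congr rfl fun i _ => ?_
    rw [← hc i, algebraMap_smul]
    simp [bK, ι]
  let r₀ : A →ₐ[k] C := (AlgEquiv.ofInjective ι hι).symm.toAlgHom.comp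
    ((((R : K ⊗[k] A →ₐ[K] K ⊗[k] C).restrictScalars k).comp Algebra.TensorProduct.includeRight).codRestrict
      ι.range hfix)
  have hr₀ : ∀ a, (1 : K) ⊗ₜ[k] r₀ a = R ((1 : K) ⊗ₜ[k] a) := fun a =>
    congrArg Subtype.val ((AlgEquiv.ofInjective ι hι).apply_symm_apply _)
  let ι₂ : C ⊗[k] C →ₗ[k] (K ⊗[k] C) ⊗[K] (K ⊗[k] C) :=
    (AlgebraTensorModule.distribBaseChange k K C C).toLinearMap.restrictScalars k ∘ₗ
      TensorProduct.mk k K (C ⊗[k] C) 1
  have hι₂t : ∀ x y, ι₂ (x ⊗ₜ[k] y) = ((1 : K) ⊗ₜ[k] x) ⊗ₜ[K] ((1 : K) ⊗ₜ[k] y) := fun x y => by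
    simp [ι₂]
  have hι₂ : Function.Injective ι₂ :=
    (AlgebraTensorModule.distribBaseChange k K C C).injective.comp
      (Module.FaithfullyFlat.tensorProduct_mk_injective (A := k) (B := K) (C ⊗[k] C))
  let r : A →ₐc[k] C := BialgHom.ofAlgHom r₀
    (AlgHom.ext fun a => (algebraMap k K).injective (by
      show algebraMap k K (Coalgebra.counit (R := k) (r₀ a)) = algebraMap k K (Coalgebra.counit (R := k) a)
      have h := CoalgHomClass.counit_comp_apply R ((1 : K) ⊗ₜ[k] a)
      rw [← hr₀] at h
      simpa [Algebra.smul_def] using h))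
    (AlgHom.ext fun a => hι₂ (by
      show ι₂ (Algebra.TensorProduct.map r₀ r₀ (Coalgebra.comul (R := k) a)) = ι₂ (Coalgebra.comul (R := k) (r₀ a))
      have hc : ∀ {D : Type u} [CommRing D] [HopfAlgebra k D] (d : D),
          Coalgebra.comul (R := K) ((1 : K) ⊗ₜ[k] d) =
            AlgebraTensorModule.distribBaseChange k K D D ((1 : K) ⊗ₜ[k] Coalgebra.comul (R := k) d) := by
        intro D _ _ d
        rw [TensorProduct.comul_tmul, CommSemiring.comul_apply]
        induction Coalgebra.comul (R := k) d using TensorProduct.induction_on with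
        | zero => simp
        | tmul p q => simp
        | add p q hp hq => simp only [TensorProduct.tmul_add, map_add, hp, hq]
      have h := CoalgHomClass.map_comp_comul_apply R ((1 : K) ⊗ₜ[k] a)
      rw [← hr₀, hc, hc] at h
      refine Eq.trans ?_ h
      induction Coalgebra.comul (R := k) a using TensorProduct.induction_on with
      | zero => simp
      | tmul p q =>
        rw [Algebra.TensorProduct.map_tmul, hι₂t]
        simp [hr₀]
      | add p q hp hq => simp only [TensorProduct.tmul_add, map_add, hp, hq]))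
  refine ⟨r, BialgHom.ext fun c => hι ?_, fun r' hr' => BialgHom.ext fun a => hι ?_⟩
  · show (1 : K) ⊗ₜ[k] r₀ (ψ c) = (1 : K) ⊗ₜ[k] c
    rw [hr₀]
    exact hRψ ((1 : K) ⊗ₜ[k] c)
  · show (1 : K) ⊗ₜ[k] r' a = (1 : K) ⊗ₜ[k] r₀ a
    rw [hr₀]
    have h : ((bc K r' : K ⊗[k] A →ₐc[K] K ⊗[k] C) : K ⊗[k] A →ₐ[K] K ⊗[k] C) =
        (R : K ⊗[k] A →ₐ[K] K ⊗[k] C) := by
      refine AlgHom.ext_of_adjoin_eq_top hgen fun x hx => ?_
      rcases hx with ⟨y, rfl⟩ | hg
      · show bc K r' (bc K ψ y) = R (bc K ψ y)
        rw [hRψ]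
        induction y using TensorProduct.induction_on with
        | zero => simp
        | tmul c z =>
          show c ⊗ₜ[k] r' (ψ z) = c ⊗ₜ[k] z
          rw [show r' (ψ z) = z from DFunLike.congr_fun hr' z]
        | add p q hp hq => simp only [map_add, hp, hq]
      · show bc K r' x = R x
        rw [hRg x hg, eq_one_of_groupLike hU (bc K r') hg]
    exact AlgHom.congr_fun h ((1 : K) ⊗ₜ[k] a)

end Groth.Agent.DiagSplit
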