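import Groth.Agent.ComodLib.GradedAug
import Groth.Agent.ComodLib.ReducedSmooth
import Groth.Agent.GrpSchLib.SmoothReduced
import Groth.Agent.GrpSchLib.FieldReduced
import Groth.Agent.UniPrim.TrigSep
import Groth.Agent.S4103
import Groth.Agent.S7963
import Mathlib.RingTheory.Smooth.StandardSmoothOfFree
import Mathlib.Algebra.CharP.Frobenius
import Mathlib.FieldTheory.Perfect

/-!
# Primitive elements of reduced Hopf algebras and their kernels
-/

universe u

set_option autoImplicit false
set_option maxHeartbeats 1000000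

open TensorProduct Polynomial WithConv
open Groth.Agent Groth.Agent.ComodLib
open Groth.Agent.ComodLib.Cartier0
open Groth.Agent.ComodLib.GradedAug (tan_eq_zero_of_mem_sq counit_lieOp lieOp_mem_pow)

noncomputable section

namespace Groth.Agent.DiagSplit

variable {k : Type u} [Field k] {T : Type u} [CommRing T] [HopfAlgebra k T]

/-- A primitive element. -/
def IsPrim (k : Type u) [Field k] {T : Type u} [CommRing T] [HopfAlgebra k T] (y : T) : Prop :=
  Coalgebra.comul (R := k) y = y ⊗ₜ[k] (1 : T) + (1 : T) ⊗ₜ[k] y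

theorem IsPrim.counit_eq_zero {y : T} (hy : IsPrim k y) : Coalgebra.counit (R := k) y = 0 := by
  have h := congrArg (TensorProduct.lid k T) (Coalgebra.rTensor_counit_comul (R := k) y)
  rw [hy, map_add, map_add, LinearMap.rTensor_tmul, LinearMap.rTensor_tmul, TensorProduct.lid_tmul,
    TensorProduct.lid_tmul, TensorProduct.lid_tmul, Bialgebra.counit_one, one_smul, add_eq_right] at h
  have h' := congrArg (Coalgebra.counit (R := k)) h
  rwa [map_smul, Bialgebra.counit_one, map_zero, smul_eq_mul, mul_one] at h'

theorem IsPrim.mem_aug {y : T} (hy : IsPrim k y) : y ∈ aug k T := hy.counit_eq_zero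

theorem IsPrim.lieOp_eq {y : T} (hy : IsPrim k y) (L : Tan k T) : lieOp L y = algebraMap k T (L.1 y) := by
  show slice (L.1) (Coalgebra.comul (R := k) y) = _
  rw [hy, map_add, slice_tmul, slice_tmul, Tan.one, zero_smul, zero_add, Algebra.algebraMap_eq_smul_one]

variable [Algebra.FiniteType k T]

variable (k T) in
theorem exists_dual_basis :
    ∃ (n : ℕ) (x : Fin n → T) (L : Fin n → Tan k T), (∀ i, x i ∈ aug k T) ∧
      (∀ y ∈ aug k T, y - ∑ i, (L i).1 y • x i ∈ aug k T ^ 2) ∧
      ∀ i l, (L i).1 (x l) = if i = l then 1 else 0 := by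
  classical
  let ε := Bialgebra.counitAlgHom k T
  obtain ⟨n₀, x₀, L₀, hx₀, hspan₀⟩ := exists_dual_system (k := k) (A := T)
  let V : Submodule k (Fin n₀ → k) := Submodule.span k (Set.range fun y : aug k T => fun i => (L₀ i).1 y.1)
  let b := Module.finBasis k V
  let ℓ : T →ₗ[k] (Fin n₀ → k) := LinearMap.pi fun i => (L₀ i).1
  have hℓ : ∀ a, ℓ a ∈ V := fun a => by
    have h : ℓ a = ℓ (a - algebraMap k T (ε a)) := by
      rw [map_sub, Algebra.algebraMap_eq_smul_one, map_smul]
      have h1 : ℓ (1 : T) = 0 := funext fun i => Tan.one _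
      rw [h1, smul_zero, sub_zero]
    rw [h]
    exact Submodule.subset_span ⟨⟨_, sub_counit_mem a⟩, rfl⟩
  let ℓV : T →ₗ[k] V := ℓ.codRestrict V hℓ
  have hsurj : ∀ v : V, ∃ y ∈ aug k T, ℓV y = v := by
    rintro ⟨v, hv⟩
    induction hv using Submodule.span_induction with
    | mem v hv =>
      obtain ⟨y, rfl⟩ := hv
      exact ⟨y.1, y.2, rfl⟩
    | zero => exact ⟨0, zero_mem _, by rw [map_zero]; rfl⟩
    | add v w _ _ hv hw =>
      obtain ⟨y, hy, hyv⟩ := hv
      obtain ⟨z, hz, hzw⟩ := hw
      exact ⟨y + z, add_mem hy hz, by rw [map_add, hyv, hzw]; rfl⟩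
    | smul c v _ hv =>
      obtain ⟨y, hy, hyv⟩ := hv
      exact ⟨c • y, Submodule.smul_of_tower_mem _ c hy, by rw [map_smul, hyv]; rfl⟩
  choose x hxm hx using fun i => hsurj (b i)
  let L : Fin _ → Tan k T := fun i => ⟨b.coord i ∘ₗ ℓV, fun a a' => by
    simp only [LinearMap.comp_apply]
    rw [show ℓV (a * a') = ε a • ℓV a' + ε a' • ℓV a from Subtype.ext (funext fun l => (L₀ l).2 a a'),
      map_add, map_smul, map_smul]
    rfl⟩
  refine ⟨_, x, L, hxm, fun y hy => ?_, fun i l => ?_⟩
  · set z := y - ∑ i, (L i).1 y • x i with hz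
    have hz0 : ℓV z = 0 := by
      rw [hz, map_sub, map_sum]
      simp only [map_smul, hx]
      rw [sub_eq_zero]
      exact (b.sum_repr (ℓV y)).symm
    have hzm : z ∈ aug k T := sub_mem hy (sum_mem fun i _ => Submodule.smul_of_tower_mem _ _ (hxm i))
    have hw := hspan₀ z hzm
    simp only [show ∀ i, (L₀ i).1 z = 0 from fun i => congrFun (congrArg Subtype.val hz0) i, zero_smul,
      Finset.sum_const_zero, sub_zero] at hw
    exact hw
  · show b.coord i (ℓV (x l)) = _
    rw [hx, Module.Basis.coord_apply, b.repr_self, Finsupp.single_apply]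
    simp only [eq_comm]

/-- A Hopf subalgebra generated by one primitive element. -/
theorem isHopfSubalgebra_adjoin_prim {y : T} (hy : IsPrim k y) :
    SGA3.IsHopfSubalgebra k T (Algebra.adjoin k {y}) := by
  set S : Subalgebra k T := Algebra.adjoin k {y}
  have hyS : y ∈ S := Algebra.self_mem_adjoin_singleton k y
  constructor
  · intro b hb
    have hle : S ≤ (Algebra.TensorProduct.map S.val S.val).range.comap (Bialgebra.comulAlgHom k T) := by
      refine Algebra.adjoin_le ?_
      intro z hz
      rw [Set.mem_singleton_iff.1 hz]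
      refine ⟨(⟨y, hyS⟩ : S) ⊗ₜ[k] (1 : S) + (1 : S) ⊗ₜ[k] (⟨y, hyS⟩ : S), ?_⟩
      show _ = Coalgebra.comul (R := k) y
      rw [hy]
      simp
    obtain ⟨w, hw⟩ := hle hb
    exact ⟨w, hw⟩
  · intro b hb
    have hle : S ≤ S.comap (HopfAlgebra.antipodeAlgHom k T) := by
      refine Algebra.adjoin_le ?_
      intro z hz
      rw [Set.mem_singleton_iff.1 hz]
      show HopfAlgebra.antipode k y ∈ S
      have h := HopfAlgebra.mul_antipode_rTensor_comul_apply (R := k) y
      rw [hy, hy.counit_eq_zero, map_zero, map_add, map_add, LinearMap.rTensor_tmul, LinearMap.rTensor_tmul,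
        LinearMap.mul'_apply, LinearMap.mul'_apply, HopfAlgebra.antipode_one, one_mul, mul_one] at h
      rw [eq_neg_of_add_eq_zero_left h]
      exact S.neg_mem hyS
    exact hle hb

/-- A primitive element vanishing to infinite order at the origin is algebraic. -/
theorem isAlgebraic_of_forall_mem_pow {y : T} (hy : IsPrim k y) (h : ∀ n, y ∈ aug k T ^ n) :
    IsAlgebraic k y := by
  by_contra htr
  haveI : IsNoetherianRing T := Algebra.FiniteType.isNoetherianRing k T
  haveI : Nontrivial T := nontrivial_of_ne y 0 fun e => htr (e ▸ isAlgebraic_zero)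
  obtain ⟨r, hr⟩ := (Ideal.mem_iInf_smul_pow_eq_bot_iff (aug k T) y).mp
    ((Submodule.mem_iInf _).mpr fun i => by simpa using h i)
  let S : Subalgebra k T := Algebra.adjoin k {y}
  haveI : Module.FaithfullyFlat S T := Groth.Agent.S4103.result k T S (isHopfSubalgebra_adjoin_prim hy)
  have hinj : Function.Injective (Polynomial.aeval y : k[X] →ₐ[k] T) := transcendental_iff_injective.1 htr
  let e : k[X] ≃ₐ[k] S := (AlgEquiv.ofInjective _ hinj).trans
    (Subalgebra.equivOfEq _ _ (Algebra.adjoin_singleton_eq_range_aeval k y).symm)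
  haveI : IsDomain S := e.symm.toRingEquiv.injective.isDomain e.symm.toRingHom
  let yS : S := ⟨y, Algebra.self_mem_adjoin_singleton k y⟩
  have hyS : yS ≠ 0 := fun e0 => htr (by rw [show y = 0 from congrArg Subtype.val e0]; exact isAlgebraic_zero)
  have hreg : IsSMulRegular T yS :=
    Module.Flat.isSMulRegular_of_isRegular (isRegular_of_ne_zero hyS)
  have h1 : yS • (1 - (r : T)) = yS • (0 : T) := by
    rw [smul_zero]
    show y * (1 - (r : T)) = 0
    rw [smul_eq_mul] at hr
    linear_combination -hr
  have h2 : (r : T) = 1 := (sub_eq_zero.1 (hreg h1)).symm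
  have h3 := r.2
  rw [h2] at h3
  exact RingHom.ker_ne_top _ ((Ideal.eq_top_iff_one _).2 h3)

/-- The quotient of a reduced algebra by an algebraic element is reduced. -/
theorem isReduced_quot_of_isAlgebraic {R : Type u} [CommRing R] [Algebra k R] [_root_.IsReduced R] {y : R}
    (hy : IsAlgebraic k y) : _root_.IsReduced (R ⧸ Ideal.span ({y} : Set R)) := by
  obtain ⟨s, hs⟩ : ∃ s, y * (1 - y * s) = 0 := by
    obtain ⟨P, hP0, hP⟩ := hy
    obtain ⟨Q, hPQ, hQ⟩ := P.exists_eq_pow_rootMultiplicity_mul_and_not_dvd hP0 0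
    rw [Polynomial.C_0, sub_zero] at hPQ hQ
    have hQ0 : Q.coeff 0 ≠ 0 := fun h => hQ (Polynomial.X_dvd_iff.2 h)
    rw [hPQ, map_mul, map_pow, aeval_X] at hP
    set n := P.rootMultiplicity 0
    have hyQ : y * aeval y Q = 0 := by
      refine IsReduced.eq_zero _ ⟨n + 1, ?_⟩
      rw [mul_pow, pow_succ (aeval y Q) n, pow_succ y n,
        show y ^ n * y * (aeval y Q ^ n * aeval y Q) = y ^ n * aeval y Q * (y * aeval y Q ^ n) by ring, hP, zero_mul]
    refine ⟨-(algebraMap k R (Q.coeff 0)⁻¹ * aeval y Q.divX), ?_⟩
    have hdec := congrArg (aeval y) Q.divX_mul_X_add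
    rw [map_add, map_mul, aeval_X, aeval_C] at hdec
    have hu : algebraMap k R (Q.coeff 0)⁻¹ * algebraMap k R (Q.coeff 0) = 1 := by
      rw [← map_mul, inv_mul_cancel₀ hQ0, map_one]
    rw [← hdec] at hyQ
    linear_combination (algebraMap k R (Q.coeff 0)⁻¹) * hyQ - y * hu
  refine ⟨fun x hx => ?_⟩
  obtain ⟨x, rfl⟩ := Ideal.Quotient.mk_surjective x
  obtain ⟨n, hn⟩ := hx
  rw [← map_pow, Ideal.Quotient.eq_zero_iff_mem, Ideal.mem_span_singleton'] at hn
  obtain ⟨a, ha⟩ := hn
  rw [Ideal.Quotient.eq_zero_iff_mem, Ideal.mem_span_singleton']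
  refine ⟨s * x, ?_⟩
  have h0 : (1 - y * s) * x = 0 := IsReduced.eq_zero _ ⟨n + 1, by
    rw [mul_pow, pow_succ (1 - y * s) n, pow_succ x n, ← ha]
    linear_combination (1 - y * s) ^ n * a * x * hs⟩
  linear_combination -h0

theorem isReduced_of_formallySmooth {R : Type u} [CommRing R] [Algebra k R] [Algebra.FiniteType k R]
    [Algebra.FormallySmooth k R] : _root_.IsReduced R := by
  haveI : Algebra.FinitePresentation k R := Algebra.FinitePresentation.of_finiteType.1 inferInstance
  haveI : Algebra.Smooth k R := ⟨inferInstance, inferInstance⟩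
  obtain ⟨s, hs, hstd⟩ := Algebra.Smooth.exists_span_eq_top_isStandardSmooth k R
  refine ⟨fun x hx => ?_⟩
  refine Module.eq_zero_of_isLocalized_span s hs (fun r => Localization.Away r.1) (fun r => Algebra.linearMap R _) x
    fun r => ?_
  haveI := hstd r.1 r.2
  haveI := GrpSchLib.isReduced_of_isStandardSmooth k (Localization.Away r.1)
  exact (hx.map (algebraMap R (Localization.Away r.1))).eq_zero

/-- A reduced Hopf algebra of finite type over an algebraically closed field is formally smooth. -/
theorem formallySmooth_of_isReduced [IsAlgClosed k] [_root_.IsReduced T] : Algebra.FormallySmooth k T := by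
  refine RedSm.formallySmooth_of_transitive fun g h => ?_
  refine ⟨S7963.translateEquiv (toConv h * (toConv g)⁻¹), ?_⟩
  have h1 := convMul_ofConv (toConv h * (toConv g)⁻¹) (toConv g)
  rw [inv_mul_cancel_right] at h1
  exact h1

/-- The kernel of a primitive element outside the square of the augmentation ideal is smooth. -/
theorem isReduced_quot_of_notMem_sq [IsAlgClosed k] [_root_.IsReduced T] {y : T} (hy : IsPrim k y)
    (hsq : y ∉ aug k T ^ 2) : _root_.IsReduced (T ⧸ Ideal.span ({y} : Set T)) := by
  classical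
  haveI : Algebra.FormallySmooth k T := formallySmooth_of_isReduced
  obtain ⟨n, x, L, -, hspan, -⟩ := exists_dual_basis k T
  obtain ⟨i, hi⟩ : ∃ i, (L i).1 y ≠ 0 := by
    by_contra h
    push Not at h
    refine hsq ?_
    simpa [h] using hspan y hy.mem_aug
  let S := T ⧸ Ideal.span ({y} : Set T)
  haveI : Algebra.FiniteType k S :=
    Algebra.FiniteType.of_surjective (Ideal.Quotient.mkₐ k _) (Ideal.Quotient.mkₐ_surjective k _)
  suffices Algebra.FormallySmooth k S from isReduced_of_formallySmooth (k := k)
  refine (Algebra.FormallySmooth.iff_split_injection (P := T) Ideal.Quotient.mk_surjective).2 ?_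
  set K : Ideal T := RingHom.ker (algebraMap T S) with hKdef
  have hK : K = Ideal.span {y} := Ideal.mk_ker
  let y0 : K := ⟨y, hK ▸ Ideal.mem_span_singleton_self y⟩
  let w : T := algebraMap k T ((L i).1 y)⁻¹
  let D : Derivation k T K.Cotangent := Derivation.mk'
    ((((LinearMap.toSpanSingleton T K.Cotangent (K.toCotangent y0)).comp
      (LinearMap.mulLeft T w)).restrictScalars k).comp (lieOp (L i))) fun a b => by
    simp only [LinearMap.comp_apply, LinearMap.restrictScalars_apply, LinearMap.mulLeft_apply,
      LinearMap.toSpanSingleton_apply, lieOp_mul, mul_add, add_smul, smul_smul]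
    congr 1 <;> (congr 1; ring)
  have hDy : D y = K.toCotangent y0 := by
    show (w * lieOp (L i) y) • K.toCotangent y0 = _
    rw [hy.lieOp_eq, ← map_mul, inv_mul_cancel₀ hi, map_one, one_smul]
  have hann : ∀ (a : T) (z : K.Cotangent), a ∈ K → a • z = 0 := by
    intro a z ha
    obtain ⟨z, rfl⟩ := K.toCotangent_surjective z
    rw [← map_smul]
    refine (Ideal.toCotangent_eq_zero K _).2 ?_
    rw [pow_two]
    exact Ideal.mul_mem_mul ha z.2
  letI : Module S K.Cotangent := Module.IsTorsionBySet.module (I := Ideal.span ({y} : Set T))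
    (fun z a => hann a z (by rw [hK]; exact a.2))
  haveI : IsScalarTower T S K.Cotangent := Module.IsTorsionBySet.isScalarTower _
  refine ⟨((LinearMap.liftBaseChange S D.liftKaehlerDifferential).restrictScalars T), LinearMap.ext fun z => ?_⟩
  obtain ⟨z, rfl⟩ := K.toCotangent_surjective z
  rw [LinearMap.comp_apply, KaehlerDifferential.kerCotangentToTensor_toCotangent, LinearMap.restrictScalars_apply,
    LinearMap.liftBaseChange_tmul, one_smul, Derivation.liftKaehlerDifferential_comp_D, LinearMap.id_apply]
  obtain ⟨z, hz⟩ := z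
  obtain ⟨a, rfl⟩ := Ideal.mem_span_singleton'.1 (hK ▸ hz : z ∈ Ideal.span ({y} : Set T))
  show D (a * y) = _
  rw [Derivation.leibniz, hDy, hann y _ y0.2, add_zero, ← map_smul]
  rfl

section Frob

variable (p : ℕ)

variable (k T) in
/-- The ideal of `p`-th powers of the augmentation ideal. -/
def augFrob : Ideal T := Ideal.span ((fun f : T => f ^ p) '' (aug k T : Set T))

variable [CharP k p]

theorem lieOp_augFrob (L : Tan k T) {t : T} (ht : t ∈ augFrob k T p) :
    lieOp L t ∈ augFrob k T p := by
  induction ht using Submodule.span_induction with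
  | mem t ht =>
    obtain ⟨f, hf, rfl⟩ := ht
    let D : Derivation k T T := Derivation.mk' (lieOp L) (lieOp_mul L)
    show D (f ^ p) ∈ _
    rw [Derivation.leibniz_pow, nsmul_eq_mul, ← map_natCast (algebraMap k T), CharP.cast_eq_zero, map_zero, zero_mul]
    exact zero_mem _
  | zero => rw [map_zero]; exact zero_mem _
  | add a b _ _ ha hb => rw [map_add]; exact add_mem ha hb
  | smul c a ha0 ha =>
    rw [smul_eq_mul, lieOp_mul]
    exact add_mem (Ideal.mul_mem_left _ _ ha) (Ideal.mul_mem_right _ _ ha0)

variable [Fact p.Prime]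

theorem exists_pow_le_augFrob : ∃ N, aug k T ^ N ≤ augFrob k T p := by
  haveI : IsNoetherianRing T := Algebra.FiniteType.isNoetherianRing k T
  refine Ideal.exists_pow_le_of_le_radical_of_fg (fun f hf => ?_) (IsNoetherian.noetherian _)
  exact ⟨p, Ideal.subset_span ⟨f, hf, rfl⟩⟩

/-- A primitive element of `m ^ 2` lies in the ideal of `p`-th powers of `m`. -/
theorem mem_augFrob_of_prim {y : T} (hy : IsPrim k y) (hsq : y ∈ aug k T ^ 2) : y ∈ augFrob k T p := by
  classical
  have hp : p.Prime := Fact.out
  obtain ⟨n, x, L, hx, hspan, hdual⟩ := exists_dual_basis k T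
  have hLy : ∀ L : Tan k T, lieOp L y = 0 := fun L => by
    rw [hy.lieOp_eq, tan_eq_zero_of_mem_sq L hsq, map_zero]
  let mono : (Fin n → ℕ) → T := fun a => ∏ l, x l ^ a l
  let E : Fin n → Derivation k T T := fun i => x i • Derivation.mk' (lieOp (L i)) (lieOp_mul (L i))
  have hE : ∀ i t, E i t = x i * lieOp (L i) t := fun i t => rfl
  have hEpow : ∀ i j, ∀ t ∈ aug k T ^ j, E i t ∈ aug k T ^ j := by
    intro i j t ht
    rw [hE]
    cases j with
    | zero => simp
    | succ j =>
      rw [pow_succ']
      exact Ideal.mul_mem_mul (hx i) (lieOp_mem_pow (L i) j t ht)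
  -- weights
  let W : Fin n → ℕ → T → k → Prop := fun i e t w => t ∈ aug k T ^ e ∧ E i t - w • t ∈ aug k T ^ (e + 1)
  have hWmul : ∀ i e e' t t' w w', W i e t w → W i e' t' w' → W i (e + e') (t * t') (w + w') := by
    rintro i e e' t t' w w' ⟨h1, h2⟩ ⟨h1', h2'⟩
    refine ⟨by rw [pow_add]; exact Ideal.mul_mem_mul h1 h1', ?_⟩
    have : E i (t * t') - (w + w') • (t * t') = t * (E i t' - w' • t') + t' * (E i t - w • t) := by
      rw [Derivation.leibniz, smul_eq_mul, smul_eq_mul]
      simp only [Algebra.smul_def, map_add]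
      ring
    rw [this]
    refine add_mem ?_ ?_
    · rw [add_assoc, pow_add]; exact Ideal.mul_mem_mul h1 h2'
    · rw [add_comm e e', add_assoc, pow_add]; exact Ideal.mul_mem_mul h1' h2
  have hWone : ∀ i, W i 0 1 0 := fun i => ⟨by simp, by rw [Derivation.map_one_eq_zero, zero_smul, sub_zero]; exact zero_mem _⟩
  have hWx : ∀ i l, W i 1 (x l) (if i = l then 1 else 0) := by
    intro i l
    refine ⟨by rw [pow_one]; exact hx l, ?_⟩
    rw [hE, ← hdual i l, Algebra.smul_def, mul_comm (algebraMap k T _)]
    have h1 : x i * lieOp (L i) (x l) - x l * algebraMap k T ((L i).1 (x l)) =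
        x i * (lieOp (L i) (x l) - algebraMap k T ((L i).1 (x l))) := by
      rw [mul_sub, hdual i l]
      split_ifs with h
      · rw [h]
      · rw [map_zero, mul_zero, mul_zero]
    rw [h1, pow_two]
    refine Ideal.mul_mem_mul (hx i) ?_
    have h2 := sub_counit_mem (k := k) (lieOp (L i) (x l))
    rwa [counit_lieOp] at h2
  have hWpow : ∀ i l a, W i a (x l ^ a) ((if i = l then a else 0 : ℕ) : k) := by
    intro i l a
    induction a with
    | zero =>
      rw [pow_zero]
      simpa using hWone i
    | succ a ih =>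
      rw [pow_succ]
      convert hWmul i a 1 _ _ _ _ ih (hWx i l) using 1
      split_ifs <;> simp
  have hWmono : ∀ i (a : Fin n → ℕ), W i (∑ l, a l) (mono a) (a i : k) := by
    intro i a
    have : ∀ s : Finset (Fin n), W i (∑ l ∈ s, a l) (∏ l ∈ s, x l ^ a l)
        ((∑ l ∈ s, if i = l then a l else 0 : ℕ) : k) := by
      intro s
      induction s using Finset.induction with
      | empty => simpa using hWone i
      | insert l s hl ih =>
        rw [Finset.sum_insert hl, Finset.prod_insert hl, Finset.sum_insert hl, Nat.cast_add]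
        exact hWmul i _ _ _ _ _ _ (hWpow i l (a l)) ih
    simpa [mono] using this Finset.univ
  -- monomials span
  let M : ℕ → Submodule k T := fun j => Submodule.span k (mono '' {a | ∑ l, a l = j})
  have hgen : ∀ j, (aug k T ^ j).restrictScalars k ≤ M j ⊔ (aug k T ^ (j + 1)).restrictScalars k := by
    intro j
    induction j with
    | zero =>
      intro t _
      have h1 : algebraMap k T (Bialgebra.counitAlgHom k T t) ∈ M 0 := by
        rw [Algebra.algebraMap_eq_smul_one]
        exact Submodule.smul_mem _ _ (Submodule.subset_span ⟨(0 : Fin n → ℕ), by simp, by simp [mono]⟩)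
      have h2 : t - algebraMap k T (Bialgebra.counitAlgHom k T t) ∈ (aug k T ^ (0 + 1)).restrictScalars k := by
        show _ ∈ aug k T ^ (0 + 1)
        rw [zero_add, pow_one]
        exact sub_counit_mem t
      have := Submodule.add_mem_sup h1 h2
      rwa [add_sub_cancel] at this
    | succ j ih =>
      intro t ht
      change t ∈ aug k T ^ (j + 1) at ht
      rw [pow_succ] at ht
      induction ht using Submodule.mul_induction_on' with
      | add a _ b _ ha hb => exact add_mem ha hb
      | mem_mul_mem a ha b hb =>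
        obtain ⟨a₁, ha₁, a₂, ha₂, rfl⟩ := Submodule.mem_sup.1 (ih ha)
        obtain ⟨b₁, hb₁, b₂, hb₂, rfl⟩ : ∃ b₁ ∈ Submodule.span k (Set.range x), ∃ b₂ ∈ aug k T ^ 2, b₁ + b₂ = b :=
          ⟨∑ i, (L i).1 b • x i, sum_mem fun i _ => Submodule.smul_mem _ _ (Submodule.subset_span ⟨i, rfl⟩),
            _, hspan b hb, add_sub_cancel _ _⟩
        have hb₁m : b₁ ∈ aug k T :=
          (Submodule.span_le (p := (aug k T).restrictScalars k)).2 (Set.range_subset_iff.2 hx) hb₁
        have ha₁m : a₁ ∈ aug k T ^ j := by
          refine (Submodule.span_le (p := (aug k T ^ j).restrictScalars k)).2 ?_ ha₁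
          rintro _ ⟨a, rfl, rfl⟩
          rcases isEmpty_or_nonempty (Fin n) with h | ⟨⟨i⟩⟩
          · simp [mono]
          · exact (hWmono i a).1
        rw [show (a₁ + a₂) * (b₁ + b₂) = a₁ * b₁ + (a₁ * b₂ + a₂ * (b₁ + b₂)) by ring]
        refine Submodule.add_mem_sup ?_ ?_
        · have key : Submodule.span k (mono '' {a | ∑ l, a l = j}) * Submodule.span k (Set.range x) ≤ M (j + 1) := by
            rw [Submodule.span_mul_span]
            refine Submodule.span_mono ?_
            rintro _ ⟨_, ⟨a, ha, rfl⟩, _, ⟨i, rfl⟩, rfl⟩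
            refine ⟨fun l => a l + if l = i then 1 else 0, ?_, ?_⟩
            · show _ = j + 1
              rw [Finset.sum_add_distrib, ha]
              simp
            · simp only [mono, pow_add, Finset.prod_mul_distrib]
              simp
          exact key (Submodule.mul_mem_mul ha₁ hb₁)
        · refine add_mem ?_ ?_
          · show _ ∈ aug k T ^ (j + 1 + 1)
            rw [add_assoc, pow_add]
            exact Ideal.mul_mem_mul ha₁m hb₂
          · show _ ∈ aug k T ^ (j + 1 + 1)
            rw [pow_succ]
            exact Ideal.mul_mem_mul ha₂ hb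
  -- descend through the powers of the augmentation ideal
  have hmain : ∀ j, y ∈ aug k T ^ (j + 2) ⊔ augFrob k T p := by
    intro j
    induction j with
    | zero => exact Submodule.mem_sup_left hsq
    | succ j ih =>
      obtain ⟨y₁, hy₁, y₂, hy₂, hyy⟩ := Submodule.mem_sup.1 ih
      obtain ⟨z, hz, w, hw, hzw⟩ := Submodule.mem_sup.1 (hgen (j + 2) hy₁)
      let S : Submodule k T := ((aug k T ^ (j + 3)) ⊔ augFrob k T p).restrictScalars k
      let G : ℕ → Submodule k T := fun i =>
        Submodule.span k (mono '' {a | ∑ l, a l = j + 2 ∧ ∀ l : Fin n, (l : ℕ) < i → p ∣ a l}) ⊔ S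
      have hEsup : ∀ i, ∀ t ∈ S, E i t ∈ S := by
        intro i t ht
        obtain ⟨u, hu, v, hv, rfl⟩ := Submodule.mem_sup.1 ht
        rw [map_add]
        refine add_mem (Submodule.mem_sup_left (hEpow i _ u hu)) (Submodule.mem_sup_right ?_)
        rw [hE]
        exact Ideal.mul_mem_left _ _ (lieOp_augFrob p (L i) hv)
      have hG : ∀ i, i ≤ n → y ∈ G i := by
        intro i
        induction i with
        | zero =>
          intro _
          rw [← hyy, ← hzw, add_assoc]
          refine Submodule.add_mem_sup (Submodule.span_mono ?_ hz) ?_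
          · rintro _ ⟨a, ha, rfl⟩
            exact ⟨a, ⟨ha, fun l hl => absurd hl (Nat.not_lt_zero _)⟩, rfl⟩
          · exact add_mem (Submodule.mem_sup_left hw) (Submodule.mem_sup_right hy₂)
        | succ i ih =>
          intro hi
          let i₀ : Fin n := ⟨i, hi⟩
          let Ep : T →ₗ[k] T := (E i₀ : T →ₗ[k] T) ^ (p - 1)
          have hEp : ∀ t ∈ S, Ep t ∈ S := by
            have : ∀ q, ∀ t ∈ S, ((E i₀ : T →ₗ[k] T) ^ q) t ∈ S := by
              intro q
              induction q with
              | zero => intro t ht; exact ht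
              | succ q iq => intro t ht; rw [pow_succ', Module.End.mul_apply]; exact hEsup i₀ _ (iq t ht)
            exact this _
          have hfix : (LinearMap.id - Ep : T →ₗ[k] T) y = y := by
            have hy0 : E i₀ y = 0 := by rw [hE, hLy, mul_zero]
            obtain ⟨q, hq⟩ : ∃ q, p - 1 = q + 1 := ⟨p - 2, by have := hp.two_le; omega⟩
            show y - Ep y = y
            rw [show Ep = (E i₀ : T →ₗ[k] T) ^ q * (E i₀ : T →ₗ[k] T) from by rw [← pow_succ, ← hq],
              Module.End.mul_apply, show (E i₀ : T →ₗ[k] T) y = 0 from hy0, map_zero, sub_zero]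
          have hmap : G i ≤ (G (i + 1)).comap (LinearMap.id - Ep) := by
            refine sup_le (Submodule.span_le.2 ?_) fun t ht => Submodule.mem_sup_right (sub_mem ht (hEp t ht))
            rintro _ ⟨a, ⟨ha, hdiv⟩, rfl⟩
            show mono a - Ep (mono a) ∈ G (i + 1)
            have hiter : ∀ q, ((E i₀ : T →ₗ[k] T) ^ q) (mono a) - ((a i₀ : k) ^ q) • mono a ∈ S := by
              intro q
              induction q with
              | zero => simp
              | succ q iq =>
                rw [pow_succ', Module.End.mul_apply]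
                have h1 := hEsup i₀ _ iq
                have h2 : E i₀ (mono a) - (a i₀ : k) • mono a ∈ S := by
                  refine Submodule.mem_sup_left ?_
                  have := (hWmono i₀ a).2
                  rwa [ha] at this
                have h3 := add_mem h1 (Submodule.smul_mem S ((a i₀ : k) ^ q) h2)
                rw [map_sub, Derivation.map_smul, smul_sub, smul_smul, ← pow_succ, sub_add_sub_cancel] at h3
                exact h3
            by_cases hd : p ∣ a i₀
            · rw [← sub_sub_cancel (mono a) (Ep (mono a))] at *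
              have h0 : Ep (mono a) ∈ S := by
                have := hiter (p - 1)
                rwa [(CharP.cast_eq_zero_iff k p _).2 hd, zero_pow (by have := hp.two_le; omega), zero_smul,
                  sub_zero] at this
              simp only [sub_sub_cancel]
              refine sub_mem (Submodule.mem_sup_left (Submodule.subset_span ⟨a, ⟨ha, fun l hl => ?_⟩, rfl⟩))
                (Submodule.mem_sup_right h0)
              rcases Nat.lt_succ_iff_lt_or_eq.1 hl with h | h
              · exact hdiv l h
              · rwa [show l = i₀ from Fin.ext h]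
            · have := hiter (p - 1)
              rw [show ((a i₀ : k)) ^ (p - 1) = 1 from ?_, one_smul] at this
              · rw [← neg_sub]
                exact Submodule.mem_sup_right (neg_mem this)
              · have h := ZMod.pow_card_sub_one_eq_one (p := p) (a := (a i₀ : ZMod p))
                  (fun h => hd ((ZMod.natCast_eq_zero_iff _ _).1 h))
                have := congrArg (ZMod.castHom (dvd_refl p) k) h
                simpa using this
          have := hmap (ih (by omega))
          rwa [Submodule.mem_comap, hfix] at this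
      have hfin : G n ≤ S := by
        refine sup_le (Submodule.span_le.2 ?_) le_rfl
        rintro _ ⟨a, ⟨ha, hdiv⟩, rfl⟩
        refine Submodule.mem_sup_right ?_
        obtain ⟨l, hl⟩ : ∃ l, a l ≠ 0 := by
          by_contra h
          push Not at h
          simp [h] at ha
        obtain ⟨e, he⟩ := hdiv l l.isLt
        show ∏ m, x m ^ a m ∈ augFrob k T p
        rw [← Finset.prod_erase_mul _ _ (Finset.mem_univ l), he]
        refine Ideal.mul_mem_left _ _ ?_
        obtain ⟨e, rfl⟩ : ∃ e', e = e' + 1 := ⟨e - 1, by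
          rcases Nat.eq_zero_or_pos e with h | h
          · simp [h] at he; exact absurd he hl
          · omega⟩
        rw [mul_add, mul_one, pow_add]
        exact Ideal.mul_mem_left _ _ (Ideal.subset_span ⟨x l, hx l, rfl⟩)
      exact hfin (hG n le_rfl)
  obtain ⟨N, hN⟩ := exists_pow_le_augFrob (k := k) (T := T) p
  exact (sup_le ((Ideal.pow_le_pow_right (Nat.le_add_right N 2)).trans hN) le_rfl) (hmain N)

variable (k T) in
/-- The `p`-th powers, as a subalgebra. -/
def powSubalg : Subalgebra k T :=
  Algebra.adjoin k (Set.range fun f : T => f ^ p)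

theorem isHopfSubalgebra_powSubalg : SGA3.IsHopfSubalgebra k T (powSubalg k T p) := by
  constructor
  · intro b hb
    have hle : powSubalg k T p ≤ (Algebra.TensorProduct.map (powSubalg k T p).val
        (powSubalg k T p).val).range.comap (Bialgebra.comulAlgHom k T) := by
      refine Algebra.adjoin_le ?_
      rintro _ ⟨f, rfl⟩
      show Bialgebra.comulAlgHom k T (f ^ p) ∈
        (Algebra.TensorProduct.map (powSubalg k T p).val (powSubalg k T p).val).range
      rw [map_pow]
      induction Bialgebra.comulAlgHom k T f using TensorProduct.induction_on with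
      | zero => rw [zero_pow (Fact.out : p.Prime).ne_zero]; exact zero_mem _
      | tmul a c =>
        rw [Algebra.TensorProduct.tmul_pow]
        exact ⟨(⟨a ^ p, Algebra.subset_adjoin ⟨a, rfl⟩⟩ : powSubalg k T p) ⊗ₜ[k]
          (⟨c ^ p, Algebra.subset_adjoin ⟨c, rfl⟩⟩ : powSubalg k T p), rfl⟩
      | add u v hu hv =>
        haveI : Nontrivial T := by
          refine nontrivial_of_ne (1 : T) 0 fun h => ?_
          exact one_ne_zero (α := k) (by simpa using congrArg (Coalgebra.counit (R := k)) h)
        haveI : CharP (T ⊗[k] T) p :=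
          charP_of_injective_algebraMap (algebraMap k (T ⊗[k] T)).injective p
        rw [add_pow_char]
        exact add_mem hu hv
    obtain ⟨w, hw⟩ := hle hb
    exact ⟨w, hw⟩
  · intro b hb
    have hle : powSubalg k T p ≤ (powSubalg k T p).comap (HopfAlgebra.antipodeAlgHom k T) := by
      refine Algebra.adjoin_le ?_
      rintro _ ⟨f, rfl⟩
      show HopfAlgebra.antipodeAlgHom k T (f ^ p) ∈ powSubalg k T p
      rw [map_pow]
      exact Algebra.subset_adjoin ⟨_, rfl⟩
    exact hle hb

/-- A primitive element of `m ^ 2` is a `p`-th power. -/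
theorem exists_pow_eq_of_prim [PerfectRing k p] {y : T} (hy : IsPrim k y) (hsq : y ∈ aug k T ^ 2) :
    ∃ z, z ^ p = y := by
  classical
  let P := powSubalg k T p
  have hP := isHopfSubalgebra_powSubalg (k := k) (T := T) p
  letI : HopfAlgebra k P := GrpSchLib.SubHopf.hopf P hP
  let j : P →ₐc[k] T := BialgHom.ofAlgHom P.val rfl (AlgHom.ext fun b => GrpSchLib.SubHopf.map_comulRes P hP b)
  haveI : Algebra.FiniteType k P := UniPrim.finiteType_of_injective j Subtype.val_injective
  obtain ⟨⟨b, hb⟩, rfl⟩ := UniPrim.mem_range_of_comul_sub_mem j Subtype.val_injective y (by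
    rw [hy, add_sub_cancel_left]
    refine ⟨(1 : T) ⊗ₜ[k] ⟨y, ?_⟩, rfl⟩
    refine Ideal.span_le.2 ?_ (mem_augFrob_of_prim p hy hsq)
    rintro _ ⟨f, hf, rfl⟩
    refine Ideal.mem_map_of_mem (j : P →+* T)
      (show (⟨f ^ p, Algebra.subset_adjoin ⟨f, rfl⟩⟩ : P) ∈ RingHom.ker (Bialgebra.counitAlgHom k P) from ?_)
    show Bialgebra.counitAlgHom k T (f ^ p) = 0
    rw [map_pow, show Bialgebra.counitAlgHom k T f = 0 from hf, zero_pow (Fact.out : p.Prime).ne_zero])
  haveI : Nontrivial T := by
    refine nontrivial_of_ne (1 : T) 0 fun h => ?_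
    exact one_ne_zero (α := k) (by simpa using congrArg (Coalgebra.counit (R := k)) h)
  haveI : CharP T p := charP_of_injective_algebraMap (algebraMap k T).injective p
  show ∃ z, z ^ p = b
  clear hy hsq
  induction hb using Algebra.adjoin_induction with
  | mem f hf => exact hf
  | algebraMap c =>
    obtain ⟨r, hr⟩ := surjective_frobenius k p c
    exact ⟨algebraMap k T r, by rw [← map_pow, ← hr, frobenius_def]⟩
  | add a c _ _ ha hc =>
    obtain ⟨a, rfl⟩ := ha
    obtain ⟨c, rfl⟩ := hc
    exact ⟨a + c, add_pow_char a c p⟩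
  | mul a c _ _ ha hc =>
    obtain ⟨a, rfl⟩ := ha
    obtain ⟨c, rfl⟩ := hc
    exact ⟨a * c, mul_pow a c p⟩

end Frob

end Groth.Agent.DiagSplit
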