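import Groth.Agent.DiagSplit.Split
import Groth.Agent.DiagSplit.Primitive
import Groth.Agent.HopfPtLib.Conv3
import Groth.Agent.LieKol.Affine

/-!
# Conjugacy of retractions onto a diagonalizable quotient with unipotent kernel
-/

universe u

set_option autoImplicit false
set_option maxHeartbeats 1000000
set_option synthInstance.maxHeartbeats 100000

open TensorProduct Polynomial WithConv
open Groth.Agent
open scoped Classical

noncomputable section

namespace Groth.Agent.DiagSplit

variable {k : Type u} [Field k]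

section Group

variable {A D : Type u} [CommRing A] [HopfAlgebra k A] [CommRing D] [HopfAlgebra k D]

/-- Composition with a bialgebra map, on convolution monoids. -/
def pull {R : Type u} [CommRing R] [Algebra k R] (f : D →ₐc[k] A) :
    WithConv (A →ₐ[k] R) →* WithConv (D →ₐ[k] R) where
  toFun g := toConv (g.ofConv.comp (f : D →ₐ[k] A))
  map_one' := by
    refine WithConv.ext (AlgHom.ext fun a => ?_)
    show (1 : WithConv (A →ₐ[k] R)) (f a) = (1 : WithConv (D →ₐ[k] R)) a
    rw [AlgHom.convOne_apply, AlgHom.convOne_apply, CoalgHomClass.counit_comp_apply]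
  map_mul' g h := by
    refine WithConv.ext ?_
    show (g * h).ofConv.comp (f : D →ₐ[k] A) = _
    rw [AlgHom.convMul_comp_bialgHom_distrib]

theorem convMul_apply_skew {R : Type u} [CommRing R] [Algebra k R] (f g : WithConv (A →ₐ[k] R)) {x y : A}
    (hx : Coalgebra.comul (R := k) x = y ⊗ₜ[k] x + x ⊗ₜ[k] (1 : A)) :
    (f * g).ofConv x = f.ofConv y * g.ofConv x + f.ofConv x := by
  rw [AlgHom.convMul_def]
  simp [hx]

theorem convMul_apply_groupLike {R : Type u} [CommRing R] [Algebra k R] (f g : WithConv (A →ₐ[k] R)) {x : A}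
    (hx : Coalgebra.comul (R := k) x = x ⊗ₜ[k] x) : (f * g).ofConv x = f.ofConv x * g.ofConv x := by
  rw [AlgHom.convMul_def]
  simp [hx]

theorem convInv_apply {R : Type u} [CommRing R] [Bialgebra k R] (f : WithConv (A →ₐ[k] R)) (x : A) :
    (f⁻¹).ofConv x = f.ofConv (HopfAlgebra.antipode k x) := by
  rfl

theorem comul_comp_bialgHom (f : A →ₐc[k] D) :
    toConv ((Bialgebra.comulAlgHom k D).comp (f : A →ₐ[k] D)) =
      toConv ((Algebra.TensorProduct.includeLeft : D →ₐ[k] D ⊗[k] D).comp (f : A →ₐ[k] D)) *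
        toConv ((Algebra.TensorProduct.includeRight : D →ₐ[k] D ⊗[k] D).comp (f : A →ₐ[k] D)) := by
  refine WithConv.ext (AlgHom.ext fun a => ?_)
  rw [AlgHom.convMul_def]
  show Coalgebra.comul (R := k) (f a) = _
  rw [← CoalgHomClass.map_comp_comul_apply f a]
  simp only [AlgHom.comp_apply, Bialgebra.comulAlgHom_apply, ofConv_toConv]
  induction Coalgebra.comul (R := k) a using TensorProduct.induction_on with
  | zero => simp
  | tmul p q => simp
  | add p q hp hq => simp only [map_add, hp, hq]

/-- A constant point. -/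
def const (R : Type u) [CommRing R] [Algebra k R] : WithConv (A →ₐ[k] k) →* WithConv (A →ₐ[k] R) :=
  LieKol.push (Algebra.ofId k R)

/-- The conjugate of a bialgebra map by a point. -/
def conjHom (v : WithConv (A →ₐ[k] k)) (r : A →ₐc[k] D) : A →ₐ[k] D :=
  (const D v * toConv (r : A →ₐ[k] D) * (const D v)⁻¹).ofConv

theorem counit_conjHom (v : WithConv (A →ₐ[k] k)) (r : A →ₐc[k] D) :
    (Bialgebra.counitAlgHom k D).comp (conjHom v r) = Bialgebra.counitAlgHom k A := by
  have h : LieKol.push (A := A) (Bialgebra.counitAlgHom k D)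
      (const D v * toConv (r : A →ₐ[k] D) * (const D v)⁻¹) = 1 := by
    have hr : LieKol.push (A := A) (Bialgebra.counitAlgHom k D) (toConv (r : A →ₐ[k] D)) = 1 := by
      refine WithConv.ext (AlgHom.ext fun a => ?_)
      show Coalgebra.counit (R := k) (r a) = (1 : WithConv (A →ₐ[k] k)) a
      rw [AlgHom.convOne_apply, CoalgHomClass.counit_comp_apply]
      rfl
    rw [map_mul, map_mul, hr, mul_one, ← map_mul, mul_inv_cancel, map_one]
  have h' := congrArg WithConv.ofConv h
  refine Eq.trans h' (AlgHom.ext fun a => ?_)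
  show (1 : WithConv (A →ₐ[k] k)) a = _
  rw [AlgHom.convOne_apply]
  rfl

theorem comul_conjHom (v : WithConv (A →ₐ[k] k)) (r : A →ₐc[k] D) :
    (Algebra.TensorProduct.map (conjHom v r) (conjHom v r)).comp (Bialgebra.comulAlgHom k A) =
      (Bialgebra.comulAlgHom k D).comp (conjHom v r) := by
  let L : D →ₐ[k] D ⊗[k] D := Algebra.TensorProduct.includeLeft
  let R : D →ₐ[k] D ⊗[k] D := Algebra.TensorProduct.includeRight
  have hU : ∀ f : D →ₐ[k] D ⊗[k] D, LieKol.push (A := A) f (const D v) = const (D ⊗[k] D) v := fun f =>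
    WithConv.ext (AlgHom.ext fun a => f.commutes (v.ofConv a))
  have key : LieKol.push (A := A) (Bialgebra.comulAlgHom k D) (toConv (conjHom v r)) =
      LieKol.push (A := A) L (toConv (conjHom v r)) * LieKol.push (A := A) R (toConv (conjHom v r)) := by
    show LieKol.push (A := A) _ (const D v * _ * (const D v)⁻¹) =
      LieKol.push (A := A) _ (const D v * _ * (const D v)⁻¹) * LieKol.push (A := A) _ (const D v * _ * (const D v)⁻¹)
    simp only [map_mul, map_inv, hU]
    rw [show LieKol.push (A := A) (Bialgebra.comulAlgHom k D) (toConv (r : A →ₐ[k] D)) =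
      LieKol.push (A := A) L (toConv (r : A →ₐ[k] D)) * LieKol.push (A := A) R (toConv (r : A →ₐ[k] D)) from
        comul_comp_bialgHom r]
    group
  refine Eq.trans ?_ (congrArg WithConv.ofConv key).symm
  rw [AlgHom.convMul_def]
  refine AlgHom.ext fun a => ?_
  simp only [AlgHom.comp_apply, ofConv_toConv, Bialgebra.comulAlgHom_apply]
  induction Coalgebra.comul (R := k) a using TensorProduct.induction_on with
  | zero => simp
  | tmul p q => simp [LieKol.push, L, R]
  | add p q hp hq => simp only [map_add, hp, hq]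

/-- The conjugate, as a bialgebra map. -/
def conjBialgHom (v : WithConv (A →ₐ[k] k)) (r : A →ₐc[k] D) : A →ₐc[k] D :=
  BialgHom.ofAlgHom (conjHom v r) (counit_conjHom v r) (comul_conjHom v r)

theorem conjHom_comp (v : WithConv (A →ₐ[k] k)) (r : A →ₐc[k] D) {B : Type u} [CommRing B] [HopfAlgebra k B]
    (ψ : B →ₐc[k] A) (hv : pull ψ v = 1) :
    (conjHom v r).comp (ψ : B →ₐ[k] A) = (r : A →ₐ[k] D).comp (ψ : B →ₐ[k] A) := by
  have h : pull ψ (toConv (conjHom v r)) = pull ψ (toConv (r : A →ₐ[k] D)) := by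
    show pull ψ (const D v * _ * (const D v)⁻¹) = _
    have hc : pull ψ (const D v) = 1 := by
      refine Eq.trans ?_ ((congrArg (LieKol.push (A := B) (Algebra.ofId k D)) hv).trans (map_one _))
      rfl
    rw [map_mul, map_mul, map_inv, hc, inv_one, one_mul, mul_one]
  exact congrArg WithConv.ofConv h

theorem conj_conjBialgHom (v w : WithConv (A →ₐ[k] k)) (r : A →ₐc[k] D) :
    conjHom w (conjBialgHom v r) = conjHom (w * v) r := by
  show (const D w * (const D v * toConv (r : A →ₐ[k] D) * (const D v)⁻¹) * (const D w)⁻¹).ofConv = _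
  show _ = (const D (w * v) * _ * (const D (w * v))⁻¹).ofConv
  rw [map_mul]
  congr 1
  group

end Group

variable {M : Type u} [CommGroup M] {C : Type u} [CommRing C] [HopfAlgebra k C]

theorem gl_id (m : M) : gl (BialgHom.id k (MonoidAlgebra k M)) m = MonoidAlgebra.of k M m := rfl

/-- The skew primitive elements of a group algebra. -/
theorem skew_groupAlgebra (γ : M) {w : MonoidAlgebra k M}
    (hw : Coalgebra.comul (R := k) w =
      MonoidAlgebra.of k M γ ⊗ₜ[k] w + w ⊗ₜ[k] (1 : MonoidAlgebra k M)) :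
    ∃ a : k, w = a • (1 - MonoidAlgebra.of k M γ) := by
  let δ : M → (MonoidAlgebra k M →ₗ[k] k) := fun n =>
    (Finsupp.lapply n).comp (MonoidAlgebra.coeffLinearEquiv k).toLinearMap
  have hδ : ∀ n x, δ n x = x.coeff n := fun n x => rfl
  have key : ∀ n n' : M, (if n = n' then w.coeff n else 0) =
      (if n = γ then w.coeff n' else 0) + (if n' = 1 then w.coeff n else 0) := by
    intro n n'
    let Ψ : MonoidAlgebra k M ⊗[k] MonoidAlgebra k M →ₗ[k] k :=
      (LinearMap.mul' k k).comp (TensorProduct.map (δ n) (δ n'))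
    have h : ∀ x : MonoidAlgebra k M, Ψ (Coalgebra.comul (R := k) x) = if n = n' then x.coeff n else 0 := by
      intro x
      induction x using MonoidAlgebra.induction_linear with
      | zero => simp
      | add x y hx hy =>
        rw [map_add, map_add, hx, hy, MonoidAlgebra.coeff_add, Finsupp.add_apply]
        split_ifs <;> simp
      | single m c =>
        rw [show Coalgebra.comul (R := k) (MonoidAlgebra.single m c) =
          MonoidAlgebra.single m c ⊗ₜ[k] MonoidAlgebra.single m (1 : k) by
            rw [show MonoidAlgebra.single m c = c • MonoidAlgebra.single m (1 : k) by simp, map_smul,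
              ← TensorProduct.smul_tmul', MonoidAlgebra.comul_single, CommSemiring.comul_apply,
              TensorProduct.map_tmul]
            simp [TensorProduct.smul_tmul']]
        simp only [Ψ, LinearMap.comp_apply, TensorProduct.map_tmul, LinearMap.mul'_apply, hδ,
          MonoidAlgebra.coeff_single, Finsupp.single_apply]
        by_cases h1 : n = n'
        · subst h1
          by_cases h2 : m = n <;> simp [h2]
        · by_cases h2 : m = n <;> simp [h1, h2]
    rw [← h w, hw, map_add]
    simp [Ψ, hδ, MonoidAlgebra.of_apply, MonoidAlgebra.one_def, Finsupp.single_apply, eq_comm]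
  refine ⟨w.coeff 1, MonoidAlgebra.ext (Finsupp.ext fun n => ?_)⟩
  have h1 := key n 1
  rw [if_pos (rfl : (1 : M) = 1)] at h1
  rw [MonoidAlgebra.coeff_smul, Finsupp.smul_apply, MonoidAlgebra.coeff_sub, Finsupp.sub_apply,
    MonoidAlgebra.of_apply, MonoidAlgebra.one_def, MonoidAlgebra.coeff_single, MonoidAlgebra.coeff_single,
    Finsupp.single_apply, Finsupp.single_apply, smul_eq_mul]
  simp only [@eq_comm M (1 : M) n, @eq_comm M γ n]
  split_ifs at h1 ⊢ with p q <;> first | linear_combination -h1 | (subst p; linear_combination -h1)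

theorem apply_gl (j : MonoidAlgebra k M →ₐc[k] C) {r : C →ₐc[k] MonoidAlgebra k M}
    (hr : ∀ x, r (j x) = x) (m : M) : r (gl j m) = MonoidAlgebra.of k M m :=
  hr _

theorem apply_skew (j : MonoidAlgebra k M →ₐc[k] C) {r : C →ₐc[k] MonoidAlgebra k M}
    (hr : ∀ x, r (j x) = x) (γ : M) {u : C}
    (hu : Coalgebra.comul (R := k) u = gl j γ ⊗ₜ[k] u + u ⊗ₜ[k] 1) :
    ∃ a : k, r u = a • (1 - MonoidAlgebra.of k M γ) := by
  refine skew_groupAlgebra γ ?_
  rw [← CoalgHomClass.map_comp_comul_apply r u, hu, map_add, TensorProduct.map_tmul, TensorProduct.map_tmul]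
  show r (gl j γ) ⊗ₜ[k] r u + r u ⊗ₜ[k] r 1 = _
  rw [map_one, apply_gl j hr]

theorem eval₂_counit_relPoly (γ : M) (d : ℕ) (c : ℕ → k) (b : k) :
    (relPoly γ d c).eval₂ (Bialgebra.counitAlgHom k (MonoidAlgebra k M) : MonoidAlgebra k M →+* k) b =
      b ^ d - ∑ i ∈ Finset.range d, (if i = 0 then 0 else c i) * b ^ i := by
  rw [relPoly, eval₂_sub, eval₂_X_pow, eval₂_finsetSum]
  refine congrArg (fun t => b ^ d - t) (Finset.sum_congr rfl fun i _ => ?_)
  rw [eval₂_monomial]
  congr 1
  show Bialgebra.counitAlgHom k (MonoidAlgebra k M) (relCoeff γ d c i) = _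
  rw [relCoeff]
  split_ifs
  · rw [map_smul, map_sub, map_one, map_pow,
      show Bialgebra.counitAlgHom k (MonoidAlgebra k M) (MonoidAlgebra.of k M γ) = 1 by simp [MonoidAlgebra.of_apply],
      one_pow, sub_self, smul_zero]
  · exact AlgHom.commutes _ _

theorem monic_relPoly (γ : M) (d : ℕ) (c : ℕ → k) : (relPoly γ d c).Monic :=
  monic_X_pow_sub (degree_sum_monomial_lt d _)

theorem natDegree_relPoly (γ : M) (d : ℕ) (c : ℕ → k) : (relPoly γ d c).natDegree = d := by
  refine natDegree_eq_of_degree_eq_some ?_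
  have h := degree_sum_monomial_lt d (relCoeff (k := k) γ d c)
  rw [relPoly, degree_sub_eq_left_of_degree_lt (by rwa [degree_X_pow]), degree_X_pow]

/-- The augmentation ideal of `k[M]`, spread out over `C`. -/
abbrev kerIdeal (j : MonoidAlgebra k M →ₐc[k] C) : Ideal C :=
  Ideal.map (j : MonoidAlgebra k M →+* C) (RingHom.ker (Bialgebra.counitAlgHom k (MonoidAlgebra k M)))

theorem sub_counit_mem_kerIdeal (j : MonoidAlgebra k M →ₐc[k] C) (x : MonoidAlgebra k M) :
    j x - algebraMap k C (Coalgebra.counit (R := k) x) ∈ kerIdeal j := by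
  rw [← (j : MonoidAlgebra k M →ₐ[k] C).commutes]
  show j x - j (algebraMap k _ _) ∈ _
  rw [← map_sub]
  exact Ideal.mem_map_of_mem (j : MonoidAlgebra k M →+* C)
    (show x - algebraMap k _ (Coalgebra.counit (R := k) x) ∈ RingHom.ker _ by simp [RingHom.mem_ker])

theorem mk_j (j : MonoidAlgebra k M →ₐc[k] C) (x : MonoidAlgebra k M) :
    Ideal.Quotient.mk (kerIdeal j) (j x) = algebraMap k _ (Coalgebra.counit (R := k) x) :=
  Ideal.Quotient.eq.2 (sub_counit_mem_kerIdeal j x)

/-- A point of the kernel carrying one retraction to the other on a skew primitive element. -/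
theorem exists_point [IsAlgClosed k] [Algebra.FiniteType k C] (j : MonoidAlgebra k M →ₐc[k] C)
    (hj : Function.Injective j) (γ : M) {u : C}
    (hu : Coalgebra.comul (R := k) u = gl j γ ⊗ₜ[k] u + u ⊗ₜ[k] 1) (r' r'' : C →ₐc[k] MonoidAlgebra k M)
    (hr' : ∀ x, r' (j x) = x) (hr'' : ∀ x, r'' (j x) = x)
    (hred : _root_.IsReduced (MonoidAlgebra k M) ∨ _root_.IsReduced (C ⧸ kerIdeal j)) :
    ∃ (a' a'' : k) (v : C →ₐ[k] k), (∀ x, v (j x) = Coalgebra.counit (R := k) x) ∧
      r' u = a' • (1 - MonoidAlgebra.of k M γ) ∧ r'' u = a'' • (1 - MonoidAlgebra.of k M γ) ∧ v u = a'' - a' := by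
  obtain ⟨a₁, ha₁⟩ := apply_skew j hr' γ hu
  obtain ⟨a₂, ha₂⟩ := apply_skew j hr'' γ hu
  obtain ⟨a', a'', ha', ha'', hzero⟩ : ∃ a' a'' : k, r' u = a' • (1 - MonoidAlgebra.of k M γ) ∧
      r'' u = a'' • (1 - MonoidAlgebra.of k M γ) ∧ (γ = 1 → a'' - a' = 0) := by
    by_cases hγ : γ = 1
    · exact ⟨0, 0, by rw [ha₁, hγ, map_one, sub_self, smul_zero, smul_zero],
        by rw [ha₂, hγ, map_one, sub_self, smul_zero, smul_zero], fun _ => sub_zero 0⟩
    · exact ⟨a₁, a₂, ha₁, ha₂, fun h => absurd h hγ⟩
  set b := a'' - a' with hb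
  -- the subalgebra `k[M][u]`
  let R : Subalgebra k C := adj j u
  haveI : Module.FaithfullyFlat R C := Groth.Agent.S4103.result k C R (isHopfSubalgebra_adj j γ hu)
  let ev' : (MonoidAlgebra k M)[X] →+* R := (ev j u).codRestrict R fun p => by
    induction p using Polynomial.induction_on' with
    | add p q hp hq => rw [map_add]; exact add_mem hp hq
    | monomial i x =>
      rw [ev_monomial]
      exact mul_mem (j_mem_adj j u x) (pow_mem (mem_adj j u) i)
  have hev' : Function.Surjective ev' := fun x => by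
    obtain ⟨p, hp⟩ := exists_ev_of_mem_adj j u x.2
    exact ⟨p, Subtype.ext hp⟩
  have hkerev : ∀ p, p ∈ RingHom.ker ev' ↔ ev j u p = 0 := fun p => by
    rw [RingHom.mem_ker, Subtype.ext_iff]
    rfl
  have heval : ∀ (r : C →ₐc[k] MonoidAlgebra k M), (∀ x, r (j x) = x) → ∀ p, ev j u p = 0 → p.eval (r u) = 0 := by
    intro r hr p hp
    have h : ((r : C →ₐ[k] MonoidAlgebra k M) : C →+* MonoidAlgebra k M).comp (ev j u) =
        Polynomial.evalRingHom (r u) := by
      refine Polynomial.ringHom_ext (fun x => ?_) ?_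
      · show r (ev j u (Polynomial.C x)) = _
        rw [ev_C, hr]
        simp
      · show r (ev j u X) = _
        rw [ev_X]
        simp
    have := congrArg (fun f : (MonoidAlgebra k M)[X] →+* MonoidAlgebra k M => f p) h
    simp only [RingHom.comp_apply, hp, map_zero, Polynomial.coe_evalRingHom] at this
    exact this.symm
  -- the relation vanishes at `b`
  let εr : MonoidAlgebra k M →+* k := Bialgebra.counitAlgHom k (MonoidAlgebra k M)
  have hpb : ∀ p, ev j u p = 0 → p.eval₂ εr b = 0 := by
    rcases exists_relation j hj γ hu with h | ⟨d, c, h⟩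
    · intro p hp
      rw [h p hp, eval₂_zero]
    suffices hq : (relPoly γ d c).eval₂ εr b = 0 by
      intro p hp
      obtain ⟨t, rfl⟩ := h.dvd p hp
      rw [eval₂_mul, hq, zero_mul]
    rw [eval₂_counit_relPoly]
    by_cases hγ : γ = 1
    · rw [hzero hγ, zero_pow h.pos.ne', Finset.sum_eq_zero, sub_zero]
      intro i _
      rcases Nat.eq_zero_or_pos i with rfl | hi
      · simp
      · rw [zero_pow hi.ne', mul_zero]
    by_cases hγd : γ ^ d = 1
    · exfalso
      rcases hred with hB | hT
      · have h1 : IsNilpotent (1 - MonoidAlgebra.of k M γ) := ⟨d, by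
          rw [one_sub_pow_of_choose (k := k) _ h.pos h.choose_eq, ← map_pow, hγd, map_one, sub_self]⟩
        have h2 := h1.eq_zero
        rw [sub_eq_zero, ← map_one (MonoidAlgebra.of k M)] at h2
        exact hγ (MonoidAlgebra.of_injective h2.symm)
      · obtain ⟨e, rfl⟩ : ∃ e, d = e + 2 := by
          rcases Nat.lt_or_ge d 2 with hd | hd
          · obtain rfl : d = 1 := by have := h.pos; omega
            exact absurd (by rwa [pow_one] at hγd) hγ
          · exact ⟨d - 2, by omega⟩
        have hc1 : c 1 = 0 := by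
          by_contra hne
          have := h.pow_eq 1 one_pos (by omega) hne
          rw [pow_one, hγd] at this
          exact hγ this
        -- the reduction of the relation
        set P : k[X] := (relPoly γ (e + 2) c).map εr with hP
        have hP0 : ∀ i, i < 2 → P.coeff i = 0 := by
          intro i hi
          rw [hP, coeff_map, relPoly, coeff_sub, finsetSum_coeff, Finset.sum_eq_single i]
          · rw [coeff_monomial, if_pos rfl, coeff_X_pow, if_neg (by omega), zero_sub, map_neg, neg_eq_zero]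
            interval_cases i
            · rw [relCoeff, if_pos rfl]
              show Bialgebra.counitAlgHom k (MonoidAlgebra k M) _ = 0
              rw [← map_pow, hγd, map_one, sub_self, smul_zero, map_zero]
            · rw [relCoeff, if_neg one_ne_zero, hc1, map_zero, map_zero]
          · intro l _ hl
            rw [coeff_monomial, if_neg hl]
          · intro hni
            exact absurd (Finset.mem_range.2 (by omega)) hni
        obtain ⟨g, hg⟩ : ∃ g : k[X], P = X ^ 2 * g :=
          (Polynomial.X_pow_dvd_iff).2 hP0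
        let π := Ideal.Quotient.mk (kerIdeal j)
        have hπev : π.comp (ev j u) =
            (Polynomial.aeval (π u) : k[X] →ₐ[k] C ⧸ kerIdeal j).toRingHom.comp (Polynomial.mapRingHom εr) := by
          refine Polynomial.ringHom_ext (fun x => ?_) ?_
          · show π (ev j u (Polynomial.C x)) = Polynomial.aeval (π u) ((Polynomial.C x).map εr)
            rw [ev_C, Polynomial.map_C, aeval_C]
            exact mk_j j x
          · show π (ev j u X) = Polynomial.aeval (π u) ((X : (MonoidAlgebra k M)[X]).map εr)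
            rw [ev_X, Polynomial.map_X, aeval_X]
        have hPy : Polynomial.aeval (π u) P = 0 := by
          have := congrArg (fun f : (MonoidAlgebra k M)[X] →+* C ⧸ kerIdeal j => f (relPoly γ (e + 2) c)) hπev
          simp only [RingHom.comp_apply, h.root, map_zero, Polynomial.coe_mapRingHom] at this
          exact this.symm
        have hXg : Polynomial.aeval (π u) (X * g) = 0 := by
          refine IsReduced.eq_zero _ ⟨2, ?_⟩
          rw [← map_pow, show (X * g) ^ 2 = P * g by rw [hg]; ring, map_mul, hPy, zero_mul]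
        let s : (MonoidAlgebra k M)[X] := (X * g).map (algebraMap k (MonoidAlgebra k M))
        have hεs : s.map εr = X * g := by
          rw [Polynomial.map_map]
          convert Polynomial.map_id (p := X * g)
          ext c
          simp [εr]
        have hs : ev j u s ∈ kerIdeal j := by
          rw [← Ideal.Quotient.eq_zero_iff_mem]
          have := congrArg (fun f : (MonoidAlgebra k M)[X] →+* C ⧸ kerIdeal j => f s) hπev
          simp only [RingHom.comp_apply, Polynomial.coe_mapRingHom, hεs] at this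
          exact this.trans hXg
        have hs' : ev' s ∈ ((RingHom.ker εr).map Polynomial.C).map ev' := by
          rw [← Ideal.comap_map_eq_self_of_faithfullyFlat (B := C) (((RingHom.ker εr).map Polynomial.C).map ev'),
            Ideal.mem_comap, Ideal.map_map, Ideal.map_map]
          have he : ((algebraMap R C).comp ev').comp Polynomial.C = (j : MonoidAlgebra k M →+* C) := by
            exact RingHom.ext fun x => ev_C j u x
          rw [he]
          exact hs
        obtain ⟨t, ht, hst⟩ := (Ideal.mem_map_iff_of_surjective ev' hev').1 hs'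
        have hdvd : relPoly γ (e + 2) c ∣ s - t := h.dvd _ ((hkerev _).1 (by rw [RingHom.mem_ker, map_sub, hst, sub_self]))
        have ht0 : t.map εr = 0 := by
          refine Polynomial.ext fun i => ?_
          rw [coeff_map, coeff_zero]
          exact Ideal.mem_map_C_iff.1 ht i
        have hdvd' : P ∣ X * g := by
          have := Polynomial.map_dvd εr hdvd
          rwa [Polynomial.map_sub, ht0, sub_zero, hεs] at this
        have hPm : P.Monic := (monic_relPoly γ (e + 2) c).map _
        have hPd : P.natDegree = e + 2 := by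
          rw [hP, (monic_relPoly γ (e + 2) c).natDegree_map, natDegree_relPoly]
        have hg0 : g ≠ 0 := fun h0 => hPm.ne_zero (by rw [hg, h0, mul_zero])
        have hle := Polynomial.natDegree_le_of_dvd hdvd' (mul_ne_zero X_ne_zero hg0)
        rw [hPd, natDegree_X_mul hg0] at hle
        rw [hg, natDegree_mul (pow_ne_zero _ X_ne_zero) hg0, natDegree_X_pow] at hPd
        omega
    -- the two scalars are roots
    have hne : (1 - MonoidAlgebra.of k M γ ^ d : MonoidAlgebra k M) ≠ 0 := by
      rw [sub_ne_zero, ← map_pow, ← map_one (MonoidAlgebra.of k M)]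
      exact fun h0 => hγd (MonoidAlgebra.of_injective h0).symm
    have hroot : ∀ (r : C →ₐc[k] MonoidAlgebra k M), (∀ x, r (j x) = x) → ∀ a : k,
        r u = a • (1 - MonoidAlgebra.of k M γ) → a ^ d = ∑ i ∈ Finset.range d, c i * a ^ i := by
      intro r hr a ha
      have := heval r hr _ h.root
      rw [ha, eval_relPoly h] at this
      exact sub_eq_zero.1 ((smul_eq_zero.1 this).resolve_right hne)
    rw [hb, sub_pow_of_choose (k := k) a'' a' h.pos h.choose_eq, hroot r'' hr'' a'' ha'', hroot r' hr' a' ha',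
      ← Finset.sum_sub_distrib, ← Finset.sum_sub_distrib]
    refine Finset.sum_eq_zero fun i hi => ?_
    rw [Finset.mem_range] at hi
    rcases Nat.eq_zero_or_pos i with rfl | hi0
    · simp
    · rw [if_neg (by omega)]
      by_cases hc : c i = 0
      · simp [hc]
      · rw [sub_pow_of_choose (k := k) a'' a' hi0 (h.sub_eq i hi0 hi hc)]
        ring
  -- the point
  let Q : Ideal (MonoidAlgebra k M)[X] := RingHom.ker (Polynomial.eval₂RingHom εr b)
  have hQ : Q ≠ ⊤ := RingHom.ker_ne_top _
  have hQ' : (Q.map ev').map (algebraMap R C) ≠ ⊤ := by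
    intro htop
    have h1 := Ideal.comap_map_eq_self_of_faithfullyFlat (B := C) (Q.map ev')
    rw [htop, Ideal.comap_top] at h1
    have h2 := Ideal.comap_map_of_surjective ev' hev' Q
    rw [← h1, Ideal.comap_top] at h2
    refine hQ (top_le_iff.1 ?_)
    rw [h2]
    exact sup_le le_rfl fun p hp => hpb p ((hkerev p).1 hp)
  obtain ⟨g, hg⟩ := ComodLib.exists_point (k := k) _ hQ'
  have hmem : ∀ p ∈ Q, g (ev j u p) = 0 := fun p hp =>
    hg (Ideal.mem_map_of_mem (algebraMap R C) (Ideal.mem_map_of_mem ev' hp))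
  refine ⟨a', a'', g, fun x => ?_, ha', ha'', ?_⟩
  · have := hmem (Polynomial.C (x - algebraMap k _ (Coalgebra.counit (R := k) x))) (by
      simp [Q, εr, RingHom.mem_ker])
    rw [ev_C, map_sub, map_sub, sub_eq_zero] at this
    refine this.trans ?_
    show g (j (algebraMap k _ _)) = _
    rw [show j (algebraMap k (MonoidAlgebra k M) (Coalgebra.counit (R := k) x)) = algebraMap k C _ from
      (j : MonoidAlgebra k M →ₐ[k] C).commutes _, AlgHom.commutes]
    rfl
  · have := hmem (X - Polynomial.C (algebraMap k _ b)) (by simp [Q, εr, RingHom.mem_ker])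
    rw [map_sub, ev_X, ev_C, map_sub, sub_eq_zero] at this
    refine this.trans ?_
    rw [show j (algebraMap k (MonoidAlgebra k M) b) = algebraMap k C b from
      (j : MonoidAlgebra k M →ₐ[k] C).commutes _, AlgHom.commutes]
    rfl

/-- A skew primitive element whose kernel stays reduced. -/
theorem exists_good_skew [IsAlgClosed k] [Algebra.FiniteType k C] (j : MonoidAlgebra k M →ₐc[k] C)
    (hj : Function.Injective j) (r : C →ₐc[k] MonoidAlgebra k M) (hr : ∀ x, r (j x) = x)
    [(kerIdeal j).IsHopfIdeal k] [_root_.IsReduced (C ⧸ kerIdeal j)]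
    (hU : HopfRep.IsUnipotent k (C ⧸ kerIdeal j)) (hns : ¬ Function.Surjective j) :
    ∃ (γ : M) (u : C), Coalgebra.comul (R := k) u = gl j γ ⊗ₜ[k] u + u ⊗ₜ[k] 1 ∧ u ∉ Set.range j ∧
      _root_.IsReduced ((C ⧸ kerIdeal j) ⧸ Ideal.span ({Ideal.Quotient.mk (kerIdeal j) u} : Set (C ⧸ kerIdeal j))) := by
  haveI : Algebra.FiniteType k (MonoidAlgebra k M) := UniPrim.finiteType_of_injective j hj
  haveI : Algebra.FiniteType k (C ⧸ kerIdeal j) :=
    Algebra.FiniteType.of_surjective (Ideal.Quotient.mkₐ k _) (Ideal.Quotient.mkₐ_surjective k _)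
  let T := C ⧸ kerIdeal j
  let π : C →ₐc[k] T := Bialgebra.Quotient.mkBialgHom (kerIdeal j)
  have hπj : ∀ x, π (j x) = algebraMap k T (Coalgebra.counit (R := k) x) := mk_j j
  have hπg : ∀ m, π (gl j m) = 1 := fun m => by
    show π (j (MonoidAlgebra.of k M m)) = 1
    rw [hπj]
    simp [MonoidAlgebra.of_apply]
  have hskew : ∀ (γ : M) (u : C), Coalgebra.comul (R := k) u = gl j γ ⊗ₜ[k] u + u ⊗ₜ[k] 1 → IsPrim k (π u) := by
    intro γ u hu
    show Coalgebra.comul (R := k) (π u) = _
    rw [← CoalgHomClass.map_comp_comul_apply π u, hu, map_add, TensorProduct.map_tmul, TensorProduct.map_tmul]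
    show π (gl j γ) ⊗ₜ[k] π u + π u ⊗ₜ[k] π 1 = _
    rw [hπg, map_one, add_comm]
  have hne : ∀ (γ : M) (u : C), Coalgebra.comul (R := k) u = gl j γ ⊗ₜ[k] u + u ⊗ₜ[k] 1 →
      u ∉ Set.range j → π u ≠ 0 := by
    intro γ u hu hnot h0
    refine hnot (UniPrim.mem_range_of_comul_sub_mem j hj u ?_)
    rw [hu, add_sub_cancel_right]
    exact ⟨gl j γ ⊗ₜ[k] ⟨u, (Ideal.Quotient.eq_zero_iff_mem.1 h0 : u ∈ kerIdeal j)⟩, rfl⟩
  by_contra hcon
  push Not at hcon
  have hall : ∀ (γ : M) (u : C), Coalgebra.comul (R := k) u = gl j γ ⊗ₜ[k] u + u ⊗ₜ[k] 1 →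
      π u ∈ ComodLib.Cartier0.aug k T ^ 2 := by
    intro γ u hu
    by_cases hnot : u ∈ Set.range j
    · obtain ⟨x, rfl⟩ := hnot
      have h0 := (hskew γ _ hu).counit_eq_zero
      rw [CoalgHomClass.counit_comp_apply] at h0
      rw [hπj, ← CoalgHomClass.counit_comp_apply j x, h0, map_zero]
      exact zero_mem _
    · by_contra hsq
      exact hcon γ u hu hnot (isReduced_quot_of_notMem_sq (hskew γ u hu) hsq)
  obtain ⟨γ₀, u₀, hu₀, hu₀'⟩ := exists_skew j hj π (Ideal.Quotient.mk_surjective (I := kerIdeal j)) (kerIdeal j)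
    (fun a => Ideal.Quotient.eq_zero_iff_mem) rfl hU hns
  suffices hinf : ∀ n, π u₀ ∈ ComodLib.Cartier0.aug k T ^ n from
    hcon γ₀ u₀ hu₀ hu₀' (isReduced_quot_of_isAlgebraic (k := k) (isAlgebraic_of_forall_mem_pow (hskew _ _ hu₀) hinf))
  intro n
  rcases CharP.exists k with ⟨p, hp⟩
  rcases CharP.char_is_prime_or_zero k p with hprime | h0
  swap
  · subst h0
    haveI : CharZero k := CharP.charP_to_charZero k
    refine ComodLib.Cartier0.mem_iInf_pow_of_stable (k := k) (A := T) {0, π u₀} ?_ ?_ n (Or.inr rfl)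
    · rintro a (rfl | rfl)
      · exact zero_mem _
      · exact (hskew _ _ hu₀).mem_aug
    · rintro L a (rfl | rfl)
      · left; rw [map_zero]
      · left
        rw [(hskew _ _ hu₀).lieOp_eq, ComodLib.GradedAug.tan_eq_zero_of_mem_sq L (hall _ _ hu₀), map_zero]
  haveI : Fact p.Prime := ⟨hprime⟩
  haveI : PerfectRing k p := PerfectField.toPerfectRing p
  -- the projection to the kernel
  let jA : MonoidAlgebra k M →ₐ[k] C := j
  let rA : C →ₐ[k] MonoidAlgebra k M := r
  let one' : WithConv (C →ₐ[k] C) := toConv (AlgHom.id k C)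
  let X' : WithConv (C →ₐ[k] C) := toConv (jA.comp rA)
  let Φ : WithConv (C →ₐ[k] C) := one' * X'⁻¹
  have hΦj : pull j Φ = 1 := by
    have : pull j X' = pull j one' := by
      refine WithConv.ext (AlgHom.ext fun x => ?_)
      show j (r (j x)) = j x
      rw [hr]
    rw [map_mul, map_inv, this, mul_inv_cancel]
  let πA : C →ₐ[k] T := π
  have hπΦ : LieKol.push (A := C) πA Φ = toConv πA := by
    have h1 : LieKol.push (A := C) πA X' = 1 := by
      refine WithConv.ext (AlgHom.ext fun x => ?_)
      show π (j (r x)) = (1 : WithConv (C →ₐ[k] T)) x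
      rw [hπj, AlgHom.convOne_apply, CoalgHomClass.counit_comp_apply]
    rw [map_mul, map_inv, h1, inv_one, mul_one]
    exact WithConv.ext (AlgHom.comp_id πA)
  -- the twisting part
  let iL : MonoidAlgebra k M →ₐ[k] MonoidAlgebra k M ⊗[k] C := Algebra.TensorProduct.includeLeft
  let iR : C →ₐ[k] MonoidAlgebra k M ⊗[k] C := Algebra.TensorProduct.includeRight
  let l : WithConv (C →ₐ[k] MonoidAlgebra k M ⊗[k] C) := toConv (iL.comp rA)
  let W₀ : WithConv (C →ₐ[k] MonoidAlgebra k M ⊗[k] C) := l * LieKol.push (A := C) iR Φ * l⁻¹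
  let μ : MonoidAlgebra k M ⊗[k] C →ₐ[k] C ⊗[k] C := Algebra.TensorProduct.map jA (AlgHom.id k C)
  let L : C →ₐ[k] C ⊗[k] C := Algebra.TensorProduct.includeLeft
  let R : C →ₐ[k] C ⊗[k] C := Algebra.TensorProduct.includeRight
  have hΔ : LieKol.push (A := C) (Bialgebra.comulAlgHom k C) Φ =
      LieKol.push (A := C) L Φ * LieKol.push (A := C) μ W₀ := by
    have h1 : LieKol.push (A := C) (Bialgebra.comulAlgHom k C) one' =
        LieKol.push (A := C) L one' * LieKol.push (A := C) R one' := comul_comp_bialgHom (BialgHom.id k C)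
    have h2 : LieKol.push (A := C) (Bialgebra.comulAlgHom k C) X' =
        LieKol.push (A := C) L X' * LieKol.push (A := C) R X' := comul_comp_bialgHom (j.comp r)
    have h3 : LieKol.push (A := C) μ l = LieKol.push (A := C) L X' := by
      refine WithConv.ext (AlgHom.ext fun x => ?_)
      show μ (r x ⊗ₜ[k] (1 : C)) = j (r x) ⊗ₜ[k] (1 : C)
      rfl
    have h4 : LieKol.push (A := C) μ (LieKol.push (A := C) iR Φ) = LieKol.push (A := C) R Φ := by
      refine WithConv.ext (AlgHom.ext fun x => ?_)
      show μ ((1 : MonoidAlgebra k M) ⊗ₜ[k] _) = _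
      simp only [μ, Algebra.TensorProduct.map_tmul, map_one]
      rfl
    show LieKol.push (A := C) _ (one' * X'⁻¹) = _
    rw [map_mul, map_inv, h1, h2]
    have h5 : LieKol.push (A := C) μ l⁻¹ = (LieKol.push (A := C) L X')⁻¹ := by
      rw [← h3]
      exact map_inv (LieKol.push (A := C) μ) l
    simp only [W₀, map_mul, h3, h4, h5]
    show _ = LieKol.push (A := C) L (one' * X'⁻¹) * _
    simp only [Φ, map_mul, map_inv, mul_inv_rev, mul_assoc, inv_mul_cancel_left]
    exact congrArg (_ * ·) (congrArg (_ * ·) (mul_inv_rev (LieKol.push (A := C) L X') (LieKol.push (A := C) R X')))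
  have hkill : ∀ {S : Type u} [CommRing S] [Algebra k S] (f : WithConv (C →ₐ[k] S)), pull j f = 1 →
      ∀ x ∈ kerIdeal j, f.ofConv x = 0 := by
    intro S _ _ f hf x hx
    refine (Ideal.map_le_iff_le_comap.mpr (fun y hy => ?_) : kerIdeal j ≤ RingHom.ker f.ofConv.toRingHom) hx
    show f.ofConv (j y) = 0
    refine (AlgHom.congr_fun (congrArg WithConv.ofConv hf) y).trans ?_
    rw [show (1 : WithConv (MonoidAlgebra k M →ₐ[k] S)).ofConv y = _ from AlgHom.convOne_apply y,
      show Coalgebra.counit (R := k) y = 0 from hy, map_zero]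
  have hLΦ : pull j (LieKol.push (A := C) L Φ) = 1 := by
    refine Eq.trans ?_ ((congrArg (LieKol.push (A := MonoidAlgebra k M) L) hΦj).trans (map_one _))
    rfl
  have hWj : pull j (LieKol.push (A := C) μ W₀) = 1 := by
    have h := congrArg (pull j) hΔ
    rw [map_mul (pull j) (LieKol.push (A := C) L Φ), hLΦ, one_mul] at h
    refine h.symm.trans (Eq.trans ?_ ((congrArg (LieKol.push (A := MonoidAlgebra k M) (Bialgebra.comulAlgHom k C)) hΦj).trans (map_one _)))
    rfl
  -- lift primitive elements
  have hlift : ∀ z : T, IsPrim k z → ∃ (s : Finset M) (cs : M → C),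
      (∀ m ∈ s, Coalgebra.comul (R := k) (cs m) = gl j m ⊗ₜ[k] cs m + cs m ⊗ₜ[k] 1) ∧ z = ∑ m ∈ s, π (cs m) := by
    intro z hz
    obtain ⟨z₀, rfl⟩ := Ideal.Quotient.mk_surjective z
    set x := Φ.ofConv z₀ with hx
    have hπx : π x = π z₀ := AlgHom.congr_fun (congrArg WithConv.ofConv hπΦ) z₀
    have hadd : ∀ {S : Type u} [CommRing S] [Algebra k S] (f g : WithConv (C →ₐ[k] S)), pull j f = 1 →
        pull j g = 1 → (f * g).ofConv z₀ = f.ofConv z₀ + g.ofConv z₀ := by
      intro S _ _ f g hf hg
      let f' : T →ₐ[k] S := Ideal.Quotient.liftₐ _ f.ofConv (hkill f hf)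
      let g' : T →ₐ[k] S := Ideal.Quotient.liftₐ _ g.ofConv (hkill g hg)
      have h : (f * g).ofConv z₀ = (Algebra.TensorProduct.lift f' g' fun _ _ => Commute.all _ _)
          (Coalgebra.comul (R := k) (π z₀)) := by
        rw [← CoalgHomClass.map_comp_comul_apply π z₀, AlgHom.convMul_def]
        simp only [ofConv_toConv, AlgHom.comp_apply, Bialgebra.comulAlgHom_apply]
        induction Coalgebra.comul (R := k) z₀ using TensorProduct.induction_on with
        | zero => simp
        | tmul p q => simp; rfl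
        | add p q hp hq => simp only [map_add, hp, hq]
      rw [h, show Coalgebra.comul (R := k) (π z₀) = _ from hz, map_add, Algebra.TensorProduct.lift_tmul,
        Algebra.TensorProduct.lift_tmul, map_one, map_one, mul_one, one_mul]
      rfl
    have hxΔ : Coalgebra.comul (R := k) x = x ⊗ₜ[k] (1 : C) + μ (W₀.ofConv z₀) := by
      refine (AlgHom.congr_fun (congrArg WithConv.ofConv hΔ) z₀).trans ?_
      rw [hadd _ _ hLΦ hWj]
      rfl
    obtain ⟨cs, hsum, hcs⟩ := exists_components j hj x 1 (W₀.ofConv z₀) (by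
      rw [hxΔ, map_one, add_sub_cancel_left]
      generalize W₀.ofConv z₀ = w
      induction w using TensorProduct.induction_on with
      | zero => simp
      | tmul p q => simp [μ, jA]
      | add p q hp hq => simp only [map_add, hp, hq])
    refine ⟨cs.support, cs, fun m hm => by simpa using hcs m hm, ?_⟩
    have hc := congrArg (TensorProduct.lid k C) (Coalgebra.rTensor_counit_comul (R := k) x)
    rw [hsum, map_add, map_add, map_sum, map_sum, LinearMap.rTensor_tmul, TensorProduct.lid_tmul, map_one,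
      TensorProduct.lid_tmul, one_smul] at hc
    have hεx : Coalgebra.counit (R := k) x = 0 := by
      rw [← CoalgHomClass.counit_comp_apply π x, hπx]
      exact hz.counit_eq_zero
    rw [hεx, zero_smul, zero_add] at hc
    show π z₀ = _
    rw [← hπx, ← hc, map_sum]
    refine Finset.sum_congr rfl fun m _ => ?_
    rw [LinearMap.rTensor_tmul, TensorProduct.lid_tmul,
      show Coalgebra.counit (R := k) (gl j m) = 1 by
        show Coalgebra.counit (R := k) (j (MonoidAlgebra.of k M m)) = 1
        rw [CoalgHomClass.counit_comp_apply]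
        simp [MonoidAlgebra.of_apply], one_smul]
  haveI : Nontrivial T := nontrivial_of_ne (1 : T) 0 fun h =>
    one_ne_zero (α := k) (by simpa using congrArg (Coalgebra.counit (R := k)) h)
  haveI : CharP (T ⊗[k] T) p := charP_of_injective_algebraMap (algebraMap k (T ⊗[k] T)).injective p
  haveI : CharP T p := charP_of_injective_algebraMap (algebraMap k T).injective p
  haveI : _root_.IsReduced (T ⊗[k] T) := GrpSchLib.isReduced_tensor_of_isAlgClosed
  have hpow : ∀ (i : ℕ) (γ : M) (u : C), Coalgebra.comul (R := k) u = gl j γ ⊗ₜ[k] u + u ⊗ₜ[k] 1 →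
      π u ∈ ComodLib.Cartier0.aug k T ^ p ^ i := by
    intro i
    induction i with
    | zero => intro γ u hu; rw [pow_zero, pow_one]; exact (hskew γ u hu).mem_aug
    | succ i ih =>
      intro γ u hu
      obtain ⟨z, hz⟩ := exists_pow_eq_of_prim p (hskew γ u hu) (hall γ u hu)
      have hzp : IsPrim k z := by
        show Coalgebra.comul (R := k) z = _
        rw [← sub_eq_zero]
        refine IsReduced.eq_zero _ ⟨p, ?_⟩
        have hΔz : Coalgebra.comul (R := k) (z ^ p) = Coalgebra.comul (R := k) z ^ p :=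
          map_pow (Bialgebra.comulAlgHom k T) z p
        rw [sub_pow_char, add_pow_char, Algebra.TensorProduct.tmul_pow, Algebra.TensorProduct.tmul_pow, one_pow,
          ← hΔz, hz, hskew γ u hu, sub_self]
      obtain ⟨s, cs, hcs, hsum⟩ := hlift z hzp
      rw [← hz, pow_succ, pow_mul]
      refine Ideal.pow_mem_pow ?_ p
      rw [hsum]
      exact Ideal.sum_mem _ fun m hm => ih m (cs m) (hcs m hm)
  exact Ideal.pow_le_pow_right (Nat.lt_pow_self hprime.one_lt).le (hpow n γ₀ u₀ hu₀)

/-- Two retractions are conjugate by a point of the kernel. -/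
theorem exists_conj [IsAlgClosed k] {A : Type u} [CommRing A] [HopfAlgebra k A] [Algebra.FiniteType k A]
    {B : Type u} [CommRing B] [HopfAlgebra k B] (e : B ≃ₐc[k] MonoidAlgebra k M) (ψ : B →ₐc[k] A)
    (J : Ideal A) [J.IsHopfIdeal k]
    (hJ : J = Ideal.map (ψ : B →+* A) (RingHom.ker (Bialgebra.counitAlgHom k B)))
    (hU : HopfRep.IsUnipotent k (A ⧸ J)) (hsm : _root_.IsReduced B ∨ _root_.IsReduced (A ⧸ J))
    (s' s'' : A →ₐc[k] MonoidAlgebra k M) (hs' : ∀ b, s' (ψ b) = e b) (hs'' : ∀ b, s'' (ψ b) = e b) :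
    ∃ v : WithConv (A →ₐ[k] k), pull ψ v = 1 ∧ conjHom v s' = (s'' : A →ₐ[k] MonoidAlgebra k M) := by
  haveI : IsNoetherianRing A := Algebra.FiniteType.isNoetherianRing k A
  let S : Set (Ideal A) := {I | I.IsHopfIdeal k ∧ (_root_.IsReduced B ∨ (I ⊔ J).IsRadical) ∧
    ∃ v : WithConv (A →ₐ[k] k), pull ψ v = 1 ∧ (∀ a ∈ I, conjHom v s' a = 0) ∧ ∀ a ∈ I, s'' a = 0}
  have hS : S.Nonempty := by
    refine ⟨⊥, ?_, ?_, 1, map_one _, fun a ha => by rw [show a = 0 from ha, map_zero],
      fun a ha => by rw [show a = 0 from ha, map_zero]⟩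
    · refine { counit_eq_zero := ?_, map_mkQ_comul_eq_zero := ?_, antipode_mem := ?_ }
      · intro x hx
        rw [show x = 0 from hx, map_zero]
      · intro x hx
        rw [show x = 0 from hx, map_zero, map_zero]
      · intro x hx
        rw [show x = 0 from hx, map_zero]
        exact zero_mem _
    · refine hsm.imp id fun h => ?_
      rw [bot_sup_eq]
      exact (Ideal.isRadical_iff_quotient_reduced _).2 h
  obtain ⟨I, ⟨hI, hrad, v, hvψ, hv', hv''⟩, hmax⟩ := set_has_maximal_iff_noetherian.2 inferInstance S hS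
  haveI := hI
  let π : A →ₐc[k] A ⧸ I := Bialgebra.Quotient.mkBialgHom I
  let j : MonoidAlgebra k M →ₐc[k] A ⧸ I := π.comp (ψ.comp (e.symm : MonoidAlgebra k M →ₐc[k] B))
  haveI : Algebra.FiniteType k (A ⧸ I) :=
    Algebra.FiniteType.of_surjective (Ideal.Quotient.mkₐ k I) Ideal.Quotient.mk_surjective
  -- the two retractions descend
  have hdesc : ∀ s : A →ₐc[k] MonoidAlgebra k M, (∀ a ∈ I, s a = 0) → (∀ b, s (ψ b) = e b) →
      ∃ r : A ⧸ I →ₐc[k] MonoidAlgebra k M, (∀ a, r (π a) = s a) ∧ ∀ x, r (j x) = x := by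
    intro s hs hsψ
    let f : A ⧸ I →ₐ[k] MonoidAlgebra k M := Ideal.Quotient.liftₐ I (s : A →ₐ[k] MonoidAlgebra k M) hs
    refine ⟨BialgHom.ofAlgHom f
      (AlgHom.ext fun x => by
        obtain ⟨a, rfl⟩ := Ideal.Quotient.mk_surjective x
        exact CoalgHomClass.counit_comp_apply s a)
      (AlgHom.ext fun x => by
        obtain ⟨a, rfl⟩ := Ideal.Quotient.mk_surjective x
        show Algebra.TensorProduct.map f f (Coalgebra.comul (R := k) (π a)) = Coalgebra.comul (R := k) (s a)
        rw [← CoalgHomClass.map_comp_comul_apply π a, ← CoalgHomClass.map_comp_comul_apply s a]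
        induction Coalgebra.comul (R := k) a using TensorProduct.induction_on with
        | zero => simp
        | tmul p q => rfl
        | add p q hp hq => simp only [map_add, hp, hq]), fun a => rfl, fun x => ?_⟩
    show s (ψ (e.symm x)) = x
    rw [hsψ, BialgEquiv.apply_symm_apply]
  have hcψ : ∀ b, conjBialgHom v s' (ψ b) = e b := fun b =>
    (AlgHom.congr_fun (conjHom_comp v s' ψ hvψ) b).trans (hs' b)
  obtain ⟨r', hr'π, hr'j⟩ := hdesc (conjBialgHom v s') hv' hcψ
  obtain ⟨r'', hr''π, hr''j⟩ := hdesc s'' hv'' hs''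
  have hj : Function.Injective j := Function.LeftInverse.injective hr''j
  by_cases hsurj : Function.Surjective j
  · refine ⟨v, hvψ, AlgHom.ext fun a => ?_⟩
    obtain ⟨x, hx⟩ := hsurj (π a)
    show conjBialgHom v s' a = s'' a
    rw [← hr'π, ← hr''π, ← hx, hr'j, hr''j]
  exfalso
  haveI hJI : (kerIdeal j).IsHopfIdeal k := MultTypeLib.isHopfIdeal_map_ker j
  have hUI : HopfRep.IsUnipotent k ((A ⧸ I) ⧸ kerIdeal j) := isUnipotent_quot e ψ J hJ hU I
  have hker : kerIdeal j = J.map (Ideal.Quotient.mk I) := by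
    rw [hJ, Ideal.map_map]
    refine le_antisymm (Ideal.map_le_iff_le_comap.2 fun x hx => ?_) (Ideal.map_le_iff_le_comap.2 fun b hb => ?_)
    · rw [Ideal.mem_comap]
      exact Ideal.mem_map_of_mem ((Ideal.Quotient.mk I).comp (ψ : B →+* A))
        (show e.symm x ∈ RingHom.ker (Bialgebra.counitAlgHom k B) from
          (CoalgHomClass.counit_comp_apply (e.symm : MonoidAlgebra k M →ₐc[k] B) x).trans hx)
    · rw [Ideal.mem_comap]
      have h := Ideal.mem_map_of_mem (j : MonoidAlgebra k M →+* A ⧸ I)
        (show e b ∈ RingHom.ker (Bialgebra.counitAlgHom k (MonoidAlgebra k M)) from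
          (CoalgHomClass.counit_comp_apply (e : B →ₐc[k] MonoidAlgebra k M) b).trans hb)
      have he : j (e b) = Ideal.Quotient.mk I (ψ b) := by
        show π (ψ (e.symm (e b))) = _
        rw [BialgEquiv.symm_apply_apply]
        rfl
      show Ideal.Quotient.mk I (ψ b) ∈ _
      rw [← he]
      exact h
  have hred : _root_.IsReduced (MonoidAlgebra k M) ∨ _root_.IsReduced ((A ⧸ I) ⧸ kerIdeal j) := by
    rcases hrad with hB | hrad
    · exact Or.inl (isReduced_of_injective (e.symm : MonoidAlgebra k M →ₐc[k] B) e.symm.injective)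
    · refine Or.inr ((Ideal.isRadical_iff_quotient_reduced _).1 fun x hx => ?_)
      obtain ⟨a, rfl⟩ := Ideal.Quotient.mk_surjective x
      obtain ⟨n, hn⟩ := hx
      rw [hker] at hn ⊢
      rw [← map_pow] at hn
      have h1 : a ^ n ∈ I ⊔ J := by
        have := Ideal.mem_comap.2 hn
        rwa [Ideal.comap_map_of_surjective _ Ideal.Quotient.mk_surjective, ← RingHom.ker_eq_comap_bot, Ideal.mk_ker,
          sup_comm] at this
      have h2 : a ∈ I ⊔ J := hrad ⟨n, h1⟩
      have h3 := Ideal.mem_map_of_mem (Ideal.Quotient.mk I) h2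
      rwa [Ideal.map_sup, Ideal.map_quotient_self, bot_sup_eq] at h3
  obtain ⟨γ, u, hu, hu', hgood⟩ : ∃ (γ : M) (u : A ⧸ I),
      Coalgebra.comul (R := k) u = gl j γ ⊗ₜ[k] u + u ⊗ₜ[k] 1 ∧ u ∉ Set.range j ∧
        (_root_.IsReduced B ∨ _root_.IsReduced (((A ⧸ I) ⧸ kerIdeal j) ⧸
          Ideal.span ({Ideal.Quotient.mk (kerIdeal j) u} : Set ((A ⧸ I) ⧸ kerIdeal j)))) := by
    rcases hrad with hB | hrad
    · obtain ⟨γ, u, h1, h2⟩ := exists_skew j hj (Bialgebra.Quotient.mkBialgHom (kerIdeal j))
        (Ideal.Quotient.mk_surjective (I := kerIdeal j)) (kerIdeal j) (fun a => Ideal.Quotient.eq_zero_iff_mem)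
        rfl hUI hsurj
      exact ⟨γ, u, h1, h2, Or.inl hB⟩
    · haveI : _root_.IsReduced ((A ⧸ I) ⧸ kerIdeal j) := by
        refine (Ideal.isRadical_iff_quotient_reduced _).1 fun x hx => ?_
        obtain ⟨a, rfl⟩ := Ideal.Quotient.mk_surjective x
        obtain ⟨n, hn⟩ := hx
        rw [hker] at hn ⊢
        rw [← map_pow] at hn
        have h1 : a ^ n ∈ I ⊔ J := by
          have := Ideal.mem_comap.2 hn
          rwa [Ideal.comap_map_of_surjective _ Ideal.Quotient.mk_surjective, ← RingHom.ker_eq_comap_bot,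
            Ideal.mk_ker, sup_comm] at this
        have h2 : a ∈ I ⊔ J := hrad ⟨n, h1⟩
        have h3 := Ideal.mem_map_of_mem (Ideal.Quotient.mk I) h2
        rwa [Ideal.map_sup, Ideal.map_quotient_self, bot_sup_eq] at h3
      obtain ⟨γ, u, h1, h2, h3⟩ := exists_good_skew j hj r' hr'j hUI hsurj
      exact ⟨γ, u, h1, h2, Or.inr h3⟩
  obtain ⟨a', a'', g, hgj, ha', ha'', hgu⟩ := exists_point j hj γ hu r' r'' hr'j hr''j hred
  -- the new point
  let w : WithConv (A →ₐ[k] k) := toConv (g.comp (π : A →ₐ[k] A ⧸ I))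
  have hwψ : pull ψ w = 1 := by
    refine WithConv.ext (AlgHom.ext fun b => ?_)
    show g (π (ψ b)) = (1 : WithConv (B →ₐ[k] k)) b
    rw [AlgHom.convOne_apply]
    have he : j (e b) = π (ψ b) := by
      show π (ψ (e.symm (e b))) = _
      rw [BialgEquiv.symm_apply_apply]
    rw [← he, hgj]
    exact CoalgHomClass.counit_comp_apply (e : B →ₐc[k] MonoidAlgebra k M) b
  set z : A ⧸ I := u - j (a'' • (1 - MonoidAlgebra.of k M γ)) with hzdef
  have hz0 : z ≠ 0 := fun h => hu' ⟨_, (sub_eq_zero.1 h).symm⟩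
  have hz := comul_sub_scalar j γ hu a''
  have hgz : ∀ x, conjHom w (conjBialgHom v s') x = conjHom (toConv g) r' (π x) := by
    intro x
    have hpull : pull π (toConv (conjHom (toConv g) r')) = toConv (conjHom w (conjBialgHom v s')) := by
      show pull π (const _ (toConv g) * _ * (const _ (toConv g))⁻¹) = const _ w * _ * (const _ w)⁻¹
      rw [map_mul, map_mul, map_inv]
      have h1 : pull π (const (MonoidAlgebra k M) (toConv g)) = const _ w := rfl
      have h2 : pull π (toConv (r' : A ⧸ I →ₐ[k] MonoidAlgebra k M)) =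
          toConv (conjBialgHom v s' : A →ₐ[k] MonoidAlgebra k M) :=
        WithConv.ext (AlgHom.ext hr'π)
      rw [h1, h2]
    exact (AlgHom.congr_fun (congrArg WithConv.ofConv hpull) x).symm
  have hconjz : conjHom (toConv g) r' z = 0 := by
    show (const _ (toConv g) * toConv (r' : A ⧸ I →ₐ[k] MonoidAlgebra k M) * (const _ (toConv g))⁻¹).ofConv z = 0
    rw [convMul_apply_skew _ _ hz, convMul_apply_skew _ _ hz,
      convMul_apply_groupLike _ _ (comul_gl j γ), convInv_apply]
    have hgG : g (gl j γ) = 1 := (hgj _).trans (by simp [MonoidAlgebra.of_apply])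
    have hgg : g (gl j γ⁻¹) = 1 := (hgj _).trans (by simp [MonoidAlgebra.of_apply])
    have hgz' : g z = a'' - a' := by
      rw [hzdef, map_sub, hgu, hgj, map_smul, map_sub, Bialgebra.counit_one, MonoidAlgebra.of_apply]
      simp
    rw [antipode_skew j γ hz]
    show (algebraMap k (MonoidAlgebra k M) (g (gl j γ)) * r' (gl j γ)) *
      algebraMap k (MonoidAlgebra k M) (g (-(gl j γ⁻¹ * z))) +
      (algebraMap k (MonoidAlgebra k M) (g (gl j γ)) * r' z + algebraMap k (MonoidAlgebra k M) (g z)) = 0
    rw [map_neg, map_mul, hgG, hgg, one_mul, hgz', apply_gl j hr'j,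
      show r' z = a' • (1 - MonoidAlgebra.of k M γ) - a'' • (1 - MonoidAlgebra.of k M γ) by
        rw [hzdef, map_sub, hr'j, ha']]
    simp only [Algebra.smul_def, map_one, map_sub, map_neg]
    ring
  have hZhopf : (Ideal.span ({z} : Set (A ⧸ I))).IsHopfIdeal k :=
    isHopfIdeal_span_skew _ (-gl j γ⁻¹) z hz (counit_skew j γ hz) (by rw [antipode_skew j γ hz, neg_mul])
  haveI := hZhopf
  refine hmax ((Ideal.span ({z} : Set (A ⧸ I))).comap (Ideal.Quotient.mk I))
    ⟨isHopfIdeal_comap I _, ?_, w * v, by rw [map_mul, hwψ, hvψ, one_mul], fun a ha => ?_, fun a ha => ?_⟩ ?_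
  · refine hgood.imp id fun h => fun a ha => ?_
    obtain ⟨n, hn⟩ := ha
    have hle : (Ideal.span ({z} : Set (A ⧸ I))).comap (Ideal.Quotient.mk I) ⊔ J =
        ((Ideal.span ({Ideal.Quotient.mk (kerIdeal j) u} : Set ((A ⧸ I) ⧸ kerIdeal j))).comap
          (Ideal.Quotient.mk (kerIdeal j))).comap (Ideal.Quotient.mk I) := by
      have hzu : Ideal.Quotient.mk (kerIdeal j) u = Ideal.Quotient.mk (kerIdeal j) z := by
        rw [hzdef, map_sub, mk_j, map_smul, map_sub, Bialgebra.counit_one, MonoidAlgebra.of_apply]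
        simp
      rw [hzu, ← Set.image_singleton (f := ⇑(Ideal.Quotient.mk (kerIdeal j))) (a := z), ← Ideal.map_span,
        Ideal.comap_map_of_surjective _ Ideal.Quotient.mk_surjective, ← RingHom.ker_eq_comap_bot, Ideal.mk_ker,
        hker]
      have e1 : Ideal.span ({z} : Set (A ⧸ I)) ⊔ J.map (Ideal.Quotient.mk I) =
          ((Ideal.span ({z} : Set (A ⧸ I))).comap (Ideal.Quotient.mk I) ⊔ J).map (Ideal.Quotient.mk I) := by
        rw [Ideal.map_sup, Ideal.map_comap_of_surjective _ Ideal.Quotient.mk_surjective]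
      rw [e1, Ideal.comap_map_of_surjective _ Ideal.Quotient.mk_surjective, ← RingHom.ker_eq_comap_bot,
        Ideal.mk_ker]
      refine (sup_eq_left.2 (le_trans (fun x hx => ?_) le_sup_left)).symm
      rw [Ideal.mem_comap, Ideal.Quotient.eq_zero_iff_mem.2 hx]
      exact zero_mem _
    rw [hle] at hn ⊢
    refine ((Ideal.isRadical_iff_quotient_reduced _).2 h) ⟨n, ?_⟩
    simpa only [Ideal.mem_comap, map_pow] using hn
  · obtain ⟨t, ht⟩ := Ideal.mem_span_singleton'.1 ha
    rw [← conj_conjBialgHom, hgz]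
    show conjHom (toConv g) r' (Ideal.Quotient.mk I a) = 0
    rw [← ht, map_mul, hconjz, mul_zero]
  · obtain ⟨t, ht⟩ := Ideal.mem_span_singleton'.1 ha
    rw [← hr''π]
    show r'' (Ideal.Quotient.mk I a) = 0
    rw [← ht, map_mul, show r'' z = 0 by rw [hzdef, map_sub, hr''j, ha'', sub_self], mul_zero]
  · refine lt_of_le_of_ne (fun a ha => ?_) fun h => hz0 ?_
    · rw [Ideal.mem_comap, Ideal.Quotient.eq_zero_iff_mem.2 ha]
      exact zero_mem _
    · have h1 := congrArg (Ideal.map (Ideal.Quotient.mk I)) h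
      rw [Ideal.map_comap_of_surjective _ Ideal.Quotient.mk_surjective, Ideal.map_quotient_self] at h1
      exact Ideal.mem_bot.1 (h1 ▸ Ideal.mem_span_singleton_self z)

end Groth.Agent.DiagSplit
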