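import Mathlib.RingTheory.Bialgebra.MonoidAlgebra
import Mathlib.RingTheory.HopfAlgebra.MonoidAlgebra
import Mathlib.RingTheory.HopfAlgebra.Quotient
import Mathlib.RingTheory.Flat.Basic
import Mathlib.RingTheory.TensorProduct.Maps
import Mathlib.FieldTheory.IsAlgClosed.Basic
import Mathlib.Algebra.Polynomial.AlgebraMap
import Mathlib.RingTheory.Polynomial.Basic
import Mathlib.Tactic.LinearCombination

/-!
# Skew primitive elements over a diagonalizable Hopf algebra

If `u` is `(γ, 1)`-skew primitive in a bialgebra containing `k[M]` and `k` is algebraically closed, then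
`u ↦ a (1 - γ)` extends to a retraction of `k[M][u]` onto `k[M]` for a suitable scalar `a`.
-/

universe u

set_option autoImplicit false

open TensorProduct Polynomial

noncomputable section

namespace Groth.Agent.DiagSplit

open scoped Classical

theorem sub_pow_of_choose {k S : Type*} [Field k] [CommRing S] [Algebra k S] (x y : S) {i : ℕ} (hi : 0 < i)
    (h : ∀ j, 0 < j → j < i → (i.choose j : k) = 0) : (x - y) ^ i = x ^ i - y ^ i := by
  have key : ((x - y) + y) ^ i = (x - y) ^ i + y ^ i := by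
    obtain ⟨e, rfl⟩ : ∃ e, i = e + 1 := ⟨i - 1, by omega⟩
    rw [add_pow, Finset.sum_range_succ, Finset.sum_range_succ', Finset.sum_eq_zero]
    · simp [add_comm]
    · intro m hm
      rw [Finset.mem_range] at hm
      rw [← map_natCast (algebraMap k S), h (m + 1) (by omega) (by omega), map_zero, mul_zero]
  rw [sub_add_cancel] at key
  exact eq_sub_of_add_eq key.symm

theorem one_sub_pow_of_choose {k S : Type*} [Field k] [CommRing S] [Algebra k S] (x : S) {i : ℕ} (hi : 0 < i)
    (h : ∀ j, 0 < j → j < i → (i.choose j : k) = 0) : (1 - x) ^ i = 1 - x ^ i := by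
  rw [sub_pow_of_choose (k := k) 1 x hi h, one_pow]

variable {k : Type u} [Field k] {M : Type u} [CommGroup M] {C : Type u} [CommRing C] [Bialgebra k C]

/-- The image of `m : M`. -/
def gl (j : MonoidAlgebra k M →ₐc[k] C) : M →* C :=
  ((j : MonoidAlgebra k M →ₐ[k] C) : MonoidAlgebra k M →* C).comp (MonoidAlgebra.of k M)

theorem j_single (j : MonoidAlgebra k M →ₐc[k] C) (m : M) (c : k) :
    j (MonoidAlgebra.single m c) = c • gl j m := by
  rw [show MonoidAlgebra.single m c = c • MonoidAlgebra.of k M m by simp [MonoidAlgebra.of_apply], map_smul]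
  rfl

theorem comul_gl (j : MonoidAlgebra k M →ₐc[k] C) (m : M) :
    Coalgebra.comul (R := k) (gl j m) = gl j m ⊗ₜ[k] gl j m := by
  show Coalgebra.comul (R := k) (j (MonoidAlgebra.of k M m)) = _
  rw [← CoalgHomClass.map_comp_comul_apply j]
  simp [gl, MonoidAlgebra.of_apply]

theorem comul_gl_mul_pow (j : MonoidAlgebra k M →ₐc[k] C) (γ : M) {u : C}
    (hu : Coalgebra.comul (R := k) u = gl j γ ⊗ₜ[k] u + u ⊗ₜ[k] 1) (n : M) (i : ℕ) :
    Coalgebra.comul (R := k) (gl j n * u ^ i) = ∑ m ∈ Finset.range (i + 1),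
      (i.choose m : k) • ((gl j (n * γ ^ m) * u ^ (i - m)) ⊗ₜ[k] (gl j n * u ^ m)) := by
  rw [Bialgebra.comul_mul, Bialgebra.comul_pow, comul_gl, hu, add_pow, Finset.mul_sum]
  refine Finset.sum_congr rfl fun m _ => ?_
  rw [Algebra.TensorProduct.tmul_pow, Algebra.TensorProduct.tmul_pow, one_pow,
    Algebra.TensorProduct.tmul_mul_tmul, mul_one, ← map_natCast (algebraMap k (C ⊗[k] C)),
    Algebra.smul_def, mul_comm ((gl j γ ^ m * _) ⊗ₜ[k] _), mul_left_comm, Algebra.TensorProduct.tmul_mul_tmul,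
    map_mul, map_pow, mul_assoc]

/-- Evaluation of polynomials over `k[M]` at `u`. -/
def ev (j : MonoidAlgebra k M →ₐc[k] C) (u : C) : (MonoidAlgebra k M)[X] →+* C :=
  Polynomial.eval₂RingHom (j : MonoidAlgebra k M →+* C) u

theorem ev_C (j : MonoidAlgebra k M →ₐc[k] C) (u : C) (x : MonoidAlgebra k M) : ev j u (Polynomial.C x) = j x := by
  simp [ev]

theorem ev_X (j : MonoidAlgebra k M →ₐc[k] C) (u : C) : ev j u X = u := by
  simp [ev]

theorem ev_monomial (j : MonoidAlgebra k M →ₐc[k] C) (u : C) (i : ℕ) (x : MonoidAlgebra k M) :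
    ev j u (monomial i x) = j x * u ^ i := by
  simp [ev]

/-- The coefficients of the relation of a skew primitive element. -/
def relCoeff (γ : M) (d : ℕ) (c : ℕ → k) (i : ℕ) : MonoidAlgebra k M :=
  if i = 0 then c 0 • (1 - MonoidAlgebra.of k M γ ^ d) else algebraMap k _ (c i)

/-- The relation of a skew primitive element. -/
def relPoly (γ : M) (d : ℕ) (c : ℕ → k) : (MonoidAlgebra k M)[X] :=
  X ^ d - ∑ i ∈ Finset.range d, monomial i (relCoeff γ d c i)

theorem degree_sum_monomial_lt {S : Type*} [Semiring S] (d : ℕ) (c : ℕ → S) :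
    (∑ i ∈ Finset.range d, monomial i (c i)).degree < d := by
  refine lt_of_le_of_lt (Polynomial.degree_sum_le _ _) ((Finset.sup_lt_iff (WithBot.bot_lt_coe d)).2 ?_)
  intro i hi
  exact lt_of_le_of_lt (degree_monomial_le _ _) (WithBot.coe_lt_coe.2 (Finset.mem_range.1 hi))

/-- What is known of the relation of a skew primitive element. -/
structure IsRel (j : MonoidAlgebra k M →ₐc[k] C) (γ : M) (u : C) (d : ℕ) (c : ℕ → k) : Prop where
  pos : 0 < d
  choose_eq : ∀ m, 0 < m → m < d → (d.choose m : k) = 0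
  sub_eq : ∀ i, 0 < i → i < d → c i ≠ 0 → ∀ m, 0 < m → m < i → (i.choose m : k) = 0
  pow_eq : ∀ i, 0 < i → i < d → c i ≠ 0 → γ ^ i = γ ^ d
  root : ev j u (relPoly γ d c) = 0
  minimal : ∀ p, ev j u p = 0 → p.natDegree < d → p = 0
  dvd : ∀ p, ev j u p = 0 → relPoly γ d c ∣ p

theorem eval_relPoly {j : MonoidAlgebra k M →ₐc[k] C} {γ : M} {u : C} {d : ℕ} {c : ℕ → k}
    (h : IsRel j γ u d c) (a : k) :
    (relPoly γ d c).eval (a • (1 - MonoidAlgebra.of k M γ)) =
      (a ^ d - ∑ i ∈ Finset.range d, c i * a ^ i) • (1 - MonoidAlgebra.of k M γ ^ d) := by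
  set G := MonoidAlgebra.of k M γ with hG
  have hpow : ∀ i, 0 < i → i ≤ d → (∀ m, 0 < m → m < i → (i.choose m : k) = 0) →
      (a • (1 - G)) ^ i = a ^ i • (1 - G ^ i) := fun i hi _ h => by
    rw [_root_.smul_pow, one_sub_pow_of_choose (k := k) G hi h]
  have hci : ∀ i ∈ Finset.range d, relCoeff γ d c i * (a • (1 - G)) ^ i = (c i * a ^ i) • (1 - G ^ d) := by
    intro i hi
    rw [Finset.mem_range] at hi
    rcases Nat.eq_zero_or_pos i with rfl | hi0
    · rw [pow_zero, pow_zero, mul_one, mul_one, relCoeff, if_pos rfl]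
    · rw [relCoeff, if_neg (by omega), ← Algebra.smul_def]
      by_cases hz : c i = 0
      · simp [hz]
      · rw [hpow i hi0 hi.le (h.sub_eq i hi0 hi hz), smul_smul,
          show G ^ i = G ^ d by rw [hG, ← map_pow, ← map_pow, h.pow_eq i hi0 hi hz]]
  rw [relPoly, eval_sub, eval_pow, eval_X, eval_finsetSum,
    Finset.sum_congr rfl fun i hi => by rw [eval_monomial, hci i hi], hpow d h.pos le_rfl h.choose_eq,
    ← Finset.sum_smul, ← sub_smul]

set_option maxHeartbeats 1000000 in
/-- The key computation: the relation of a skew primitive element is an additive polynomial. -/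
theorem exists_relation (j : MonoidAlgebra k M →ₐc[k] C) (hj : Function.Injective j) (γ : M) {u : C}
    (hu : Coalgebra.comul (R := k) u = gl j γ ⊗ₜ[k] u + u ⊗ₜ[k] 1) :
    (∀ p : (MonoidAlgebra k M)[X], ev j u p = 0 → p = 0) ∨ ∃ d c, IsRel j γ u d c := by
  by_cases hker : ∀ p : (MonoidAlgebra k M)[X], ev j u p = 0 → p = 0
  · exact Or.inl hker
  refine Or.inr ?_
  have hex : ∃ d, ∃ p : (MonoidAlgebra k M)[X], p ≠ 0 ∧ ev j u p = 0 ∧ p.natDegree = d := by
    push Not at hker
    obtain ⟨p, hp, hp0⟩ := hker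
    exact ⟨_, p, hp0, hp, rfl⟩
  obtain ⟨d, ⟨p₀, hp₀0, hp₀, hp₀d⟩, hmin⟩ :
      ∃ d, (∃ p : (MonoidAlgebra k M)[X], p ≠ 0 ∧ ev j u p = 0 ∧ p.natDegree = d) ∧
        ∀ p : (MonoidAlgebra k M)[X], ev j u p = 0 → p.natDegree < d → p = 0 :=
    ⟨Nat.find hex, Nat.find_spec hex, fun p hp hlt => by_contra fun h0 =>
      Nat.find_min hex hlt ⟨p, h0, hp, rfl⟩⟩
  have hd : 0 < d := by
    rcases Nat.eq_zero_or_pos d with h | h
    · exfalso
      rw [h] at hp₀d
      rw [Polynomial.eq_C_of_natDegree_eq_zero hp₀d, ev_C] at hp₀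
      refine hp₀0 ?_
      rw [Polynomial.eq_C_of_natDegree_eq_zero hp₀d, hj (hp₀.trans (map_zero j).symm), Polynomial.C_0]
    · exact h
  -- the independent family
  let E : M × Fin d → C := fun κ => gl j κ.1 * u ^ (κ.2 : ℕ)
  have hEi : LinearIndependent k E := by
    rw [linearIndependent_iff]
    intro l hl
    let p : (MonoidAlgebra k M)[X] := l.sum fun κ c => monomial (κ.2 : ℕ) (MonoidAlgebra.single κ.1 c)
    have hp : ev j u p = 0 := by
      simp only [p, Finsupp.sum, map_sum, ev_monomial, j_single, smul_mul_assoc]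
      exact hl
    have hdeg : p.natDegree < d := by
      refine lt_of_le_of_lt (Polynomial.natDegree_sum_le_of_forall_le _ _ (n := d - 1) fun κ _ => ?_) (by omega)
      exact (Polynomial.natDegree_monomial_le _).trans (by have := κ.2.isLt; omega)
    have h0 := hmin p hp hdeg
    refine Finsupp.ext fun ⟨n, i⟩ => ?_
    have h1 := congrArg (fun q : (MonoidAlgebra k M)[X] => (q.coeff (i : ℕ)).coeff n) h0
    simp only [p, Finsupp.sum, Polynomial.finset_sum_coeff, MonoidAlgebra.coeff_sum, Finsupp.finset_sum_apply,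
      Polynomial.coeff_monomial, Polynomial.coeff_zero] at h1
    rw [Finset.sum_eq_single (n, i)] at h1
    · simpa using h1
    · rintro ⟨n', i'⟩ _ hne
      by_cases hi : (i' : ℕ) = i
      · rw [if_pos hi]
        have : n' ≠ n := fun e => hne (by rw [e, Fin.ext hi])
        simp [this]
      · rw [if_neg hi]
        simp
    · intro h
      simp [Finsupp.notMem_support_iff.1 h]
  let L : Submodule k C := Submodule.span k (Set.range E)
  have hEL : ∀ (n : M) (i : ℕ), i < d → gl j n * u ^ i ∈ L := fun n i hi =>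
    Submodule.subset_span ⟨(n, ⟨i, hi⟩), rfl⟩
  -- `u ^ d` lies in `L`
  have hud : u ^ d ∈ L := by
    let e : MonoidAlgebra k M := p₀.coeff d
    have he : e ≠ 0 := by
      rw [show e = p₀.leadingCoeff from congrArg _ hp₀d.symm]
      exact leadingCoeff_ne_zero.2 hp₀0
    have hterm : ∀ (x : MonoidAlgebra k M) (i : ℕ), i ≤ d →
        L.mkQ.rTensor C (Coalgebra.comul (R := k) (j x * u ^ i)) =
          if i = d then x.coeff.sum (fun n c => c • (L.mkQ (gl j n * u ^ d) ⊗ₜ[k] gl j n)) else 0 := by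
      intro x i hi
      induction x using MonoidAlgebra.induction_linear with
      | zero => simp
      | add x y hx hy =>
        rw [map_add, add_mul, map_add, map_add, hx, hy]
        split_ifs
        · rw [MonoidAlgebra.coeff_add]
          exact (Finsupp.sum_add_index' (h := fun n c => c • (L.mkQ (gl j n * u ^ d) ⊗ₜ[k] gl j n))
            (fun n => zero_smul _ _) (fun n a b => add_smul a b _)).symm
        · rw [add_zero]
      | single n c =>
        rw [j_single, smul_mul_assoc, map_smul, map_smul, comul_gl_mul_pow j γ hu, map_sum,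
          Finset.sum_eq_single 0]
        · rw [map_smul, Nat.choose_zero_right, Nat.cast_one, one_smul, LinearMap.rTensor_tmul, Nat.sub_zero,
            pow_zero, mul_one, pow_zero, mul_one]
          split_ifs with h
          · rw [h, MonoidAlgebra.coeff_single]
            exact (Finsupp.sum_single_index (h := fun n c => c • (L.mkQ (gl j n * u ^ d) ⊗ₜ[k] gl j n))
              (zero_smul _ _)).symm
          · rw [show L.mkQ (gl j n * u ^ i) = 0 from (Submodule.Quotient.mk_eq_zero L).2 (hEL n i (by omega)),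
              TensorProduct.zero_tmul, smul_zero]
        · intro m hm hm0
          rw [map_smul, LinearMap.rTensor_tmul,
            show L.mkQ (gl j (n * γ ^ m) * u ^ (i - m)) = 0 from
              (Submodule.Quotient.mk_eq_zero L).2 (hEL _ _ (by
                rw [Finset.mem_range] at hm
                omega)), TensorProduct.zero_tmul, smul_zero]
        · intro h
          exact absurd (Finset.mem_range.2 (Nat.succ_pos i)) h
    have h0 : L.mkQ.rTensor C (Coalgebra.comul (R := k) (ev j u p₀)) = 0 := by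
      rw [hp₀, map_zero, map_zero]
    rw [p₀.as_sum_range' (d + 1) (by omega), map_sum, map_sum, map_sum, Finset.sum_eq_single d] at h0
    rotate_left
    · intro i hi hne
      rw [Finset.mem_range] at hi
      rw [ev_monomial, hterm _ i (by omega), if_neg hne]
    · intro h
      exact absurd (Finset.mem_range.2 (Nat.lt_succ_self d)) h
    rw [ev_monomial, hterm _ d le_rfl, if_pos rfl] at h0
    obtain ⟨n, hn⟩ : ∃ n, e.coeff n ≠ 0 := by
      by_contra h
      push Not at h
      exact he (MonoidAlgebra.coeff_eq_zero.1 (Finsupp.ext h))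
    have hgi : LinearIndependent k (fun m : M => gl j m) := by
      have := hEi.comp (fun m : M => (m, (⟨0, hd⟩ : Fin d))) fun a b h => (Prod.ext_iff.1 h).1
      simpa [E, Function.comp_def] using this
    obtain ⟨f, hf⟩ := LinearMap.exists_extend ((Finsupp.lapply n).comp hgi.repr)
    have hfm : ∀ m, f (gl j m) = (Finsupp.single m (1 : k)) n := by
      intro m
      have := LinearMap.congr_fun hf ⟨gl j m, Submodule.subset_span ⟨m, rfl⟩⟩
      simp only [LinearMap.comp_apply, Submodule.subtype_apply] at this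
      rw [this, hgi.repr_eq_single m ⟨gl j m, Submodule.subset_span ⟨m, rfl⟩⟩ rfl]
      rfl
    have h2 := congrArg (fun z => TensorProduct.rid k (C ⧸ L) (f.lTensor (C ⧸ L) z)) h0
    simp only [Finsupp.sum, map_sum, map_smul, LinearMap.lTensor_tmul, TensorProduct.rid_tmul, hfm, map_zero] at h2
    rw [Finset.sum_eq_single n] at h2
    · rw [Finsupp.single_eq_same, one_smul, smul_eq_zero] at h2
      have h3 : gl j n * u ^ d ∈ L := (Submodule.Quotient.mk_eq_zero L).1 (h2.resolve_left hn)
      have hmul : ∀ y ∈ L, gl j n⁻¹ * y ∈ L := by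
        intro y hy
        induction hy using Submodule.span_induction with
        | mem y hy =>
          obtain ⟨⟨m, i⟩, rfl⟩ := hy
          show gl j n⁻¹ * (gl j m * u ^ (i : ℕ)) ∈ L
          rw [← mul_assoc, ← map_mul]
          exact hEL _ _ i.isLt
        | zero => rw [mul_zero]; exact zero_mem _
        | add a b _ _ ha hb => rw [mul_add]; exact add_mem ha hb
        | smul c a _ ha => rw [mul_smul_comm]; exact L.smul_mem c ha
      have := hmul _ h3
      rwa [← mul_assoc, ← map_mul, inv_mul_cancel, map_one, one_mul] at this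
    · intro m _ hm
      simp [Finsupp.single_eq_of_ne hm.symm]
    · intro h
      simp [Finsupp.notMem_support_iff.1 h]
  obtain ⟨l, hl⟩ := Finsupp.mem_span_range_iff_exists_finsupp.1 hud
  -- coordinates
  have hδ : ∀ κ : M × Fin d, ∃ δ : C →ₗ[k] k, ∀ κ', δ (E κ') = if κ' = κ then 1 else 0 := by
    intro κ
    obtain ⟨f, hf⟩ := LinearMap.exists_extend ((Finsupp.lapply κ).comp hEi.repr)
    refine ⟨f, fun κ' => ?_⟩
    have := LinearMap.congr_fun hf ⟨E κ', Submodule.subset_span ⟨κ', rfl⟩⟩
    simp only [LinearMap.comp_apply, Submodule.subtype_apply] at this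
    rw [this, hEi.repr_eq_single κ' ⟨E κ', Submodule.subset_span ⟨κ', rfl⟩⟩ rfl]
    exact Finsupp.single_apply
  choose δ hδ using hδ
  have hδn : ∀ κ (n : M) (i : ℕ), i < d → δ κ (gl j n * u ^ i) = if n = κ.1 ∧ i = κ.2 then 1 else 0 := by
    intro κ n i hi
    rw [show gl j n * u ^ i = E (n, ⟨i, hi⟩) from rfl, hδ]
    simp [Prod.ext_iff, Fin.ext_iff]
  have hδd : ∀ κ, δ κ (u ^ d) = l κ := by
    intro κ
    rw [← hl, Finsupp.sum, map_sum, Finset.sum_eq_single κ]
    · simp [hδ]
    · intro κ' _ hne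
      simp [hδ, hne]
    · intro h
      simp [Finsupp.notMem_support_iff.1 h]
  -- the coefficient as a function of a natural number
  let cf : M → ℕ → k := fun n i => if h : i < d then l (n, ⟨i, h⟩) else 0
  have hcf : ∀ κ : M × Fin d, l κ = cf κ.1 κ.2 := fun κ => by simp [cf]
  have main : ∀ (n₁ n₂ : M) (j₁ j₂ : ℕ), j₁ < d → j₂ < d →
      (if n₂ = 1 ∧ j₂ = 0 then cf n₁ j₁ else 0) + (if n₁ = γ ^ d ∧ j₁ = 0 then cf n₂ j₂ else 0) +
        (if j₁ + j₂ = d ∧ n₁ = γ ^ j₂ ∧ n₂ = 1 then (d.choose j₂ : k) else 0) =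
      if n₁ = n₂ * γ ^ j₂ then cf n₂ (j₁ + j₂) * ((j₁ + j₂).choose j₂ : k) else 0 := by
    intro n₁ n₂ j₁ j₂ h₁ h₂
    let κ₁ : M × Fin d := (n₁, ⟨j₁, h₁⟩)
    let κ₂ : M × Fin d := (n₂, ⟨j₂, h₂⟩)
    let Ψ : C ⊗[k] C →ₗ[k] k := (LinearMap.mul' k k).comp (TensorProduct.map (δ κ₁) (δ κ₂))
    have hΨ : ∀ x y, Ψ (x ⊗ₜ[k] y) = δ κ₁ x * δ κ₂ y := fun x y => by simp [Ψ]
    have hlhs : Ψ (Coalgebra.comul (R := k) (gl j 1 * u ^ d)) =
        (if n₂ = 1 ∧ j₂ = 0 then cf n₁ j₁ else 0) + (if n₁ = γ ^ d ∧ j₁ = 0 then cf n₂ j₂ else 0) +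
          (if j₁ + j₂ = d ∧ n₁ = γ ^ j₂ ∧ n₂ = 1 then (d.choose j₂ : k) else 0) := by
      rw [comul_gl_mul_pow j γ hu, map_sum]
      have hpt : ∀ m ∈ Finset.range (d + 1),
          Ψ ((d.choose m : k) • ((gl j (1 * γ ^ m) * u ^ (d - m)) ⊗ₜ[k] (gl j 1 * u ^ m))) =
          (if m = 0 then (if n₂ = 1 ∧ j₂ = 0 then cf n₁ j₁ else 0) else 0) +
          (if m = d then (if n₁ = γ ^ d ∧ j₁ = 0 then cf n₂ j₂ else 0) else 0) +
          (if m = j₂ then (if j₁ + j₂ = d ∧ n₁ = γ ^ j₂ ∧ n₂ = 1 then (d.choose j₂ : k) else 0) else 0) := by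
        intro m hm
        rw [Finset.mem_range] at hm
        rw [map_smul, hΨ, one_mul, smul_eq_mul]
        rcases Nat.eq_zero_or_pos m with rfl | hm0
        · rw [pow_zero, map_one, one_mul, Nat.sub_zero, hδd, show δ κ₂ (1 * u ^ 0) = δ κ₂ (gl j 1 * u ^ 0) by rw [map_one], hδn κ₂ 1 0 hd, Nat.choose_zero_right, Nat.cast_one,
            one_mul, hcf κ₁, if_pos rfl, if_neg (show ¬(0 = d) by omega), add_zero]
          by_cases hc : j₂ = 0
          · subst hc
            rw [if_pos rfl, if_neg (show ¬(j₁ + 0 = d ∧ _) by rintro ⟨h, -⟩; omega), add_zero]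
            by_cases hn : n₂ = 1
            · simp [κ₁, κ₂, hn]
            · simp [κ₁, κ₂, hn, Ne.symm hn]
          · rw [if_neg (show ¬(0 = j₂) by omega), add_zero]
            simp [κ₁, κ₂, hc, Ne.symm hc]
        · rcases Nat.lt_or_ge m d with hmd | hmd
          · rw [hδn κ₁ _ (d - m) (by omega), hδn κ₂ _ m hmd, if_neg (show ¬(m = 0) by omega),
              if_neg (show ¬(m = d) by omega), zero_add, zero_add]
            by_cases hc : m = j₂
            · subst hc
              rw [if_pos rfl]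
              by_cases hC : j₁ + m = d ∧ n₁ = γ ^ m ∧ n₂ = 1
              · obtain ⟨e1, e2, e3⟩ := hC
                rw [if_pos (⟨e1, e2, e3⟩ : j₁ + m = d ∧ n₁ = γ ^ m ∧ n₂ = 1)]
                simp [κ₁, κ₂, e2, e3, show d - m = j₁ by omega]
              · rw [if_neg hC]
                simp only [κ₁, κ₂]
                split_ifs with a b
                · exact absurd ⟨by omega, a.1.symm, b.1.symm⟩ hC
                all_goals simp
            · rw [if_neg hc]
              simp [κ₂, hc]
          · obtain rfl : m = d := by omega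
            rw [Nat.sub_self, pow_zero, mul_one, map_one, one_mul, hδd, hcf κ₂, Nat.choose_self, Nat.cast_one,
              one_mul, if_neg (show ¬(m = 0) by omega), if_pos rfl, if_neg (show ¬(m = j₂) by omega), zero_add,
              add_zero, show gl j (γ ^ m) = gl j (γ ^ m) * u ^ 0 by rw [pow_zero, mul_one], hδn κ₁ _ 0 hd]
            simp [κ₁, κ₂, eq_comm, and_comm]
      rw [Finset.sum_congr rfl hpt, Finset.sum_add_distrib, Finset.sum_add_distrib, Finset.sum_ite_eq',
        Finset.sum_ite_eq', Finset.sum_ite_eq', if_pos (Finset.mem_range.2 (by omega)),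
        if_pos (Finset.mem_range.2 (by omega)), if_pos (Finset.mem_range.2 (by omega))]
    have hrhs : Ψ (Coalgebra.comul (R := k) (gl j 1 * u ^ d)) =
        if n₁ = n₂ * γ ^ j₂ then cf n₂ (j₁ + j₂) * ((j₁ + j₂).choose j₂ : k) else 0 := by
      have hterm : ∀ κ ∈ l.support, Ψ (Coalgebra.comul (R := k) (E κ)) =
          if κ.1 = n₂ ∧ (κ.2 : ℕ) = j₁ + j₂ ∧ n₁ = n₂ * γ ^ j₂ then ((j₁ + j₂).choose j₂ : k) else 0 := by
        rintro ⟨n, i⟩ -
        show Ψ (Coalgebra.comul (R := k) (gl j n * u ^ (i : ℕ))) = _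
        rw [comul_gl_mul_pow j γ hu, map_sum]
        have hpt : ∀ m ∈ Finset.range ((i : ℕ) + 1),
            Ψ (((i : ℕ).choose m : k) • ((gl j (n * γ ^ m) * u ^ ((i : ℕ) - m)) ⊗ₜ[k] (gl j n * u ^ m))) =
            if m = j₂ then (if n = n₂ ∧ (i : ℕ) = j₁ + j₂ ∧ n₁ = n₂ * γ ^ j₂ then ((j₁ + j₂).choose j₂ : k)
              else 0) else 0 := by
          intro m hm
          rw [Finset.mem_range] at hm
          have := i.isLt
          rw [map_smul, hΨ, hδn κ₁ _ _ (by omega), hδn κ₂ _ m (by omega), smul_eq_mul]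
          by_cases hc : m = j₂
          · subst hc
            rw [if_pos rfl]
            by_cases hC : n = n₂ ∧ (i : ℕ) = j₁ + m ∧ n₁ = n₂ * γ ^ m
            · obtain ⟨e1, e2, e3⟩ := hC
              rw [if_pos (⟨e1, e2, e3⟩ : n = n₂ ∧ (i : ℕ) = j₁ + m ∧ n₁ = n₂ * γ ^ m)]
              simp [κ₁, κ₂, e1, e2, e3]
            · rw [if_neg hC]
              simp only [κ₁, κ₂]
              split_ifs with a b
              · exact absurd ⟨b.1, by omega, by rw [← b.1, a.1]⟩ hC
              all_goals simp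
          · rw [if_neg hc]
            simp [κ₂, hc]
        rw [Finset.sum_congr rfl hpt, Finset.sum_ite_eq']
        by_cases hP : n = n₂ ∧ (i : ℕ) = j₁ + j₂ ∧ n₁ = n₂ * γ ^ j₂
        · rw [if_pos hP, if_pos (Finset.mem_range.2 (by have := hP.2.1; omega))]
        · rw [if_neg hP, ite_self]
      rw [map_one, one_mul, ← hl, Finsupp.sum, map_sum, map_sum]
      simp only [map_smul]
      rw [Finset.sum_congr rfl fun κ hκ => by rw [hterm κ hκ]]
      by_cases hn : n₁ = n₂ * γ ^ j₂
      · rw [if_pos hn]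
        by_cases hlt : j₁ + j₂ < d
        · rw [Finset.sum_eq_single (n₂, (⟨j₁ + j₂, hlt⟩ : Fin d))]
          · simp [hn, cf, hlt]
          · rintro ⟨n, i⟩ _ hne
            rw [if_neg, smul_zero]
            rintro ⟨e1, e2, -⟩
            exact hne (Prod.ext e1 (Fin.ext e2))
          · intro h
            simp [Finsupp.notMem_support_iff.1 h]
        · rw [Finset.sum_eq_zero, show cf n₂ (j₁ + j₂) = 0 from dif_neg hlt, zero_mul]
          rintro ⟨n, i⟩ _
          rw [if_neg, smul_zero]
          rintro ⟨-, e2, -⟩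
          have := i.isLt
          simp only at e2
          omega
      · rw [if_neg hn, Finset.sum_eq_zero]
        intro κ _
        rw [if_neg (fun h => hn h.2.2), smul_zero]
    exact hlhs.symm.trans hrhs
  -- consequences
  have hbin : ∀ m, 0 < m → m < d → (d.choose m : k) = 0 := by
    intro m hm hmd
    have := main (γ ^ m) 1 (d - m) m (by omega) hmd
    rw [if_neg (show ¬((1 : M) = 1 ∧ m = 0) by omega), if_neg (show ¬(γ ^ m = γ ^ d ∧ d - m = 0) by omega),
      if_pos ⟨by omega, rfl, rfl⟩, if_pos (one_mul _).symm, show cf 1 (d - m + m) = 0 from dif_neg (by omega),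
      zero_mul, zero_add, zero_add] at this
    exact this
  have hone : ∀ n i, 0 < i → i < d → n ≠ 1 → cf n i = 0 := by
    intro n i hi hid hn
    have := main n n i 0 hid hd
    rw [if_neg (fun h => hn h.1), if_neg (show ¬(n = γ ^ d ∧ i = 0) by omega),
      if_neg (show ¬(i + 0 = d ∧ _) by rintro ⟨h, -⟩; omega)] at this
    simpa using this.symm
  have hsub : ∀ i m, 0 < m → m < i → i < d → cf 1 i * (i.choose m : k) = 0 := by
    intro i m hm hmi hid
    have := main (γ ^ m) 1 (i - m) m (by omega) (by omega)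
    rw [if_neg (show ¬((1 : M) = 1 ∧ m = 0) by omega), if_neg (show ¬(γ ^ m = γ ^ d ∧ i - m = 0) by omega),
      if_neg (show ¬(i - m + m = d ∧ _) by rintro ⟨h, -⟩; omega), if_pos (one_mul _).symm,
      show i - m + m = i by omega] at this
    simpa using this.symm
  have hper : ∀ i, 0 < i → i < d → cf 1 i ≠ 0 → γ ^ i = γ ^ d := by
    intro i hi hid hne
    by_contra hγ
    have := main (γ ^ d) 1 0 i hd hid
    rw [if_neg (show ¬((1 : M) = 1 ∧ i = 0) by omega), if_pos ⟨rfl, rfl⟩,
      if_neg (show ¬(0 + i = d ∧ _) by rintro ⟨h, -⟩; omega), if_neg (by rw [one_mul]; exact Ne.symm hγ)] at this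
    exact hne (by simpa using this)
  have hconst : ∀ n, cf n 0 = cf 1 0 * ((Finsupp.single (1 : M) (1 : k)) n - (Finsupp.single (γ ^ d) (1 : k)) n) := by
    intro n
    have := main n 1 0 0 hd hd
    rw [if_pos ⟨rfl, rfl⟩, if_neg (show ¬(0 + 0 = d ∧ _) by rintro ⟨h, -⟩; omega), add_zero, one_mul, pow_zero,
      show (0 + 0 : ℕ) = 0 from rfl, Nat.choose_self, Nat.cast_one, mul_one] at this
    simp only [and_true] at this
    rw [Finsupp.single_apply, Finsupp.single_apply]
    simp only [@eq_comm M (1 : M) n, @eq_comm M (γ ^ d) n]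
    split_ifs at this ⊢ <;> linear_combination this
  -- the monic relation
  let c : ℕ → MonoidAlgebra k M := fun i =>
    ∑ κ ∈ l.support.filter (fun κ => (κ.2 : ℕ) = i), MonoidAlgebra.single κ.1 (l κ)
  have hc : ∀ (i : ℕ) (n : M), (c i).coeff n = cf n i := by
    intro i n
    simp only [c, MonoidAlgebra.coeff_sum, Finsupp.finset_sum_apply, MonoidAlgebra.coeff_single, Finsupp.single_apply]
    by_cases hi : i < d
    · rw [Finset.sum_eq_single (n, (⟨i, hi⟩ : Fin d))]
      · simp [cf, hi]
      · rintro ⟨n', i'⟩ h hne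
        rw [if_neg]
        intro e
        exact hne (Prod.ext e (Fin.ext (Finset.mem_filter.1 h).2))
      · intro h
        simp only [Finset.mem_filter, and_true] at h
        simp [Finsupp.notMem_support_iff.1 h]
    · rw [show cf n i = 0 from dif_neg hi, Finset.sum_eq_zero]
      rintro ⟨n', i'⟩ h
      exact absurd ((Finset.mem_filter.1 h).2 ▸ i'.isLt) hi
  let r : (MonoidAlgebra k M)[X] := ∑ i ∈ Finset.range d, monomial i (c i)
  have hrdeg : r.degree < d := by
    refine lt_of_le_of_lt (Polynomial.degree_sum_le _ _) ((Finset.sup_lt_iff (WithBot.bot_lt_coe d)).2 ?_)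
    intro i hi
    exact lt_of_le_of_lt (degree_monomial_le _ _) (WithBot.coe_lt_coe.2 (Finset.mem_range.1 hi))
  let q : (MonoidAlgebra k M)[X] := X ^ d - r
  have hqm : q.Monic := monic_X_pow_sub hrdeg
  have hq0 : ev j u q = 0 := by
    simp only [q, r, map_sub, map_pow, ev_X, map_sum, ev_monomial, c, j_single, Finset.sum_mul, smul_mul_assoc]
    rw [sub_eq_zero]
    conv_lhs => rw [← hl]
    rw [Finsupp.sum, ← Finset.sum_fiberwise_of_maps_to (g := fun κ : M × Fin d => (κ.2 : ℕ))
      (t := Finset.range d) (fun κ _ => Finset.mem_range.2 κ.2.isLt)]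
    refine Finset.sum_congr rfl fun i _ => Finset.sum_congr rfl fun κ hκ => ?_
    rw [← (Finset.mem_filter.1 hκ).2]
  have hqr : q = relPoly γ d (cf 1) := by
    simp only [q, r, relPoly]
    refine congrArg (fun t => (X : (MonoidAlgebra k M)[X]) ^ d - t) (Finset.sum_congr rfl fun i hi => ?_)
    refine congrArg (monomial i) ?_
    rw [Finset.mem_range] at hi
    rcases Nat.eq_zero_or_pos i with rfl | hi0
    · refine MonoidAlgebra.ext (Finsupp.ext fun n => ?_)
      rw [relCoeff, if_pos rfl, hc, hconst n, MonoidAlgebra.coeff_smul, Finsupp.smul_apply, MonoidAlgebra.coeff_sub,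
        Finsupp.sub_apply, ← map_pow, MonoidAlgebra.of_apply, MonoidAlgebra.one_def, MonoidAlgebra.coeff_single,
        MonoidAlgebra.coeff_single, smul_eq_mul]
    · refine MonoidAlgebra.ext (Finsupp.ext fun n => ?_)
      rw [relCoeff, if_neg (by omega), hc, MonoidAlgebra.coe_algebraMap, Function.comp_apply,
        MonoidAlgebra.coeff_single, Finsupp.single_apply]
      split_ifs with h
      · rw [← h]; rfl
      · exact hone n i hi0 hi (Ne.symm h)
  refine ⟨d, cf 1, ⟨hd, hbin, fun i hi0 hi hz m hm hmi => (mul_eq_zero.1 (hsub i m hm hmi hi)).resolve_left hz,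
    fun i hi0 hi hz => hper i hi0 hi hz, by rw [← hqr]; exact hq0, hmin, fun p hp => ?_⟩⟩
  rw [← hqr, ← Polynomial.modByMonic_eq_zero_iff_dvd hqm]
  nontriviality MonoidAlgebra k M
  refine hmin _ ?_ ?_
  · have := congrArg (ev j u) (modByMonic_add_div (p := p) (q := q))
    rwa [map_add, map_mul, hq0, zero_mul, add_zero, hp] at this
  · have hqd : q.natDegree = d := by
      refine natDegree_eq_of_degree_eq_some ?_
      rw [degree_sub_eq_left_of_degree_lt (by rwa [degree_X_pow]), degree_X_pow]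
    rw [← hqd]
    refine natDegree_modByMonic_lt p hqm ?_
    intro h
    rw [h, natDegree_one] at hqd
    omega

/-- A relation satisfied by a skew primitive element is satisfied by `a (1 - γ)`. -/
theorem exists_scalar [IsAlgClosed k] (j : MonoidAlgebra k M →ₐc[k] C) (hj : Function.Injective j) (γ : M) {u : C}
    (hu : Coalgebra.comul (R := k) u = gl j γ ⊗ₜ[k] u + u ⊗ₜ[k] 1) :
    ∃ a : k, ∀ p : (MonoidAlgebra k M)[X], ev j u p = 0 →
      p.eval (a • (1 - MonoidAlgebra.of k M γ)) = 0 := by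
  rcases exists_relation j hj γ hu with h | ⟨d, c, h⟩
  · exact ⟨0, fun p hp => by rw [h p hp, eval_zero]⟩
  have hfd := degree_sum_monomial_lt d c
  have hf : (X ^ d - ∑ i ∈ Finset.range d, monomial i (c i) : k[X]).degree ≠ 0 := by
    rw [degree_sub_eq_left_of_degree_lt (by rwa [degree_X_pow]), degree_X_pow]
    exact_mod_cast h.pos.ne'
  obtain ⟨a, ha⟩ := IsAlgClosed.exists_root _ hf
  refine ⟨a, fun p hp => ?_⟩
  obtain ⟨t, rfl⟩ := h.dvd p hp
  rw [eval_mul, eval_relPoly h, show a ^ d - ∑ i ∈ Finset.range d, c i * a ^ i = 0 from by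
    simpa [IsRoot, eval_finsetSum] using ha, zero_smul, zero_mul]

end Groth.Agent.DiagSplit
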