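import Groth.Agent.DiagSplit.Skew
import Groth.Agent.UniPrim.Trig
import Groth.Agent.UniPrim.TrigSep
import Groth.Agent.S4103
import Groth.Prelude.Def_SGA3b
import Mathlib.RingTheory.Flat.FaithfullyFlat.Algebra

/-!
# Retractions onto a diagonalizable quotient with unipotent kernel
-/

universe u

set_option autoImplicit false
set_option maxHeartbeats 1000000
set_option synthInstance.maxHeartbeats 100000

open TensorProduct Polynomial
open scoped Classical
open Groth.Agent

noncomputable section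

namespace Groth.Agent.DiagSplit

variable {k : Type u} [Field k] {M : Type u} [CommGroup M] {C : Type u} [CommRing C] [HopfAlgebra k C]

theorem counit_skew (j : MonoidAlgebra k M →ₐc[k] C) (γ : M) {u : C}
    (hu : Coalgebra.comul (R := k) u = gl j γ ⊗ₜ[k] u + u ⊗ₜ[k] 1) : Coalgebra.counit (R := k) u = 0 := by
  have h := congrArg (TensorProduct.lid k C) (Coalgebra.rTensor_counit_comul (R := k) u)
  have hγ : Coalgebra.counit (R := k) (gl j γ) = 1 := by
    show Coalgebra.counit (R := k) (j (MonoidAlgebra.of k M γ)) = 1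
    rw [CoalgHomClass.counit_comp_apply]
    simp [MonoidAlgebra.of_apply]
  rw [hu, map_add, map_add, LinearMap.rTensor_tmul, LinearMap.rTensor_tmul, hγ, TensorProduct.lid_tmul,
    TensorProduct.lid_tmul, one_smul, add_eq_left] at h
  have h' := congrArg (Coalgebra.counit (R := k)) h
  rwa [map_smul, Bialgebra.counit_one, map_zero, smul_eq_mul, mul_one] at h'

theorem antipode_skew (j : MonoidAlgebra k M →ₐc[k] C) (γ : M) {u : C}
    (hu : Coalgebra.comul (R := k) u = gl j γ ⊗ₜ[k] u + u ⊗ₜ[k] 1) :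
    HopfAlgebra.antipode k u = -(gl j γ⁻¹ * u) := by
  have h := HopfAlgebra.mul_antipode_rTensor_comul_apply (R := k) u
  rw [hu, counit_skew j γ hu, map_zero, map_add, map_add, LinearMap.rTensor_tmul, LinearMap.rTensor_tmul,
    LinearMap.mul'_apply, LinearMap.mul'_apply, mul_one] at h
  have hg : HopfAlgebra.antipode k (gl j γ) = gl j γ⁻¹ := by
    show HopfAlgebra.antipode k (j (MonoidAlgebra.of k M γ)) = _
    rw [GrpSchLib.HopfGalois.antipode_bialgHom j]
    show j (HopfAlgebra.antipode k (MonoidAlgebra.single γ (1 : k))) = _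
    rw [MonoidAlgebra.antipode_single, HopfAlgebra.antipode_one]
    rfl
  rw [hg, add_comm] at h
  exact eq_neg_of_add_eq_zero_left h

theorem isHopfIdeal_span_skew (g g' z : C) (hz : Coalgebra.comul (R := k) z = g ⊗ₜ[k] z + z ⊗ₜ[k] (1 : C))
    (hε : Coalgebra.counit (R := k) z = 0) (hS : HopfAlgebra.antipode k z = g' * z) :
    (Ideal.span ({z} : Set C)).IsHopfIdeal k := by
  refine { counit_eq_zero := ?_, map_mkQ_comul_eq_zero := ?_, antipode_mem := ?_ }
  · intro x hx
    obtain ⟨c, rfl⟩ := Ideal.mem_span_singleton'.1 hx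
    rw [Bialgebra.counit_mul, hε, mul_zero]
  · intro x hx
    obtain ⟨c, rfl⟩ := Ideal.mem_span_singleton'.1 hx
    let q := Ideal.Quotient.mkₐ k (Ideal.span ({z} : Set C))
    have hq : q z = 0 := Ideal.Quotient.eq_zero_iff_mem.2 (Ideal.mem_span_singleton_self z)
    show Algebra.TensorProduct.map q q (Coalgebra.comul (R := k) (c * z)) = 0
    rw [Bialgebra.comul_mul, map_mul, hz, map_add, Algebra.TensorProduct.map_tmul, Algebra.TensorProduct.map_tmul,
      hq, TensorProduct.tmul_zero, TensorProduct.zero_tmul, add_zero, mul_zero]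
  · intro x hx
    obtain ⟨c, rfl⟩ := Ideal.mem_span_singleton'.1 hx
    show HopfAlgebra.antipodeAlgHom k C (c * z) ∈ _
    rw [map_mul]
    refine Ideal.mem_span_singleton'.2 ⟨HopfAlgebra.antipodeAlgHom k C c * g', ?_⟩
    rw [mul_assoc, ← hS]
    rfl

/-- `k[M][u]`. -/
def adj (j : MonoidAlgebra k M →ₐc[k] C) (u : C) : Subalgebra k C :=
  Algebra.adjoin k (Set.range (j : MonoidAlgebra k M →ₐ[k] C) ∪ {u})

theorem j_mem_adj (j : MonoidAlgebra k M →ₐc[k] C) (u : C) (y : MonoidAlgebra k M) : j y ∈ adj j u :=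
  Algebra.subset_adjoin (Or.inl ⟨y, rfl⟩)

theorem mem_adj (j : MonoidAlgebra k M →ₐc[k] C) (u : C) : u ∈ adj j u :=
  Algebra.subset_adjoin (Or.inr rfl)

theorem exists_ev_of_mem_adj (j : MonoidAlgebra k M →ₐc[k] C) (u : C) {x : C} (hx : x ∈ adj j u) :
    ∃ p, ev j u p = x := by
  have hle : adj j u ≤ ({ (ev j u).range.toSubsemiring with
      algebraMap_mem' := fun c => ⟨Polynomial.C (algebraMap k _ c),
        (ev_C j u _).trans ((j : MonoidAlgebra k M →ₐ[k] C).commutes c)⟩ } : Subalgebra k C) := by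
    refine Algebra.adjoin_le ?_
    rintro y (⟨y, rfl⟩ | hy)
    · exact ⟨Polynomial.C y, ev_C j u y⟩
    · exact ⟨X, (ev_X j u).trans (Set.mem_singleton_iff.1 hy).symm⟩
  exact hle hx

theorem comul_sub_scalar (j : MonoidAlgebra k M →ₐc[k] C) (γ : M) {u : C}
    (hu : Coalgebra.comul (R := k) u = gl j γ ⊗ₜ[k] u + u ⊗ₜ[k] 1) (a : k) :
    Coalgebra.comul (R := k) (u - j (a • (1 - MonoidAlgebra.of k M γ))) =
      gl j γ ⊗ₜ[k] (u - j (a • (1 - MonoidAlgebra.of k M γ))) +
        (u - j (a • (1 - MonoidAlgebra.of k M γ))) ⊗ₜ[k] (1 : C) := by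
  rw [show j (a • (1 - MonoidAlgebra.of k M γ)) = a • (1 - gl j γ) by rw [map_smul, map_sub, map_one]; rfl,
    map_sub, map_smul, map_sub, comul_gl, Bialgebra.comul_one, hu, Algebra.TensorProduct.one_def,
    TensorProduct.tmul_sub, TensorProduct.sub_tmul, TensorProduct.tmul_smul, ← TensorProduct.smul_tmul',
    TensorProduct.tmul_sub, TensorProduct.sub_tmul, smul_sub, smul_sub, smul_sub]
  abel

theorem isHopfSubalgebra_adj (j : MonoidAlgebra k M →ₐc[k] C) (γ : M) {u : C}
    (hu : Coalgebra.comul (R := k) u = gl j γ ⊗ₜ[k] u + u ⊗ₜ[k] 1) :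
    SGA3.IsHopfSubalgebra k C (adj j u) := by
  set T : Subalgebra k C := adj j u
  let jA : MonoidAlgebra k M →ₐ[k] C := j
  have hjT : ∀ y, jA y ∈ T := j_mem_adj j u
  have huT : u ∈ T := mem_adj j u
  have hgT : ∀ m, gl j m ∈ T := fun m => hjT (MonoidAlgebra.of k M m)
  constructor
  · intro b hb
    have hle : T ≤ (Algebra.TensorProduct.map T.val T.val).range.comap (Bialgebra.comulAlgHom k C) := by
      refine Algebra.adjoin_le ?_
      rintro y (⟨y, rfl⟩ | hy)
      · refine ⟨Algebra.TensorProduct.map (jA.codRestrict T hjT) (jA.codRestrict T hjT)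
          (Coalgebra.comul (R := k) y), ?_⟩
        refine Eq.trans ?_ (CoalgHomClass.map_comp_comul_apply j y)
        induction Coalgebra.comul (R := k) y using TensorProduct.induction_on with
        | zero => simp
        | tmul p q => rfl
        | add p q hp hq => simp only [map_add, hp, hq]
      · rw [Set.mem_singleton_iff.1 hy]
        refine ⟨(⟨gl j γ, hgT γ⟩ : T) ⊗ₜ[k] (⟨u, huT⟩ : T) + (⟨u, huT⟩ : T) ⊗ₜ[k] (1 : T), ?_⟩
        show _ = Coalgebra.comul (R := k) u
        rw [hu]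
        simp
    obtain ⟨y, hy⟩ := hle hb
    exact ⟨y, hy⟩
  · intro b hb
    have hle : T ≤ T.comap (HopfAlgebra.antipodeAlgHom k C) := by
      refine Algebra.adjoin_le ?_
      rintro y (⟨y, rfl⟩ | hy)
      · show HopfAlgebra.antipode k (j y) ∈ T
        rw [GrpSchLib.HopfGalois.antipode_bialgHom j]
        exact hjT _
      · rw [Set.mem_singleton_iff.1 hy]
        show HopfAlgebra.antipode k u ∈ T
        rw [antipode_skew j γ hu]
        exact T.neg_mem (T.mul_mem (hgT _) huT)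
    exact hle hb

/-- Killing a skew primitive element without losing `k[M]`. -/
theorem exists_skew_ideal [IsAlgClosed k] (j : MonoidAlgebra k M →ₐc[k] C) (hj : Function.Injective j) (γ : M) {u : C}
    (hu : Coalgebra.comul (R := k) u = gl j γ ⊗ₜ[k] u + u ⊗ₜ[k] 1) (hnot : u ∉ Set.range j) :
    ∃ Z : Ideal C, Z.IsHopfIdeal k ∧ Z ≠ ⊥ ∧ ∀ x, j x ∈ Z → x = 0 := by
  classical
  obtain ⟨a, ha⟩ := exists_scalar j hj γ hu
  let jA : MonoidAlgebra k M →ₐ[k] C := j
  let w : MonoidAlgebra k M := a • (1 - MonoidAlgebra.of k M γ)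
  let z : C := u - jA w
  have hz0 : z ≠ 0 := fun h => hnot ⟨w, (sub_eq_zero.1 h).symm⟩
  have hz : Coalgebra.comul (R := k) z = gl j γ ⊗ₜ[k] z + z ⊗ₜ[k] (1 : C) := comul_sub_scalar j γ hu a
  have hzS : HopfAlgebra.antipode k z = -gl j γ⁻¹ * z := by
    rw [antipode_skew j γ hz, neg_mul]
  refine ⟨Ideal.span {z}, isHopfIdeal_span_skew _ _ z hz (counit_skew j γ hz) hzS, fun h => hz0 (by
    simpa [Ideal.span_singleton_eq_bot] using h), fun x hx => ?_⟩
  let T : Subalgebra k C := adj j u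
  have hjT : ∀ y, jA y ∈ T := j_mem_adj j u
  have huT : u ∈ T := mem_adj j u
  have hT : SGA3.IsHopfSubalgebra k C T := isHopfSubalgebra_adj j γ hu
  haveI : Module.FaithfullyFlat T C := Groth.Agent.S4103.result k C T hT
  have hzT : z ∈ T := T.sub_mem huT (hjT w)
  have hx' : (⟨jA x, hjT x⟩ : T) ∈ Ideal.span ({⟨z, hzT⟩} : Set T) := by
    rw [← Ideal.comap_map_eq_self_of_faithfullyFlat (B := C) (Ideal.span ({⟨z, hzT⟩} : Set T)), Ideal.mem_comap,
      Ideal.map_span, Set.image_singleton]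
    exact hx
  obtain ⟨r, hr⟩ := Ideal.mem_span_singleton'.1 hx'
  obtain ⟨p, hp⟩ := exists_ev_of_mem_adj j u r.2
  have h0 : ev j u (p * (X - Polynomial.C w) - Polynomial.C x) = 0 := by
    rw [map_sub, map_mul, map_sub, hp, ev_X, ev_C, ev_C, sub_eq_zero]
    exact congrArg Subtype.val hr
  have h1 := ha _ h0
  rw [eval_sub, eval_mul, eval_sub, eval_X, eval_C, eval_C, sub_self, mul_zero, zero_sub, neg_eq_zero] at h1
  exact h1

/-- A composite of Hopf quotients is a Hopf quotient. -/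
theorem isHopfIdeal_comap {A : Type u} [CommRing A] [HopfAlgebra k A] (I : Ideal A) [I.IsHopfIdeal k]
    (Z : Ideal (A ⧸ I)) [Z.IsHopfIdeal k] : (Z.comap (Ideal.Quotient.mk I)).IsHopfIdeal k := by
  let π : A →ₐc[k] A ⧸ I := Bialgebra.Quotient.mkBialgHom I
  refine { counit_eq_zero := ?_, map_mkQ_comul_eq_zero := ?_, antipode_mem := ?_ }
  · intro x hx
    rw [← CoalgHomClass.counit_comp_apply π x]
    exact Submodule.IsCoideal.counit_eq_zero (I := Z.restrictScalars k) hx
  · intro x hx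
    let Q := Ideal.Quotient.mkₐ k (Z.comap (Ideal.Quotient.mk I))
    let qZ := Ideal.Quotient.mkₐ k Z
    let ι : A ⧸ Z.comap (Ideal.Quotient.mk I) →ₐ[k] (A ⧸ I) ⧸ Z :=
      Ideal.quotientMapₐ Z (Ideal.Quotient.mkₐ k I) le_rfl
    have hι : Function.Injective ι := Ideal.quotientMap_injective
    show Algebra.TensorProduct.map Q Q (Coalgebra.comul (R := k) x) = 0
    refine TensorProduct.map_injective_of_flat_flat ι.toLinearMap ι.toLinearMap hι hι ?_
    rw [map_zero]
    have h : Algebra.TensorProduct.map qZ qZ (Coalgebra.comul (R := k) (π x)) = 0 :=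
      Submodule.IsCoideal.map_mkQ_comul_eq_zero (I := Z.restrictScalars k) hx
    rw [← CoalgHomClass.map_comp_comul_apply π x] at h
    refine Eq.trans ?_ h
    induction Coalgebra.comul (R := k) x using TensorProduct.induction_on with
    | zero => simp
    | tmul p q => rfl
    | add p q hp hq => simp only [map_add, hp, hq]
  · intro x hx
    show Ideal.Quotient.mk I (HopfAlgebra.antipode k x) ∈ Z
    have h := GrpSchLib.HopfGalois.antipode_bialgHom π x
    rw [show Ideal.Quotient.mk I (HopfAlgebra.antipode k x) = HopfAlgebra.antipode k (π x) from h.symm]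
    exact Ideal.IsHopfIdeal.antipode_mem hx

theorem exists_dual_gl (j : MonoidAlgebra k M →ₐc[k] C) (hj : Function.Injective j) (g : M) :
    ∃ f : C →ₗ[k] k, ∀ m, f (gl j m) = if m = g then 1 else 0 := by
  classical
  have hgi : LinearIndependent k (fun m : M => gl j m) := by
    have h := (MonoidAlgebra.basis M k).linearIndependent.map'
      (j : MonoidAlgebra k M →ₗ[k] C) (LinearMap.ker_eq_bot.2 hj)
    have e : (fun m : M => gl j m) = ⇑(j : MonoidAlgebra k M →ₗ[k] C) ∘ ⇑(MonoidAlgebra.basis M k) := by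
      funext m
      simp [gl, MonoidAlgebra.of_apply]
    rw [e]
    exact h
  obtain ⟨f, hf⟩ := LinearMap.exists_extend ((Finsupp.lapply g).comp hgi.repr)
  refine ⟨f, fun m => ?_⟩
  have := LinearMap.congr_fun hf ⟨gl j m, Submodule.subset_span ⟨m, rfl⟩⟩
  simp only [LinearMap.comp_apply, Submodule.subtype_apply] at this
  rw [this, hgi.repr_eq_single m ⟨gl j m, Submodule.subset_span ⟨m, rfl⟩⟩ rfl]
  exact Finsupp.single_apply

/-- The components of an element that is semi-invariant modulo `k[M]`. -/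
theorem exists_components (j : MonoidAlgebra k M →ₐc[k] C) (hj : Function.Injective j) (x : C) (g : M)
    (s' : MonoidAlgebra k M ⊗[k] C)
    (hs' : (j : MonoidAlgebra k M →ₗ[k] C).rTensor C s' = Coalgebra.comul (R := k) x - x ⊗ₜ[k] gl j g) :
    ∃ cs : M →₀ C, Coalgebra.comul (R := k) x = x ⊗ₜ[k] gl j g + ∑ m ∈ cs.support, gl j m ⊗ₜ[k] cs m ∧
      ∀ m ∈ cs.support, Coalgebra.comul (R := k) (cs m) = gl j m ⊗ₜ[k] cs m + cs m ⊗ₜ[k] gl j g := by
  classical
  let Ψ : MonoidAlgebra k M ⊗[k] C ≃ₗ[k] (M →₀ C) :=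
    (TensorProduct.congr (MonoidAlgebra.coeffLinearEquiv k) (LinearEquiv.refl k _)).trans
      (TensorProduct.finsuppScalarLeft k C M)
  let cs : M →₀ C := Ψ s'
  have hsum : Coalgebra.comul (R := k) x = x ⊗ₜ[k] gl j g + ∑ m ∈ cs.support, gl j m ⊗ₜ[k] cs m := by
    have h : s' = ∑ m ∈ cs.support, MonoidAlgebra.single m (1 : k) ⊗ₜ[k] cs m := by
      apply Ψ.injective
      rw [map_sum]
      conv_lhs => rw [show Ψ s' = cs from rfl, ← Finsupp.sum_single cs, Finsupp.sum]
      refine Finset.sum_congr rfl fun m _ => Finsupp.ext fun i => ?_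
      simp [Ψ, Finsupp.single_apply]
    rw [← sub_eq_iff_eq_add', ← hs', h, map_sum]
    refine Finset.sum_congr rfl fun m _ => ?_
    rw [LinearMap.rTensor_tmul]
    rfl
  refine ⟨cs, hsum, fun m hm' => ?_⟩
  replace hm' : m ∈ cs.support := hm'
  obtain ⟨δm, hδm⟩ := exists_dual_gl j hj m
  have hco := Coalgebra.coassoc_apply (R := k) x
  simp only [hsum, map_add, map_sum, LinearMap.rTensor_tmul, LinearMap.lTensor_tmul, comul_gl,
    TensorProduct.add_tmul, TensorProduct.sum_tmul, TensorProduct.assoc_tmul] at hco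
  have h2 := congrArg (fun z => TensorProduct.lid k (C ⊗[k] C) (δm.rTensor (C ⊗[k] C) z)) hco
  simp only [map_add, map_sum, LinearMap.rTensor_tmul, TensorProduct.lid_tmul, hδm, ite_smul, one_smul,
    zero_smul, Finset.sum_ite_eq'] at h2
  simp only [if_pos hm'] at h2
  refine add_left_cancel (a := δm x • (gl j g ⊗ₜ[k] gl j g)) ?_
  refine Eq.trans ?_ (Eq.trans h2.symm ?_)
  · abel
  · abel

open ComodLib CoradFil in
/-- A skew primitive element outside a diagonalizable Hopf subalgebra with unipotent kernel. -/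
theorem exists_skew [Algebra.FiniteType k C] (j : MonoidAlgebra k M →ₐc[k] C) (hj : Function.Injective j)
    {T : Type u} [CommRing T] [Bialgebra k T] (q : C →ₐc[k] T) (hq : Function.Surjective q) (J : Ideal C)
    (hqJ : ∀ a, q a = 0 ↔ a ∈ J)
    (hJ : J = Ideal.map (j : MonoidAlgebra k M →+* C) (RingHom.ker (Bialgebra.counitAlgHom k (MonoidAlgebra k M))))
    (hU : HopfRep.IsUnipotent k T) (hns : ¬ Function.Surjective j) :
    ∃ (γ : M) (u : C), Coalgebra.comul (R := k) u = gl j γ ⊗ₜ[k] u + u ⊗ₜ[k] 1 ∧ u ∉ Set.range j := by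
  classical
  haveI : Algebra.FiniteType k (MonoidAlgebra k M) := UniPrim.finiteType_of_injective j hj
  let Bs : Submodule k C := LinearMap.range (j : MonoidAlgebra k M →ₗ[k] C)
  have hBs : HopfRep.IsSubcomod (k := k) (A := C) Bs := by
    rintro _ ⟨b, rfl⟩
    refine ⟨TensorProduct.map (j : MonoidAlgebra k M →ₗ[k] C).rangeRestrict (j : MonoidAlgebra k M →ₗ[k] C)
      (Coalgebra.comul (R := k) b), ?_⟩
    show _ = Coalgebra.comul (R := k) (j b)
    rw [← CoalgHomClass.map_comp_comul_apply j b, ← LinearMap.comp_apply, LinearMap.rTensor_comp_map]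
    rfl
  letI cQ : HopfRep.Comod k C (C ⧸ Bs) := ComodSub.Comod.quot (HopfRep.Comod.regular k C) Bs hBs
  have hmk : Hoch.IsComodHom C Bs.mkQ := ComodSub.isComodHom_mkQ (HopfRep.Comod.regular k C) Bs hBs
  obtain ⟨x₀, hx₀⟩ : ∃ x : C, x ∉ Bs := by
    simp only [Function.Surjective, not_forall] at hns
    obtain ⟨x, hx⟩ := hns
    exact ⟨x, fun ⟨b, hb⟩ => hx ⟨b, hb⟩⟩
  obtain ⟨U, hUf, hmem, hUsub⟩ := exists_finite_subcomod_mem (C := C) (k := k) (Bs.mkQ x₀)
  haveI := hUf
  haveI : Nontrivial U :=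
    ⟨⟨_, hmem⟩, 0, fun h => hx₀ ((Submodule.Quotient.mk_eq_zero Bs).1 (congrArg Subtype.val h))⟩
  letI cU : HopfRep.Comod k C U := ComodSub.Comod.restr cQ U hUsub
  obtain ⟨v, hv0, hv⟩ := UniPrim.exists_coeff_mem_range (V := U) j hj q hq J hqJ hJ hU
  obtain ⟨s, hs⟩ : cQ.coact (v : C ⧸ Bs) ∈ LinearMap.range (Bs.subtype.lTensor (C ⧸ Bs)) := by
    rw [ComodLib.mem_range_lTensor_subtype_iff]
    intro f
    obtain ⟨b, hb⟩ := hv (f ∘ₗ U.subtype)
    refine ⟨b, Eq.trans hb ?_⟩
    rw [← ComodSub.restr_coact_coe cQ U hUsub v, LinearMap.rTensor_comp]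
    rfl
  obtain ⟨t, ht⟩ : ∃ t : (C ⧸ Bs) ⊗[k] MonoidAlgebra k M,
      (j : MonoidAlgebra k M →ₗ[k] C).lTensor _ t = cQ.coact (v : C ⧸ Bs) := by
    obtain ⟨t, rfl⟩ :=
      LinearMap.lTensor_surjective (C ⧸ Bs) (j : MonoidAlgebra k M →ₗ[k] C).surjective_rangeRestrict s
    exact ⟨t, by rw [← hs, ← LinearMap.comp_apply, ← LinearMap.lTensor_comp]; rfl⟩
  let Φ : (C ⧸ Bs) ⊗[k] MonoidAlgebra k M ≃ₗ[k] (M →₀ C ⧸ Bs) :=
    (TensorProduct.congr (LinearEquiv.refl k _) (MonoidAlgebra.coeffLinearEquiv k)).trans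
      (TensorProduct.finsuppScalarRight k k (C ⧸ Bs) M)
  let vs : M →₀ C ⧸ Bs := Φ t
  have ht' : t = ∑ g ∈ vs.support, vs g ⊗ₜ[k] MonoidAlgebra.single g (1 : k) := by
    apply Φ.injective
    rw [map_sum]
    conv_lhs => rw [show Φ t = vs from rfl, ← Finsupp.sum_single vs, Finsupp.sum]
    refine Finset.sum_congr rfl fun g _ => Finsupp.ext fun i => ?_
    simp [Φ, Finsupp.single_apply]
  have hcoact : cQ.coact (v : C ⧸ Bs) = ∑ g ∈ vs.support, vs g ⊗ₜ[k] gl j g := by
    rw [← ht, ht', map_sum]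
    refine Finset.sum_congr rfl fun g _ => ?_
    rw [LinearMap.lTensor_tmul]
    rfl
  have hgi : LinearIndependent k (fun m : M => gl j m) := by
    have h := (MonoidAlgebra.basis M k).linearIndependent.map'
      (j : MonoidAlgebra k M →ₗ[k] C) (LinearMap.ker_eq_bot.2 hj)
    have e : (fun m : M => gl j m) = ⇑(j : MonoidAlgebra k M →ₗ[k] C) ∘ ⇑(MonoidAlgebra.basis M k) := by
      funext m
      simp [gl, MonoidAlgebra.of_apply]
    rw [e]
    exact h
  have hdual : ∀ g : M, ∃ f : C →ₗ[k] k, ∀ m, f (gl j m) = if m = g then 1 else 0 := by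
    intro g
    obtain ⟨f, hf⟩ := LinearMap.exists_extend ((Finsupp.lapply g).comp hgi.repr)
    refine ⟨f, fun m => ?_⟩
    have := LinearMap.congr_fun hf ⟨gl j m, Submodule.subset_span ⟨m, rfl⟩⟩
    simp only [LinearMap.comp_apply, Submodule.subtype_apply] at this
    rw [this, hgi.repr_eq_single m ⟨gl j m, Submodule.subset_span ⟨m, rfl⟩⟩ rfl]
    exact Finsupp.single_apply
  choose δ hδ using hdual
  obtain ⟨g, hg⟩ : ∃ g, vs g ≠ 0 := by
    by_contra h
    push Not at h
    have h1 : cQ.coact (v : C ⧸ Bs) = 0 := hcoact.trans (Finset.sum_eq_zero fun g _ => by rw [h g, TensorProduct.zero_tmul])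
    have h2 := LinearMap.congr_fun cQ.counit_comp (v : C ⧸ Bs)
    rw [LinearMap.comp_apply, h1, map_zero] at h2
    have h3 := congrArg (TensorProduct.rid k (C ⧸ Bs)) h2
    simp at h3
    exact hv0 (Subtype.ext (by simpa using h3.symm))
  -- coassociativity isolates a character
  have hchar : cQ.coact (vs g) = vs g ⊗ₜ[k] gl j g := by
    have hco := LinearMap.congr_fun cQ.coassoc (v : C ⧸ Bs)
    simp only [LinearMap.comp_apply, LinearEquiv.coe_coe] at hco
    rw [hcoact, map_sum, map_sum, map_sum] at hco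
    simp only [LinearMap.rTensor_tmul, LinearMap.lTensor_tmul] at hco
    have := congrArg (fun z => ((TensorProduct.rid k C).toLinearMap ∘ₗ (δ g).lTensor C).lTensor (C ⧸ Bs) z) hco
    simp only [map_sum] at this
    have e1 : ∀ (w : (C ⧸ Bs) ⊗[k] C) (m : M),
        ((TensorProduct.rid k C).toLinearMap ∘ₗ (δ g).lTensor C).lTensor (C ⧸ Bs)
          (TensorProduct.assoc k _ C C (w ⊗ₜ[k] gl j m)) = if m = g then w else 0 := by
      intro w m
      induction w using TensorProduct.induction_on with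
      | zero => simp
      | tmul p p' => simp [hδ]; split_ifs <;> simp
      | add p p' hp hp' => rw [TensorProduct.add_tmul, map_add, map_add, hp, hp']; split_ifs <;> simp
    simp only [e1, show ∀ m, CoalgebraStruct.comul (R := k) (gl j m) = gl j m ⊗ₜ[k] gl j m from comul_gl j,
      LinearMap.lTensor_tmul, LinearMap.comp_apply, LinearEquiv.coe_coe, TensorProduct.rid_tmul, hδ, ite_smul,
      one_smul, zero_smul, Finset.sum_ite_eq'] at this
    simp only [TensorProduct.tmul_ite] at this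
    rw [Finset.sum_ite_eq', if_pos (Finsupp.mem_support_iff.2 hg), if_pos (Finsupp.mem_support_iff.2 hg)] at this
    exact this
  obtain ⟨x, hx⟩ := Bs.mkQ_surjective (vs g)
  have hxB : x ∉ Bs := fun h => hg (by rw [← hx]; exact (Submodule.Quotient.mk_eq_zero Bs).2 h)
  obtain ⟨y, hy⟩ : Coalgebra.comul (R := k) x - x ⊗ₜ[k] gl j g ∈ LinearMap.range (Bs.subtype.rTensor C) := by
    refine CoradFil.mem_range_rTensor_of_mkQ Bs ?_
    have h := LinearMap.congr_fun hmk x
    simp only [LinearMap.comp_apply] at h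
    rw [map_sub, LinearMap.rTensor_tmul, sub_eq_zero, hx]
    refine Eq.trans h.symm ?_
    rw [hx]
    exact hchar
  obtain ⟨s', hs'⟩ : ∃ s' : MonoidAlgebra k M ⊗[k] C,
      (j : MonoidAlgebra k M →ₗ[k] C).rTensor C s' = Coalgebra.comul (R := k) x - x ⊗ₜ[k] gl j g := by
    obtain ⟨t, rfl⟩ := LinearMap.rTensor_surjective C (j : MonoidAlgebra k M →ₗ[k] C).surjective_rangeRestrict y
    exact ⟨t, by rw [← hy, ← LinearMap.comp_apply, ← LinearMap.rTensor_comp]; rfl⟩
  obtain ⟨cs, hsum, hcs⟩ := exists_components j hj x g s' hs'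
  obtain ⟨m, hm⟩ : ∃ m, cs m ∉ Bs := by
    by_contra h
    push Not at h
    refine hxB ?_
    have hc := congrArg (TensorProduct.lid k C) (Coalgebra.rTensor_counit_comul (R := k) x)
    rw [hsum, map_add, map_add, map_sum, map_sum, LinearMap.rTensor_tmul, TensorProduct.lid_tmul,
      TensorProduct.lid_tmul, one_smul] at hc
    rw [← hc]
    refine add_mem (Bs.smul_mem _ ⟨MonoidAlgebra.single g 1, rfl⟩) (Bs.sum_mem fun m _ => ?_)
    rw [LinearMap.rTensor_tmul, TensorProduct.lid_tmul]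
    exact Bs.smul_mem _ (h m)
  have hmc : Coalgebra.comul (R := k) (cs m) = gl j m ⊗ₜ[k] cs m + cs m ⊗ₜ[k] gl j g :=
    hcs m (Finsupp.mem_support_iff.2 fun h => hm (by rw [h]; exact zero_mem _))
  refine ⟨m * g⁻¹, cs m * gl j g⁻¹, ?_, fun ⟨b, hb⟩ => hm ⟨b * MonoidAlgebra.single g 1, ?_⟩⟩
  · rw [Bialgebra.comul_mul, hmc, comul_gl, add_mul, Algebra.TensorProduct.tmul_mul_tmul,
      Algebra.TensorProduct.tmul_mul_tmul, ← map_mul, ← map_mul, mul_inv_cancel, map_one]
  · show j (b * MonoidAlgebra.single g 1) = cs m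
    rw [map_mul, hb, show j (MonoidAlgebra.single g 1) = gl j g from rfl, mul_assoc, ← map_mul, inv_mul_cancel,
      map_one, mul_one]

/-- The kernel over a Hopf quotient of `A` is a quotient of the kernel, hence unipotent. -/
theorem isUnipotent_quot {A B : Type u} [CommRing A] [HopfAlgebra k A]
    [CommRing B] [HopfAlgebra k B] (e : B ≃ₐc[k] MonoidAlgebra k M) (ψ : B →ₐc[k] A)
    (J : Ideal A) [J.IsHopfIdeal k]
    (hJ : J = Ideal.map (ψ : B →+* A) (RingHom.ker (Bialgebra.counitAlgHom k B)))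
    (hU : HopfRep.IsUnipotent k (A ⧸ J)) (I : Ideal A) [I.IsHopfIdeal k]
    [(Ideal.map (((Bialgebra.Quotient.mkBialgHom I).comp (ψ.comp (e.symm : MonoidAlgebra k M →ₐc[k] B)) :
      MonoidAlgebra k M →ₐc[k] A ⧸ I) : MonoidAlgebra k M →+* A ⧸ I)
        (RingHom.ker (Bialgebra.counitAlgHom k (MonoidAlgebra k M)))).IsHopfIdeal k] :
    HopfRep.IsUnipotent k ((A ⧸ I) ⧸ Ideal.map (((Bialgebra.Quotient.mkBialgHom I).comp
      (ψ.comp (e.symm : MonoidAlgebra k M →ₐc[k] B)) : MonoidAlgebra k M →ₐc[k] A ⧸ I) :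
        MonoidAlgebra k M →+* A ⧸ I) (RingHom.ker (Bialgebra.counitAlgHom k (MonoidAlgebra k M)))) := by
  let π : A →ₐc[k] A ⧸ I := Bialgebra.Quotient.mkBialgHom I
  let j : MonoidAlgebra k M →ₐc[k] A ⧸ I := π.comp (ψ.comp (e.symm : MonoidAlgebra k M →ₐc[k] B))
  let JI : Ideal (A ⧸ I) :=
    Ideal.map (j : MonoidAlgebra k M →+* A ⧸ I) (RingHom.ker (Bialgebra.counitAlgHom k (MonoidAlgebra k M)))
  haveI : JI.IsHopfIdeal k := MultTypeLib.isHopfIdeal_map_ker j
  let qJ : A ⧸ I →ₐc[k] (A ⧸ I) ⧸ JI := Bialgebra.Quotient.mkBialgHom JI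
  have hle : J ≤ JI.comap (Ideal.Quotient.mk I) := by
    rw [hJ, Ideal.map_le_iff_le_comap]
    intro b hb
    show Ideal.Quotient.mk I (ψ b) ∈ JI
    have hmem : e b ∈ RingHom.ker (Bialgebra.counitAlgHom k (MonoidAlgebra k M)) :=
      (CoalgHomClass.counit_comp_apply (e : B →ₐc[k] MonoidAlgebra k M) b).trans hb
    have h := Ideal.mem_map_of_mem (j : MonoidAlgebra k M →+* A ⧸ I) hmem
    show π (ψ b) ∈ JI
    have he : j (e b) = π (ψ b) := by
      show π (ψ (e.symm (e b))) = _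
      rw [BialgEquiv.symm_apply_apply]
    rwa [← he]
  let f : A ⧸ J →ₐ[k] (A ⧸ I) ⧸ JI :=
    Ideal.Quotient.liftₐ J ((Ideal.Quotient.mkₐ k JI).comp (Ideal.Quotient.mkₐ k I)) fun a ha =>
      Ideal.Quotient.eq_zero_iff_mem.2 (hle ha)
  let g : A →ₐc[k] (A ⧸ I) ⧸ JI := qJ.comp π
  let F : A ⧸ J →ₐc[k] (A ⧸ I) ⧸ JI := BialgHom.ofAlgHom f
    (AlgHom.ext fun x => by
      obtain ⟨a, rfl⟩ := Ideal.Quotient.mk_surjective x
      exact CoalgHomClass.counit_comp_apply g a)
    (AlgHom.ext fun x => by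
      obtain ⟨a, rfl⟩ := Ideal.Quotient.mk_surjective x
      let qa : A →ₐc[k] A ⧸ J := Bialgebra.Quotient.mkBialgHom J
      show Algebra.TensorProduct.map f f (Coalgebra.comul (R := k) (qa a)) = Coalgebra.comul (R := k) (g a)
      rw [← CoalgHomClass.map_comp_comul_apply qa a, ← CoalgHomClass.map_comp_comul_apply g a]
      induction Coalgebra.comul (R := k) a using TensorProduct.induction_on with
      | zero => simp
      | tmul p q => rfl
      | add p q hp hq => simp only [map_add, hp, hq])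
  refine CoradFil.isUnipotent_of_exh (UniPrim.exh_of_surjective F ?_ (CoradFil.exh_of_isUnipotent hU))
  intro y
  obtain ⟨y, rfl⟩ := Ideal.Quotient.mk_surjective y
  obtain ⟨a, rfl⟩ := Ideal.Quotient.mk_surjective y
  exact ⟨Ideal.Quotient.mk J a, rfl⟩

/-- The retraction. -/
theorem exists_retraction [IsAlgClosed k] {A B : Type u} [CommRing A] [HopfAlgebra k A] [Algebra.FiniteType k A]
    [CommRing B] [HopfAlgebra k B] (hB : SGA3b.IsDiag k B) (ψ : B →ₐc[k] A) (hψ : Function.Injective ψ)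
    (J : Ideal A) [J.IsHopfIdeal k]
    (hJ : J = Ideal.map (ψ : B →+* A) (RingHom.ker (Bialgebra.counitAlgHom k B)))
    (hU : HopfRep.IsUnipotent k (A ⧸ J)) :
    ∃ r : A →ₐc[k] B, r.comp ψ = BialgHom.id k B := by
  obtain ⟨M, _, ⟨e⟩⟩ := hB
  haveI : IsNoetherianRing A := Algebra.FiniteType.isNoetherianRing k A
  let j₀ : MonoidAlgebra k M →ₐc[k] A := ψ.comp (e.symm : MonoidAlgebra k M →ₐc[k] B)
  have hj₀ : Function.Injective j₀ := hψ.comp e.symm.injective
  let S : Set (Ideal A) := {I | I.IsHopfIdeal k ∧ ∀ x, j₀ x ∈ I → x = 0}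
  have hS : S.Nonempty := by
    refine ⟨⊥, ?_, fun x hx => hj₀ ((Ideal.mem_bot.1 hx).trans (map_zero j₀).symm)⟩
    refine { counit_eq_zero := ?_, map_mkQ_comul_eq_zero := ?_, antipode_mem := ?_ }
    · intro x hx
      rw [show x = 0 from hx, map_zero]
    · intro x hx
      rw [show x = 0 from hx, map_zero, map_zero]
    · intro x hx
      rw [show x = 0 from hx, map_zero]
      exact zero_mem _
  obtain ⟨I, ⟨hI, hinj⟩, hmax⟩ := set_has_maximal_iff_noetherian.2 inferInstance S hS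
  haveI := hI
  let π : A →ₐc[k] A ⧸ I := Bialgebra.Quotient.mkBialgHom I
  let j : MonoidAlgebra k M →ₐc[k] A ⧸ I := π.comp j₀
  have hj : Function.Injective j := by
    intro x y h
    refine sub_eq_zero.1 (hinj _ ?_)
    rw [map_sub, ← Ideal.Quotient.eq_zero_iff_mem, map_sub, sub_eq_zero]
    exact h
  haveI : Algebra.FiniteType k (A ⧸ I) :=
    Algebra.FiniteType.of_surjective (Ideal.Quotient.mkₐ k I) Ideal.Quotient.mk_surjective
  suffices hsurj : Function.Surjective j by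
    let E : MonoidAlgebra k M ≃ₐc[k] A ⧸ I := BialgEquiv.ofBijective j ⟨hj, hsurj⟩
    refine ⟨(e.symm : MonoidAlgebra k M →ₐc[k] B).comp ((E.symm : A ⧸ I →ₐc[k] MonoidAlgebra k M).comp π), ?_⟩
    refine BialgHom.ext fun b => ?_
    show e.symm (E.symm (π (ψ b))) = b
    have hb : π (ψ b) = E (e b) := by
      show π (ψ b) = π (ψ (e.symm (e b)))
      rw [BialgEquiv.symm_apply_apply]
    rw [hb, BialgEquiv.symm_apply_apply, BialgEquiv.symm_apply_apply]
  by_contra hns
  let JI : Ideal (A ⧸ I) :=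
    Ideal.map (j : MonoidAlgebra k M →+* A ⧸ I) (RingHom.ker (Bialgebra.counitAlgHom k (MonoidAlgebra k M)))
  haveI : JI.IsHopfIdeal k := MultTypeLib.isHopfIdeal_map_ker j
  let qJ : A ⧸ I →ₐc[k] (A ⧸ I) ⧸ JI := Bialgebra.Quotient.mkBialgHom JI
  have hT : HopfRep.IsUnipotent k ((A ⧸ I) ⧸ JI) := isUnipotent_quot e ψ J hJ hU I
  obtain ⟨γ, u, hu, hu'⟩ := exists_skew j hj qJ (Ideal.Quotient.mk_surjective (I := JI)) JI
    (fun a => Ideal.Quotient.eq_zero_iff_mem) rfl hT hns
  obtain ⟨Z, hZ, hZ0, hZj⟩ := exists_skew_ideal j hj γ hu hu'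
  haveI := hZ
  refine hmax (Z.comap (Ideal.Quotient.mk I)) ⟨isHopfIdeal_comap I Z, fun x hx => hZj x hx⟩ ?_
  refine lt_of_le_of_ne (fun a ha => ?_) fun h => hZ0 ?_
  · show Ideal.Quotient.mk I a ∈ Z
    rw [Ideal.Quotient.eq_zero_iff_mem.2 ha]
    exact Z.zero_mem
  · rw [← Ideal.map_comap_of_surjective _ Ideal.Quotient.mk_surjective Z, ← h, Ideal.map_quotient_self]

end Groth.Agent.DiagSplit
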